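import Groth.Agent.CanonFacLib.Conormal
import Groth.Agent.RegSeqSlice.Section

/-!
# Sections of smooth morphisms
-/

set_option autoImplicit false
set_option backward.isDefEq.respectTransparency false
set_option linter.style.haveILetI false
set_option linter.unusedSectionVars false
set_option maxHeartbeats 1000000

universe u

open CategoryTheory CategoryTheory.Limits AlgebraicGeometry TopologicalSpace Opposite
open Groth.Agent.PullbackMod Groth.Agent.DCohLib Groth.Agent.ParaFLib

noncomputable section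

namespace Groth.Agent.CanonFac

/-- A section of a separated smooth morphism of relative dimension `n` is regular of codimension `n`. -/
theorem codim_section {P X : Scheme.{u}} [IsLocallyNoetherian X] (p : P ⟶ X) (n : ℕ)
    [SmoothOfRelativeDimension n p] [QuasiSeparated p] (σ : X ⟶ P) (hσ : σ ≫ p = 𝟙 X) [IsClosedImmersion σ] :
    RegImm.IsRegularImmersionOfCodim RegImm.Kind.regular n σ := by
  haveI : Smooth p := SmoothOfRelativeDimension.smooth n p
  obtain ⟨-, hreg⟩ := RegSeqSlice.isRegularClosedImmersion_section p σ hσ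
  refine ⟨inferInstance, fun z => ?_⟩
  obtain ⟨U, hU, hz, rs, hrs, hk⟩ := hreg z
  have hc : IsClosedImmersion (σ ∣_ U) := IsZariskiLocalAtTarget.restrict (P := @IsClosedImmersion) inferInstance U
  have hk' : RingHom.ker (σ.app U).hom = Ideal.ofList rs := (Scheme.Hom.ker_apply σ ⟨U, hU⟩).symm.trans hk
  refine ⟨⟨U, hU⟩, hz, hc, rs, ?_, hrs, hk'⟩
  obtain ⟨V, T, hzV, f, hf, hker⟩ := exists_tower_at σ (𝟙 P) (c := rs.length) z
    ⟨⟨U, hU⟩, hz, hc, rs, rfl, hrs, hk'⟩
  obtain ⟨e⟩ := T.nonempty_free hf hker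
  have h1 := freeAt_of_restrict_iso _ e hzV
  obtain ⟨κ⟩ := GrpOmega.conormal_section_iso σ hσ
  obtain ⟨W, s, hzW, hs⟩ := ((hasFrames_omega p n).pullback σ).2 z
  obtain ⟨h2⟩ := SeesawVB.freeAt_of_frame hs hzW
  exact freeAt_unique _ h1 ⟨(LinearEquiv.ofBijective (stalkLin κ.hom z)
    ⟨(mono_iff_stalk κ.hom).1 inferInstance z, (epi_iff_stalk κ.hom).1 inferInstance z⟩).trans h2⟩

end Groth.Agent.CanonFac
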