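import Groth.Agent.CanonFacLib.Peel
import Groth.Agent.ProperFin.PushHH

/-!
# Parts of a divisor
-/

set_option autoImplicit false
set_option backward.isDefEq.respectTransparency false
set_option backward.isDefEq.respectTransparency.types false
set_option linter.style.haveILetI false
set_option linter.unusedSectionVars false
set_option maxHeartbeats 1000000

universe u

open CategoryTheory CategoryTheory.Limits AlgebraicGeometry TopologicalSpace Opposite
open Groth.Agent.PullbackMod Groth.Agent.DCohLib

noncomputable section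

namespace Groth.Agent.CanonFac

/-- A part of a closed subscheme, as an ideal of that subscheme. -/
theorem ker_part {Z W X : Scheme.{u}} (g : Z ⟶ W) (ι : W ⟶ X) [IsClosedImmersion ι] (z : Z ⟶ X) [IsClosedImmersion z]
    (h : g ≫ ι = z) : g.ker = z.ker.comap ι := by
  have hl : g ≫ ι = 𝟙 Z ≫ z := by rw [Category.id_comp, h]
  let l := pullback.lift g (𝟙 Z) hl
  have hls : l ≫ pullback.snd ι z = 𝟙 Z := pullback.lift_snd _ _ _
  haveI : IsSplitEpi (pullback.snd ι z) := ⟨⟨⟨l, hls⟩⟩⟩
  haveI : IsIso (pullback.snd ι z) := isIso_of_mono_of_isSplitEpi _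
  haveI : IsIso l := IsIso.of_isIso_fac_right hls
  rw [← Scheme.IdealSheafData.ker_fst_of_isClosedImmersion, ← Scheme.Hom.ker_comp_of_isIso l, pullback.lift_fst]

/-- Inverse image along an isomorphism keeps vanishing cohomology. -/
theorem subsingleton_HH_pullback {A B : Scheme.{u}} (e : A ⟶ B) [IsIso e] (M : B.Modules) [Coh.IsQCoh M] (n : ℕ)
    (h : Subsingleton (Coh.HH B M n)) : Subsingleton (Coh.HH A ((Scheme.Modules.pullback e).obj M) n) := by
  haveI : (Scheme.Modules.pushforward e).IsEquivalence :=
    (CategoryTheory.Equivalence.mk (Scheme.Modules.pushforward e) (Scheme.Modules.pushforward (inv e))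
      ((Scheme.Modules.pushforwardId A).symm ≪≫
        (Scheme.Modules.pushforwardCongr (IsIso.hom_inv_id e)).symm ≪≫
        (Scheme.Modules.pushforwardComp e (inv e)).symm)
      ((Scheme.Modules.pushforwardComp (inv e) e) ≪≫
        Scheme.Modules.pushforwardCongr (IsIso.inv_hom_id e) ≪≫
        Scheme.Modules.pushforwardId B)).isEquivalence_functor
  haveI : (Scheme.Modules.pullback e).IsEquivalence :=
    (Scheme.Modules.pullbackPushforwardAdjunction e).isEquivalence_left_of_isEquivalence_right
  haveI : IsIso ((Scheme.Modules.pullbackPushforwardAdjunction e).unit.app M) := inferInstance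
  haveI : Coh.IsQCoh ((Scheme.Modules.pullback e).obj M) := PullbackMod.isQCoh_pullback _ _
  obtain ⟨E, -⟩ := ProperFin.exists_pushEquiv e (M := (Scheme.Modules.pullback e).obj M)
    (fun _ hV m => CohBase.affine_vanishing _ (hV.preimage e) m) n
  haveI : Subsingleton (Coh.HH B ((Scheme.Modules.pushforward e).obj ((Scheme.Modules.pullback e).obj M)) n) :=
    CurveLib.subsingleton_HH_iso (asIso ((Scheme.Modules.pullbackPushforwardAdjunction e).unit.app M)) n h
  exact E.toEquiv.subsingleton

/-- The part cut out by a closed immersion is its source. -/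
theorem exists_part {Z W : Scheme.{u}} (g : Z ⟶ W) [IsClosedImmersion g] :
    ∃ e : g.ker.subscheme ⟶ Z, IsIso e ∧ e ≫ g = g.ker.subschemeι :=
  ⟨inv g.toImage, inferInstance, (IsIso.inv_comp_eq _).2 (Scheme.Hom.toImage_imageι g).symm⟩

theorem subsingleton_part {Z W : Scheme.{u}} (g : Z ⟶ W) [IsClosedImmersion g] {M : W.Modules} (hM : PicF.IsInvertible M)
    (n : ℕ) (h : Subsingleton (Coh.HH Z ((Scheme.Modules.pullback g).obj M) n)) :
    Subsingleton (Coh.HH g.ker.subscheme ((Scheme.Modules.pullback g.ker.subschemeι).obj M) n) := by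
  obtain ⟨e, he, heq⟩ := exists_part g
  haveI := InvExt.isQCoh_of_isInvertible (AmpleLib.isInvertible_pullback g hM)
  let φ : (Scheme.Modules.pullback e).obj ((Scheme.Modules.pullback g).obj M) ≅
      (Scheme.Modules.pullback g.ker.subschemeι).obj M :=
    (Scheme.Modules.pullbackComp e g).app M ≪≫ (Scheme.Modules.pullbackCongr heq).app M
  have h1 := subsingleton_HH_pullback e ((Scheme.Modules.pullback g).obj M) n h
  exact CurveLib.subsingleton_HH_iso φ n h1

theorem iso_part {Z W : Scheme.{u}} (g : Z ⟶ W) [IsClosedImmersion g] {M : W.Modules}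
    (φ : (Scheme.Modules.pullback g).obj M ≅ Coh.structureModule Z) :
    Nonempty ((Scheme.Modules.pullback g.ker.subschemeι).obj M ≅ Coh.structureModule g.ker.subscheme) := by
  obtain ⟨e, he, heq⟩ := exists_part g
  exact ⟨((Scheme.Modules.pullbackComp e g).app M ≪≫ (Scheme.Modules.pullbackCongr heq).app M).symm ≪≫
    (Scheme.Modules.pullback e).mapIso φ ≪≫ AmpleLib.pullO e⟩

/-- Everything is trivial on the empty scheme. -/
theorem trivial_of_isEmpty {W : Scheme.{u}} [IsNoetherian W] [IsEmpty W] :
    Subsingleton (Coh.HH W (Coh.structureModule W) 1) ∧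
      ∀ N : W.Modules, Nonempty (N ≅ Coh.structureModule W) := by
  refine ⟨?_, fun N => ?_⟩
  · haveI : IsEmpty (IrreducibleCloseds W) := ⟨fun Z => isEmptyElim Z.isIrreducible.nonempty.some⟩
    exact CurveLib.subsingleton_HH_of_dim _ (d := 0) (le_of_eq_of_le Order.krullDim_eq_bot bot_le) one_pos
  · haveI : IsIso (0 : N ⟶ Coh.structureModule W) := (isIso_iff_stalk _).2 fun x => isEmptyElim x
    exact ⟨asIso (0 : N ⟶ Coh.structureModule W)⟩

end Groth.Agent.CanonFac
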