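import Groth.Agent.CanonFacLib.Dual
import Groth.Agent.CastLib.InterDeg
import Groth.Agent.CastLib.InterFibre

/-!
# The adjunction formula for vertical prime divisors
-/

set_option autoImplicit false
set_option backward.isDefEq.respectTransparency false
set_option linter.style.haveILetI false
set_option linter.unusedSectionVars false
set_option maxHeartbeats 1000000

universe u

open CategoryTheory CategoryTheory.Limits AlgebraicGeometry TopologicalSpace Opposite
open Groth.Agent.PullbackMod Groth.Agent.DCohLib Groth.Agent.ParaFLib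
open Groth.Agent.IntLib (mk pullCls mk_congr mk_tensor mk_eq_mk pullCls_mk)

noncomputable section

namespace Groth.Agent.CanonFac

/-- Canonical sheaves are invertible. -/
theorem isInvertible_of_isCanonical {X Y : Scheme.{u}} {f : X ⟶ Y} {ω : X.Modules} (hω : Canon.IsCanonical f ω) :
    PicF.IsInvertible ω := by
  obtain ⟨W, i, g, c, n, -, hi, hg, hiq, hgq, C, DΩ, hC, hDΩ, ⟨e⟩⟩ := hω
  haveI := hiq
  haveI := hgq
  haveI := hg
  have hCi := (hasFrames_conormal i hi).isInvertible hC
  obtain ⟨D, hD, ⟨eD⟩⟩ := AmpleEmb.exists_isInverseOf hCi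
  obtain ⟨e2⟩ := mk_eq_mk.1 (show mk (CohB1.tensorMod ((Scheme.Modules.pullback i).obj DΩ) D) = mk ω by
    rw [mk_tensor, mk_congr e.symm, mk_tensor, mul_assoc,
      (mk_tensor C D).symm.trans ((mk_congr eD).trans IntLib.mk_structureModule), mul_one])
  exact isInvertible_of_iso e2 (AmpleLib.isInvertible_tensor
    (AmpleLib.isInvertible_pullback i ((hasFrames_omega g n).isInvertible hDΩ)) hD)

variable {R : Type u} [CommRing R] [IsDomain R] [IsDiscreteValuationRing R]

local notation "K" => IsLocalRing.ResidueField R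

/-- Closed points of a vertical prime divisor have one-dimensional stalks. -/
theorem dim_stalk_vertComp {X : Over (Spec (CommRingCat.of R))} [IsProper X.hom] (E : ArSurf.VertComp R X)
    (x : E.curve.left) (hx : IsClosed ({x} : Set E.curve.left)) : ringKrullDim (E.curve.left.presheaf.stalk x) = 1 := by
  haveI := E.isIntegral
  haveI : IsProper E.curve.hom := CastLib.isProper_vertComp E
  refine ProjSerreLib.dim_closed_point_of_equidim E.curve.hom (n := 1) (by rw [E.dim_eq, Nat.cast_one]) (fun C hC => ?_) x hx
  rw [irreducibleComponents_eq_singleton, Set.mem_singleton_iff] at hC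
  rw [hC, IsHomeomorph.topologicalKrullDim_eq _ (Homeomorph.Set.univ _).isHomeomorph, E.dim_eq, Nat.cast_one]

/-- The restriction of `L ⊗ ω` to a vertical prime divisor is dualizing. -/
theorem exists_canonical_dual {X : Over (Spec (CommRingCat.of R))} (hX : ArSurf.IsArithSurface R X)
    {ω : X.left.Modules} (hω : Canon.IsCanonical X.hom ω) (E : ArSurf.VertComp R X)
    {L : X.left.Modules} (hL : ClSub.IsInverseOf L (ClSub.idealMod E.ι.ker)) :
    Canon.IsCanonical E.curve.hom ((Scheme.Modules.pullback E.ι).obj (CohB1.tensorMod L ω)) ∧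
    letI : E.curve.left.Over (Spec (CommRingCat.of K)) := ⟨E.curve.hom⟩
    PicF.IsInvertible ((Scheme.Modules.pullback E.ι).obj (CohB1.tensorMod L ω)) ∧
      ∀ M M' : E.curve.left.Modules, PicF.IsInvertible M →
        Nonempty (CohB1.tensorMod M M' ≅ Coh.structureModule E.curve.left) → ∀ j, j ≤ 1 →
          Module.finrank K (Coh.HH E.curve.left
              (CohB1.tensorMod ((Scheme.Modules.pullback E.ι).obj (CohB1.tensorMod L ω)) M') j) =
            Module.finrank K (Coh.HH E.curve.left M (1 - j)) := by
  haveI := hX.2.1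
  obtain ⟨hp, -⟩ := SurfPtBlow.arSurf_facts hX
  haveI := hp
  haveI := E.isIntegral
  haveI := E.isClosedImmersion
  have hcart := CastLib.isEffCartier_vertComp hX E
  obtain ⟨N, e, he, heq, hN, hec, hvia⟩ := exists_adjunction hX hω E.ι hcart E.curve.hom E.w
    (dim_stalk_vertComp E) hL
  haveI := he
  have hq : QuasiCompact e := inferInstance
  have hs : SmoothOfRelativeDimension N (CohB1.ProjSpace.toSpec N K) := FundLocIsoLib.smoothOfRelativeDimension_toSpec N K
  have hg : QuasiSeparated (CohB1.ProjSpace.toSpec N K) := inferInstance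
  refine ⟨⟨CohB1.ProjSpace N K, e, CohB1.ProjSpace.toSpec N K, N - 1, N, heq, hec, hs, hq, hg, hvia⟩, ?_⟩
  exact @finrank_dual K _ N E.curve.left ⟨E.curve.hom⟩ e he heq hN (dim_stalk_vertComp E) E.dim_eq.le hec _ hvia

theorem euler_of_dual {k : Type u} [Field k] {Z : Scheme.{u}} [Z.Over (Spec (CommRingCat.of k))] {W : Z.Modules}
    (h : ∀ j, j ≤ 1 → Module.finrank k (Coh.HH Z (CohB1.tensorMod W (Coh.structureModule Z)) j) =
      Module.finrank k (Coh.HH Z (Coh.structureModule Z) (1 - j))) :
    FGA.eulerCharLE k Z W 1 = -FGA.eulerCharLE k Z (Coh.structureModule Z) 1 := by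
  have hj : ∀ j, j ≤ 1 → Module.finrank k (Coh.HH Z W j) =
      Module.finrank k (Coh.HH Z (Coh.structureModule Z) (1 - j)) := fun j hj =>
    (LinearEquiv.ofBijective _ (CurveLib.hMap_bijective_iso (k := k) (AmpleLib.unitR W).symm j)).finrank_eq.trans
      (h j hj)
  simp only [FGA.eulerCharLE, Finset.sum_range_succ, Finset.sum_range_zero, zero_add, pow_zero, pow_one, one_mul,
    hj 0 zero_le_one, hj 1 le_rfl, Nat.sub_zero, Nat.sub_self]
  ring

/-- The numerical adjunction formula. -/
theorem inter_add_inter_eq {X : Over (Spec (CommRingCat.of R))} (hX : ArSurf.IsArithSurface R X)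
    {ω : X.left.Modules} (hω : Canon.IsCanonical X.hom ω) (E : ArSurf.VertComp R X)
    {L : X.left.Modules} (hL : ClSub.IsInverseOf L (ClSub.idealMod E.ι.ker)) :
    ArSurf.inter R X L E + ArSurf.inter R X ω E =
      -2 * FGA.eulerCharLE K E.curve.left (Coh.structureModule E.curve.left) 1 := by
  obtain ⟨-, -, hd⟩ := exists_canonical_dual hX hω E hL
  have hd0 := hd (Coh.structureModule E.curve.left) (Coh.structureModule E.curve.left)
    ParaFLib.isInvertible_structureModule ⟨AmpleLib.unitR (Coh.structureModule E.curve.left)⟩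
  haveI := (SurfPtBlow.arSurf_facts hX).1
  rw [← CastLib.inter_tensor E (CastLib.isInvertible_inverse_ideal hL) (isInvertible_of_isCanonical hω)]
  rw [ArSurf.inter, ArSurf.curveDeg, euler_of_dual hd0]
  ring

end Groth.Agent.CanonFac
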