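import Groth.Agent.CanonFacLib.Glue
import Groth.Agent.CanonFacLib.Adj
import Groth.Agent.BlowCompLib.Compose
import Groth.Agent.S8914

/-!
# The ideal of a part pulled back to a divisor
-/

set_option autoImplicit false
set_option backward.isDefEq.respectTransparency false
set_option backward.isDefEq.respectTransparency.types false
set_option linter.style.haveILetI false
set_option linter.unusedSectionVars false
set_option maxHeartbeats 1000000

universe u

open CategoryTheory CategoryTheory.Limits AlgebraicGeometry TopologicalSpace Opposite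
open Groth.Agent.PullbackMod Groth.Agent.DCohLib

noncomputable section

namespace Groth.Agent.CanonFac

/-- The inverse image of an invertible ideal surjects onto the extended ideal. -/
theorem exists_pull_surjective {X W : Scheme.{u}} (f : W ⟶ X) (J : X.IdealSheafData)
    (hJ : PicF.IsInvertible (ClSub.idealMod J)) :
    ∃ p : (Scheme.Modules.pullback f).obj (ClSub.idealMod J) ⟶ ClSub.idealMod (J.comap f),
      ∀ x, Function.Surjective (stalkLin p x) := by
  haveI := InvExt.isQCoh_of_isInvertible hJ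
  haveI : Coh.IsQCoh (Coh.structureModule X) := InvExt.isQCoh_of_isInvertible ParaFLib.isInvertible_structureModule
  let φ := (Scheme.Modules.pullback f).map (ClSub.idealModι J) ≫ (AmpleLib.pullO f).hom
  have hval : ∀ (x : W) (n : (ClSub.idealMod J).presheaf.stalk (f x)) (r : X.presheaf.stalk (f x)),
      stalkLin (ClSub.idealModι J) (f x) n = r • ParaFLib.oneG (f x) →
      stalkLin φ x (pullStalk f _ x n) = f.stalkMap x r •
        stalkLin (AmpleLib.pullO f).hom x (pullStalk f _ x (ParaFLib.oneG (f x))) := fun x n r h => by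
    rw [stalkLin_comp, LinearMap.comp_apply, pullStalk_natural, h, pullStalk_smul, map_smul]
  have hu : ∀ x : W, ∃ v, IsUnit v ∧
      stalkLin (AmpleLib.pullO f).hom x (pullStalk f _ x (ParaFLib.oneG (f x))) = v • ParaFLib.oneG x := fun x => by
    obtain ⟨v, hv⟩ := (ParaFLib.bijective_oneG x).2 (stalkLin (AmpleLib.pullO f).hom x (pullStalk f _ x (ParaFLib.oneG (f x))))
    refine ⟨v, ?_, hv.symm⟩
    obtain ⟨w, hw⟩ := ((isIso_iff_stalk (AmpleLib.pullO f).hom).1 inferInstance x).2 (ParaFLib.oneG x)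
    obtain ⟨a, ha⟩ := (AmpleLib.bijective_pullStalk f x (ParaFLib.bijective_oneG (f x))).2 w
    dsimp only at ha hv
    rw [← ha, map_smul, ← hv, smul_smul] at hw
    exact IsUnit.of_mul_eq_one_right _ ((ParaFLib.bijective_oneG x).1 (hw.trans (one_smul _ _).symm))
  have hker : φ ≫ ClSub.toSubscheme (J.comap f) = 0 := by
    refine hom_ext_stalk fun x => LinearMap.ext fun z => ?_
    obtain ⟨e, he⟩ := ParaFLib.exists_stalk_gen hJ (f x)
    obtain ⟨a, rfl⟩ := (AmpleLib.bijective_pullStalk f x he).2 z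
    obtain ⟨r, hr⟩ := (ParaFLib.bijective_oneG (f x)).2 (stalkLin (ClSub.idealModι J) (f x) e)
    obtain ⟨v, -, hv⟩ := hu x
    rw [DevLib.stalkLin_zero, LinearMap.zero_apply, stalkLin_comp, LinearMap.comp_apply, map_smul, hval x e r hr.symm,
      hv, smul_smul, smul_smul, map_smul, ← map_smul (stalkLin (ClSub.toSubscheme (J.comap f)) x)]
    refine (H1ZeroLib.qv_eq_zero_iff (J.comap f) x _).2 ?_
    rw [IdealStalkLib.stalkIdeal_comap]
    exact Ideal.mul_mem_right _ _ (Ideal.mul_mem_left _ _
      (Ideal.mem_map_of_mem _ ((HilbObsLib.mem_range_idealModι J (f x) r).1 ⟨e, hr.symm⟩)))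
  refine ⟨kernel.lift (ClSub.toSubscheme (J.comap f)) φ hker, fun x m => ?_⟩
  obtain ⟨r, hr⟩ := (ParaFLib.bijective_oneG x).2 (stalkLin (ClSub.idealModι (J.comap f)) x m)
  have hrJ : r ∈ IntMult.stalkIdeal (J.comap f) x := (HilbObsLib.mem_range_idealModι _ x r).1 ⟨m, hr.symm⟩
  have hsurj : ∃ w, stalkLin φ x w = r • ParaFLib.oneG x := by
    obtain ⟨v, hvu, hv⟩ := hu x
    obtain ⟨v', hv'⟩ := hvu.exists_left_inv
    rw [IdealStalkLib.stalkIdeal_comap] at hrJ
    clear hr
    induction hrJ using Submodule.span_induction with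
    | mem y hy =>
      obtain ⟨s, hs, rfl⟩ := hy
      obtain ⟨n, hn⟩ := (HilbObsLib.mem_range_idealModι J (f x) s).2 hs
      refine ⟨v' • pullStalk f _ x n, ?_⟩
      rw [map_smul, hval x n s hn, hv, smul_smul, smul_smul, mul_right_comm, hv', one_mul]
    | zero => exact ⟨0, by rw [map_zero, zero_smul]⟩
    | add a b _ _ ha hb =>
      obtain ⟨wa, hwa⟩ := ha
      obtain ⟨wb, hwb⟩ := hb
      exact ⟨wa + wb, by rw [map_add, hwa, hwb, add_smul]⟩
    | smul c a _ ha =>
      obtain ⟨wa, hwa⟩ := ha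
      exact ⟨c • wa, by rw [map_smul, hwa, smul_smul, smul_eq_mul]⟩
  obtain ⟨w, hw⟩ := hsurj
  refine ⟨w, (mono_iff_stalk (ClSub.idealModι (J.comap f))).1 (inferInstanceAs (Mono (kernel.ι _))) x ?_⟩
  rw [← LinearMap.comp_apply, ← stalkLin_comp]
  exact ((congrArg (fun g => stalkLin g x w) (kernel.lift_ι _ φ hker)).trans hw).trans hr

end Groth.Agent.CanonFac
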