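import Groth.Agent.CanonFacLib.Glue
import Groth.Agent.CanonFacLib.Peel
import Groth.Agent.CurveLib.Finite
import Groth.Agent.FormalAmpleLib.Generated
import Groth.Agent.AVLib.DivSection

/-!
# Generation of sheaves on curves without first cohomology
-/

set_option autoImplicit false
set_option backward.isDefEq.respectTransparency false
set_option linter.style.haveILetI false
set_option linter.unusedSectionVars false
set_option maxHeartbeats 1000000

universe u

open CategoryTheory CategoryTheory.Limits AlgebraicGeometry TopologicalSpace Opposite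
open Groth.Agent.PullbackMod Groth.Agent.DCohLib Groth.Agent.CurveLib Groth.Agent.H1ZeroLib Groth.Agent.TwistShriek
open Groth.Agent.ParaFLib (oneG bijective_oneG)
open scoped TensorProduct

noncomputable section

namespace Groth.Agent.CanonFac

variable {W : Scheme.{u}}

theorem sec_secHom (N : W.Modules) (σ : Γ(N, ⊤)) : AmpleLib.sec (DCohLib.secHom N σ) = σ :=
  (DCohLib.secHom_app_one N σ ⊤).trans (ConcreteCategory.congr_hom (N.presheaf.map_id _) σ)

/-- A module with a section degenerate at finitely many closed points is generated by its sections. -/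
theorem isGloballyGenerated_of_section [IsNoetherian W] (hdim : topologicalKrullDim W ≤ 1)
    (hO : Subsingleton (Coh.HH W (Coh.structureModule W) 1)) {N : W.Modules} (hN : PicF.IsInvertible N)
    (s : Coh.structureModule W ⟶ N) {C : Set W} (hfin : C.Finite) (hcl : ∀ x ∈ C, IsClosed ({x} : Set W))
    (hgen : ∀ x, x ∉ C → x ∈ CohB1.genLocus N s) : Curv2.IsGloballyGenerated N := by
  let π := cokernel.π s
  have hCc : IsClosed C := by
    rw [← Set.biUnion_of_singleton C]
    exact hfin.isClosed_biUnion hcl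
  have hdC : topologicalKrullDim C ≤ 0 := by
    haveI : T1Space C := ⟨fun x => by
      have h : ({x} : Set C) = Subtype.val ⁻¹' {x.1} := by ext y; simp [Subtype.ext_iff]
      rw [h]
      exact (hcl x.1 x.2).preimage continuous_subtype_val⟩
    haveI := hfin.to_subtype
    exact topologicalKrullDim_zero_of_discreteTopology C
  have hsup : CohB1.support (cokernel s) ⊆ C := by
    intro x hx
    by_contra hxC
    refine hx (subsingleton_of_forall_eq 0 fun z => ?_)
    obtain ⟨y, rfl⟩ := (epi_iff_stalk π).1 inferInstance x z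
    obtain ⟨v, rfl⟩ := (bijective_of_mem_genLocus hN (hgen x hxC)).2 y
    rw [← LinearMap.comp_apply, ← stalkLin_comp, cokernel.condition, DevLib.stalkLin_zero, LinearMap.zero_apply]
  have hsurj : Function.Surjective (π.app ⊤) := by
    refine SerreAff.surjective_top π ?_
    let j : Coh.structureModule W ⟶ kernel π := kernel.lift π s (cokernel.condition s)
    haveI : Epi j := by
      refine (epi_iff_stalk j).2 fun x y => ?_
      have hex : (ShortComplex.mk s π (cokernel.condition s)).Exact :=
        ShortComplex.exact_of_g_is_cokernel _ (cokernelIsCokernel s)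
      obtain ⟨v, hv⟩ := (DCohLib.exact_stalkLin _ hex x (stalkLin (kernel.ι π) x y)).1 (by
        show stalkLin π x (stalkLin (kernel.ι π) x y) = 0
        rw [← LinearMap.comp_apply, ← stalkLin_comp, kernel.condition, DevLib.stalkLin_zero, LinearMap.zero_apply])
      refine ⟨v, (mono_iff_stalk (kernel.ι π)).1 inferInstance x ?_⟩
      rw [← LinearMap.comp_apply, ← stalkLin_comp, kernel.lift_ι]
      exact hv
    exact CMRegLib.subsingleton_right (S := kerSeq j) (kerSeq_shortExact j ((epi_iff_stalk j).1 inferInstance)) 1 hO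
      (CurveLib.subsingleton_HH_of_dim _ (d := 1) (by exact_mod_cast hdim) (by omega))
  refine AmpleEmb.isGloballyGenerated_of_span (ι := Γ(N, ⊤)) id fun x => eq_top_iff.2 fun z _ => ?_
  obtain ⟨σ, hσ⟩ := CurveLib.exists_global_germ hCc hdC _ hsup x (stalkLin π x z)
  obtain ⟨t, rfl⟩ := hsurj σ
  have hex : (ShortComplex.mk s π (cokernel.condition s)).Exact :=
    ShortComplex.exact_of_g_is_cokernel _ (cokernelIsCokernel s)
  obtain ⟨v, hv⟩ := (DCohLib.exact_stalkLin _ hex x (z - N.presheaf.germ ⊤ x trivial t)).1 (by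
    show stalkLin π x (z - N.presheaf.germ ⊤ x trivial t) = 0
    rw [map_sub, stalkLin_germ, hσ, sub_self])
  obtain ⟨c, rfl⟩ := (bijective_oneG x).2 v
  have h1 : stalkLin s x (c • oneG x) = c • N.presheaf.germ ⊤ x trivial (AmpleLib.sec s) := by
    rw [map_smul]
    exact congrArg (c • ·) (stalkLin_germ s (U := ⊤) x trivial _)
  rw [show z = stalkLin s x (c • oneG x) + N.presheaf.germ ⊤ x trivial t from (eq_add_of_sub_eq hv.symm), h1]
  exact Submodule.add_mem _ (Submodule.smul_mem _ _ (Submodule.subset_span ⟨AmpleLib.sec s, rfl⟩))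
    (Submodule.subset_span ⟨t, rfl⟩)

/-- Finitely many points can be avoided by the zeros of one section, over an infinite field. -/
theorem exists_section_avoid {k : Type u} [Field k] [Infinite k] (γ : k →+* Γ(W, ⊤)) {N : W.Modules}
    (hN : PicF.IsInvertible N) (hgg : Curv2.IsGloballyGenerated N) (T : Finset W) :
    ∃ s : Coh.structureModule W ⟶ N, ∀ y ∈ T, y ∈ CohB1.genLocus N s := by
  classical
  have good : ∀ (y : W) (σ : Γ(N, ⊤)) (e : N.presheaf.stalk y)
      (_ : Function.Bijective fun r : W.presheaf.stalk y => r • e) (a : W.presheaf.stalk y),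
      a • e = N.presheaf.germ ⊤ y trivial σ → (y ∈ CohB1.genLocus N (DCohLib.secHom N σ) ↔ IsUnit a) := by
    intro y σ e he a ha
    rw [AmpleLib.mem_genLocus_iff hN, sec_secHom, ← ha, AmpleLib.bijective_smul_iff he]
  suffices h : ∃ σ : Γ(N, ⊤), ∀ y ∈ T, y ∈ CohB1.genLocus N (DCohLib.secHom N σ) from
    ⟨_, h.choose_spec⟩
  induction T using Finset.induction_on with
  | empty => exact ⟨0, fun y hy => absurd hy (Finset.notMem_empty y)⟩
  | @insert x T hx ih =>
    obtain ⟨σ, hσ⟩ := ih
    obtain ⟨e, he⟩ := ParaFLib.exists_stalk_gen hN x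
    obtain ⟨τ, hτ⟩ : ∃ τ : Γ(N, ⊤), x ∈ CohB1.genLocus N (DCohLib.secHom N τ) := by
      by_contra hno
      push Not at hno
      have hle : Submodule.span (W.presheaf.stalk x)
          (Set.range fun σ : Γ(N, ⊤) => N.presheaf.germ ⊤ x (Opens.mem_top x) σ) ≤
          Submodule.map (LinearMap.toSpanSingleton _ _ e) (IsLocalRing.maximalIdeal (W.presheaf.stalk x)) := by
        refine Submodule.span_le.2 ?_
        rintro _ ⟨τ, rfl⟩
        obtain ⟨a, ha⟩ := he.2 (N.presheaf.germ ⊤ x trivial τ)
        exact ⟨a, (IsLocalRing.mem_maximalIdeal a).2 fun hu => hno τ ((good x τ e he a ha).2 hu), ha⟩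
      rw [ProjBundleLib.span_germ_of_isGloballyGenerated hgg x] at hle
      obtain ⟨a, ha, hae⟩ := hle (Submodule.mem_top (x := e))
      have : a = 1 := he.1 (hae.trans (one_smul _ e).symm)
      exact (IsLocalRing.maximalIdeal.isMaximal _).ne_top ((Ideal.eq_top_iff_one _).2 (this ▸ ha))
    have hbad : ∀ y ∈ insert x T, {c : k | y ∉ CohB1.genLocus N
        (DCohLib.secHom N (σ + γ c • τ))}.Subsingleton := by
      intro y hy c hc c' hc'
      obtain ⟨e1, he1⟩ := ParaFLib.exists_stalk_gen hN y
      obtain ⟨a, ha⟩ := he1.2 (N.presheaf.germ ⊤ y trivial σ)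
      obtain ⟨b, hb⟩ := he1.2 (N.presheaf.germ ⊤ y trivial τ)
      dsimp only at ha hb
      let ρ := (W.presheaf.germ ⊤ y trivial).hom.comp γ
      have hval : ∀ d : k, (a + ρ d * b) • e1 = N.presheaf.germ ⊤ y trivial (σ + γ d • τ) := fun d => by
        rw [map_add, ParaFLib.germ_smul', add_smul, mul_smul, ha, hb]
        rfl
      have hm : ∀ d : k, y ∉ CohB1.genLocus N (DCohLib.secHom N (σ + γ d • τ)) →
          a + ρ d * b ∈ IsLocalRing.maximalIdeal _ := fun d hd =>
        (IsLocalRing.mem_maximalIdeal _).2 fun hu => hd ((good y _ e1 he1 _ (hval d)).2 hu)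
      by_contra hne
      have hu : IsUnit (ρ (c - c')) := (sub_ne_zero.2 hne).isUnit.map ρ
      have h2 : ρ (c - c') * b ∈ IsLocalRing.maximalIdeal _ := by
        rw [map_sub, show (ρ c - ρ c') * b = (a + ρ c * b) - (a + ρ c' * b) by ring]
        exact sub_mem (hm c hc) (hm c' hc')
      have hb' : b ∈ IsLocalRing.maximalIdeal _ := (Ideal.unit_mul_mem_iff_mem _ hu).1 h2
      have ha' : a ∈ IsLocalRing.maximalIdeal _ := by
        simpa using sub_mem (hm c hc) (Ideal.mul_mem_left _ (ρ c) hb')
      rcases Finset.mem_insert.1 hy with rfl | hyT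
      · exact (IsLocalRing.mem_maximalIdeal b).1 hb' ((good _ τ e1 he1 b hb).1 hτ)
      · exact (IsLocalRing.mem_maximalIdeal a).1 ha' ((good y σ e1 he1 a ha).1 (hσ y hyT))
    obtain ⟨c, hc⟩ := ((insert x T).finite_toSet.biUnion fun y hy => (hbad y hy).finite).infinite_compl.nonempty
    exact ⟨σ + γ c • τ, fun y hy => by
      by_contra h
      exact hc (Set.mem_biUnion hy h)⟩

/-- Two subsheaves with the same germs are isomorphic. -/
theorem nonempty_iso_of_range {A B C : W.Modules} (ψ : A ⟶ B) [Mono ψ] (σ : C ⟶ B) [Mono σ]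
    (h : ∀ x, Set.range (stalkLin σ x) = Set.range (stalkLin ψ x)) : Nonempty (A ≅ C) := by
  have hw : σ ≫ cokernel.π ψ = 0 := hom_ext_stalk fun x => LinearMap.ext fun z => by
    obtain ⟨v, hv⟩ := (h x).le ⟨z, rfl⟩
    rw [DevLib.stalkLin_zero, LinearMap.zero_apply, stalkLin_comp, LinearMap.comp_apply, ← hv,
      ← LinearMap.comp_apply, ← stalkLin_comp, cokernel.condition, DevLib.stalkLin_zero, LinearMap.zero_apply]
  let l := Abelian.monoLift ψ σ hw
  have hl : ∀ x z, stalkLin ψ x (stalkLin l x z) = stalkLin σ x z := fun x z => by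
    rw [← LinearMap.comp_apply, ← stalkLin_comp, Abelian.monoLift_comp]
  haveI : IsIso l := (isIso_iff_stalk l).2 fun x => ⟨fun z z' hzz => (mono_iff_stalk σ).1 inferInstance x
    (by rw [← hl, ← hl, hzz]), fun w => by
      obtain ⟨z, hz⟩ := (h x).ge ⟨w, rfl⟩
      exact ⟨z, (mono_iff_stalk ψ).1 inferInstance x ((hl x z).trans hz)⟩⟩
  exact ⟨(asIso l).symm⟩

/-- An integral scheme: a module with a section cutting out the image of an ideal is inverse to it. -/
theorem nonempty_tensor_iso_of_section {J : W.IdealSheafData} {M N : W.Modules} (hM : PicF.IsInvertible M)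
    (hN : PicF.IsInvertible N) (p : M ⟶ ClSub.idealMod J) (hp : ∀ x, Function.Surjective (stalkLin p x))
    (s : Coh.structureModule W ⟶ N)
    (hJ : ∀ x, ∃ f ∈ nonZeroDivisors (W.presheaf.stalk x), IntMult.stalkIdeal J x = Ideal.span {f} ∧
      ∃ e : N.presheaf.stalk x, Function.Bijective (fun r : W.presheaf.stalk x => r • e) ∧
        stalkLin s x (oneG x) = f • e) :
    Nonempty (CohB1.tensorMod M N ≅ Coh.structureModule W) := by
  let φ : M ⟶ Coh.structureModule W := p ≫ ClSub.idealModι J
  let ψ : CohB1.tensorMod M N ⟶ N := tmap φ N ≫ (AmpleLib.unitL N).hom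
  have key : ∀ x, ∃ (f : W.presheaf.stalk x) (e' : N.presheaf.stalk x)
      (g : (CohB1.tensorMod M N).presheaf.stalk x), f ∈ nonZeroDivisors _ ∧
      Function.Bijective (fun r : W.presheaf.stalk x => r • e') ∧
      Function.Bijective (fun r : W.presheaf.stalk x => r • g) ∧
      stalkLin ψ x g = f • e' ∧ ∃ v, IsUnit v ∧ stalkLin s x (oneG x) = (v * f) • e' := by
    intro x
    obtain ⟨f, hf, hfI, e, he, hse⟩ := hJ x
    obtain ⟨m, hm⟩ := ParaFLib.exists_stalk_gen hM x
    obtain ⟨a, ha⟩ := (bijective_oneG x).2 (stalkLin φ x m)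
    dsimp only at ha
    have ha' : stalkLin (ClSub.idealModι J) x (stalkLin p x m) = a • oneG x := by
      rw [← LinearMap.comp_apply, ← stalkLin_comp]; exact ha.symm
    obtain ⟨c, hc⟩ : ∃ c, c * f = a := Ideal.mem_span_singleton'.1
      (hfI ▸ (HilbObsLib.mem_range_idealModι J x a).1 ⟨stalkLin p x m, ha'⟩)
    obtain ⟨q, hq⟩ := (HilbObsLib.mem_range_idealModι J x f).2 (hfI.symm ▸ Ideal.mem_span_singleton_self f)
    obtain ⟨w, rfl⟩ := hp x q
    obtain ⟨d, rfl⟩ := hm.2 w
    have hdc : d * c = 1 := by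
      have h1 : (d * a) • oneG x = f • oneG x := by
        rw [mul_smul, ← ha', ← map_smul, ← map_smul]; exact hq
      refine (mul_cancel_right_mem_nonZeroDivisors hf).1 ?_
      rw [mul_assoc, hc, one_mul]
      exact (bijective_oneG x).1 h1
    have hcu : IsUnit c := IsUnit.of_mul_eq_one d ((mul_comm c d).trans hdc)
    let e₁ := stalkTensor x (Coh.structureModule W) N (oneG x ⊗ₜ e)
    have he₁ : Function.Bijective fun r : W.presheaf.stalk x => r • e₁ :=
      AmpleLib.bijective_stalkTensor (bijective_oneG x) he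
    have hu := (isIso_iff_stalk (AmpleLib.unitL N).hom).1 inferInstance x
    let e' := stalkLin (AmpleLib.unitL N).hom x e₁
    have he' : Function.Bijective fun r : W.presheaf.stalk x => r • e' := by
      rw [show (fun r : W.presheaf.stalk x => r • e') = stalkLin (AmpleLib.unitL N).hom x ∘ fun r => r • e₁ from
        funext fun r => (map_smul _ r e₁).symm]
      exact hu.comp he₁
    obtain ⟨v, hv⟩ := he'.2 e
    dsimp only at hv
    have hvu : IsUnit v := (AmpleLib.bijective_smul_iff he' v).1 (by rw [hv]; exact he)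
    obtain ⟨cu, rfl⟩ := hcu
    refine ⟨(cu : W.presheaf.stalk x) * f, e', stalkTensor x M N (m ⊗ₜ e),
      mul_mem cu.isUnit.mem_nonZeroDivisors hf, he', AmpleLib.bijective_stalkTensor hm he, ?_,
      v * ↑cu⁻¹, hvu.mul (Units.isUnit _), ?_⟩
    · have h2 : stalkLin (tmap φ N) x (stalkTensor x M N (m ⊗ₜ e)) = a • e₁ := by
        refine (stalkTensor_natural_left x φ _).trans ?_
        rw [LinearMap.rTensor_tmul, ← ha, ← TensorProduct.smul_tmul', map_smul]
      refine (LinearMap.congr_fun (stalkLin_comp (tmap φ N) (AmpleLib.unitL N).hom x) _).trans ?_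
      refine (congrArg (stalkLin (AmpleLib.unitL N).hom x) h2).trans ?_
      rw [map_smul, hc]
    · rw [hse, ← hv, smul_smul, show v * ↑cu⁻¹ * ((cu : W.presheaf.stalk x) * f) = f * v * (↑cu⁻¹ * ↑cu) by ring,
        Units.inv_mul, mul_one]
  haveI : Mono s := (mono_iff_stalk s).2 fun x => (injective_iff_map_eq_zero _).2 fun z hz => by
    obtain ⟨f, e', g, hf, he', -, -, v, hv, hs⟩ := key x
    obtain ⟨r, rfl⟩ := (bijective_oneG x).2 z
    rw [map_smul, hs, smul_smul] at hz
    have h1 : r * (v * f) = 0 := he'.1 (hz.trans (zero_smul _ e').symm)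
    rw [(mul_right_mem_nonZeroDivisors_eq_zero_iff (mul_mem hv.mem_nonZeroDivisors hf)).1 h1]
    exact zero_smul _ _
  haveI : Mono ψ := (mono_iff_stalk ψ).2 fun x => (injective_iff_map_eq_zero _).2 fun z hz => by
    obtain ⟨f, e', g, hf, he', hg, hψ, -⟩ := key x
    obtain ⟨r, rfl⟩ := hg.2 z
    rw [map_smul, hψ, smul_smul] at hz
    have h1 : r * f = 0 := he'.1 (hz.trans (zero_smul _ e').symm)
    rw [(mul_right_mem_nonZeroDivisors_eq_zero_iff hf).1 h1]
    exact zero_smul _ _
  refine nonempty_iso_of_range ψ s fun x => ?_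
  obtain ⟨f, e', g, -, -, hg, hψ, v, hv, hs⟩ := key x
  obtain ⟨v, rfl⟩ := hv
  ext z
  constructor
  · rintro ⟨w, rfl⟩
    obtain ⟨r, rfl⟩ := (bijective_oneG x).2 w
    exact ⟨(r * v) • g, by rw [map_smul, map_smul, hψ, hs, smul_smul, smul_smul, mul_assoc]⟩
  · rintro ⟨w, rfl⟩
    obtain ⟨r, rfl⟩ := hg.2 w
    exact ⟨(r * ↑v⁻¹) • oneG x, by
      rw [map_smul, map_smul, hψ, hs, smul_smul, smul_smul, mul_assoc, Units.inv_mul_cancel_left]⟩

end Groth.Agent.CanonFac
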