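import Groth.Agent.CanonFacLib.Descent
import Groth.Agent.CastLib.DedekindExt
import Groth.Agent.CastLib.ContractUnique

/-!
# Automorphisms of the canonical model
-/

set_option autoImplicit false
set_option backward.isDefEq.respectTransparency false
set_option linter.style.haveILetI false
set_option linter.unusedSectionVars false
set_option maxHeartbeats 1000000
set_option synthInstance.maxHeartbeats 200000

universe u

open CategoryTheory CategoryTheory.Limits AlgebraicGeometry TopologicalSpace

noncomputable section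

namespace Groth.Agent.CanonFac

open Groth.Agent.CastLib

variable {R : Type u} [CommRing R] [IsDomain R] [IsDiscreteValuationRing R] {X Y : Over (Spec (CommRingCat.of R))}

/-- Negative Euler characteristic forces first cohomology. -/
theorem nontrivial_HH_one {k : Type u} [Field k] {G : Scheme.{u}} [G.Over (Spec (CommRingCat.of k))] {F : G.Modules}
    (h : FGA.eulerCharLE k G F 1 < 0) : Nontrivial (Coh.HH G F 1) := by
  by_contra hn
  rw [not_nontrivial_iff_subsingleton] at hn
  rw [FGA.eulerCharLE, Finset.sum_range_succ, Finset.sum_range_one,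
    Module.finrank_zero_of_subsingleton (M := Coh.HH G F 1)] at h
  simp at h
  omega

/-- Morphisms agreeing on generic fibres agree. -/
theorem ext_generic_of_flat {A B : Over (Spec (CommRingCat.of R))} [IsIntegral A.left] [Flat A.hom] [IsSeparated B.hom]
    (f f' : A ⟶ B) (h : (Neron.genericFibre R).map f = (Neron.genericFibre R).map f') : f = f' := by
  have hη : genericPoint A.left ∈ SurfPtBlow.genSet A := by
    obtain ⟨a, ha, haη⟩ := Flat.generalizingMap A.hom (genericPoint_specializes (A.hom (genericPoint A.left)))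
    rw [← (ha.antisymm (genericPoint_specializes a)).eq] at *
    exact haη
  obtain ⟨a, ha⟩ := (SurfPtBlow.range_fst A).ge hη
  haveI : IsDominant (pullback.fst A.hom (Neron.genPt R)) := ⟨
    (dense_iff_closure_eq.2 (genericPoint_spec A.left).def).mono (Set.singleton_subset_iff.2 ⟨a, ha⟩)⟩
  refine Over.OverMorphism.ext (ext_of_isDominant_of_isSeparated B.hom ((Over.w f).trans (Over.w f').symm)
    (pullback.fst A.hom (Neron.genPt R)) ?_)
  rw [← SurfPtBlow.genMap_fst, ← SurfPtBlow.genMap_fst, h]

/-- Automorphisms of the generic fibre of the canonical model extend. -/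
theorem existsUnique_autom_canonical_model (hX : ArSurf.IsArithSurface R X) (hmin : Neron.IsRelMinimalRegularModel R X)
    (hH : Nontrivial (Coh.HH ((Neron.genericFibre R).obj X).left (Coh.structureModule _) 1))
    {ω : X.left.Modules} (hω : Canon.IsCanonical X.hom ω) {r : ℕ} (Γ : Fin r → ArSurf.VertComp R X)
    (hΓ : Function.Injective fun i => Set.range ((Γ i).ι.base : (Γ i).curve.left → X.left))
    (hK : ∀ i, ArSurf.inter R X ω (Γ i) = 0)
    (hall : ∀ C : ArSurf.VertComp R X, ArSurf.inter R X ω C = 0 →
      ∃ i, Set.range (C.ι.base : C.curve.left → X.left) = Set.range ((Γ i).ι.base : (Γ i).curve.left → X.left))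
    {f : X ⟶ Y} (hf : IsContr Γ f) (σ : (Neron.genericFibre R).obj Y ≅ (Neron.genericFibre R).obj Y) :
    ∃! τ : Y ⟶ Y, IsIso τ ∧ (Neron.genericFibre R).map τ = σ.hom := by
  haveI := hX.2.1
  haveI : IsProper X.hom := (SurfPtBlow.arSurf_facts hX).1
  haveI : IsIso ((Neron.genericFibre R).map f) := isIso_generic_of_contr hf
  let φ := asIso ((Neron.genericFibre R).map f) ≪≫ σ ≪≫ (asIso ((Neron.genericFibre R).map f)).symm
  obtain ⟨e, ⟨he, heφ⟩, -⟩ := existsUnique_extend hX hX hmin hmin hH φ
  haveI := he
  haveI : IsIso e.left := inferInstance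
  -- the curves are permuted
  obtain ⟨eω⟩ := nonempty_iso_open (𝟙 X.left) e.left X.hom X.hom (by rw [Category.id_comp, Over.w e]) hω hω
  have hmove : ∀ i, ∃ j, Set.range ((Γ i).ι ≫ e.left) = Set.range (Γ j).ι := fun i => by
    let C : ArSurf.VertComp R X :=
      { curve := (Γ i).curve
        ι := (Γ i).ι ≫ e.left
        isClosedImmersion := inferInstance
        isIntegral := (Γ i).isIntegral
        dim_eq := (Γ i).dim_eq
        w := by rw [Category.assoc, Over.w e]; exact (Γ i).w }
    refine hall C ?_
    haveI := isProper_vertComp (Γ i)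
    rw [ArSurf.inter, ← hK i, ArSurf.inter]
    exact curveDeg_iso (k := IsLocalRing.ResidueField R) (dim_vertComp (Γ i))
      (((Scheme.Modules.pullbackComp (Γ i).ι e.left).app ω).symm ≪≫
        (Scheme.Modules.pullback (Γ i).ι).mapIso (eω.symm ≪≫ (Scheme.Modules.pullbackId _).app ω))
  choose π hπ using hmove
  have hπi : Function.Injective π := fun i i' h => hΓ (by
    have h1 : e.left '' Set.range (Γ i).ι = e.left '' Set.range (Γ i').ι := by
      rw [← Set.range_comp, ← Set.range_comp]
      exact (hπ i).trans ((congrArg (fun j => Set.range (Γ j).ι) h).trans (hπ i').symm)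
    exact (Set.image_eq_image e.left.homeomorph.injective).1 h1)
  have hπs : Function.Surjective π := Finite.injective_iff_surjective.1 hπi
  have hE : e.left ⁻¹' (⋃ i, Set.range (Γ i).ι) = ⋃ i, Set.range (Γ i).ι := by
    have h1 : e.left '' (⋃ i, Set.range (Γ i).ι) = ⋃ i, Set.range (Γ i).ι := by
      rw [Set.image_iUnion, ← hπs.iUnion_comp (fun j => Set.range (Γ j).ι)]
      refine Set.iUnion_congr fun i => ?_
      rw [← Set.range_comp]
      exact hπ i
    exact (congrArg (e.left ⁻¹' ·) h1.symm).trans (e.left.homeomorph.injective.preimage_image _)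
  have hef : IsContr Γ (e ≫ f) := by
    obtain ⟨h1, h2, h3, h4, h5, hpt, hsat, hiso⟩ := hf
    have himg : (e ≫ f).left '' (⋃ i, Set.range (Γ i).ι) = f.left '' ⋃ i, Set.range (Γ i).ι := by
      conv_lhs => rw [← hE]
      rw [show ⇑(e ≫ f).left = f.left ∘ e.left from rfl, Set.image_comp,
        Set.image_preimage_eq _ (show Function.Surjective e.left from e.left.homeomorph.surjective)]
    refine ⟨h1, h2, h3, h4, h5, fun i => ?_, ?_, fun V hV => ?_⟩
    · obtain ⟨y, hy⟩ := hpt (π i)
      refine ⟨y, ?_⟩
      rw [← hy]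
      show Set.range (f.left ∘ ((Γ i).ι ≫ e.left)) = Set.range (f.left ∘ (Γ (π i)).ι)
      rw [Set.range_comp, hπ i, ← Set.range_comp]
    · show (e ≫ f).left ⁻¹' ((e ≫ f).left '' _) = _
      rw [himg, show ⇑(e ≫ f).left = f.left ∘ e.left from rfl, Set.preimage_comp]
      exact (congrArg (e.left ⁻¹' ·) hsat).trans hE
    · haveI := hiso V (by rwa [himg] at hV)
      rw [Over.comp_left, morphismRestrict_comp]
      infer_instance
  obtain ⟨⟨τ, hτ, -⟩, hτiso⟩ := hf.unique hX.2.2.2.2 hef
  obtain ⟨hint, -, -, hflat, hproj, -⟩ := hf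
  haveI := hint
  haveI := hflat
  haveI := CastLib.isProper_of_projective hproj
  have hmap : (Neron.genericFibre R).map τ = σ.hom := by
    rw [← cancel_epi ((Neron.genericFibre R).map f), ← Functor.map_comp, hτ, Functor.map_comp, heφ]
    simp [φ]
  exact ⟨τ, ⟨hτiso τ hτ, hmap⟩, fun τ' h' => ext_generic_of_flat τ' τ (h'.2.trans hmap.symm)⟩

end Groth.Agent.CanonFac
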