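import Groth.Agent.CastLib.BlowPic
import Groth.Agent.CastLib.Projective
import Groth.Agent.CastLib.Arith
import Groth.Agent.CastLib.Dedekind
import Groth.Agent.TwistShriek.PointDim
import Groth.Agent.SurfPtBlow.RelMin

/-!
# Blowing up a point of an arithmetic surface
-/

set_option autoImplicit false
set_option backward.isDefEq.respectTransparency false
set_option linter.style.haveILetI false
set_option linter.unusedSectionVars false
set_option maxHeartbeats 1000000

universe u

open CategoryTheory CategoryTheory.Limits AlgebraicGeometry TopologicalSpace IsLocalRing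

noncomputable section

namespace Groth.Agent.CanonFac

open Groth.Agent.TwistShriek Groth.Agent.TwistShriek.PointBlow Groth.Agent.SurfPtBlow

variable {R : Type u} [CommRing R] [IsDomain R] [IsDiscreteValuationRing R] {Y : Over (Spec (CommRingCat.of R))}

theorem isArith_blowUp (hY : ArSurf.IsArithSurface R Y) {y : Y.left} (hy : IsClosed ({y} : Set Y.left))
    {X : Scheme.{u}} (f : X ⟶ Y.left) (hf : BlowUp.IsBlowUp f (pointIdeal hy))
    (hd : ringKrullDim (Y.left.presheaf.stalk y) = 2) : ArSurf.IsArithSurface R (Over.mk (f ≫ Y.hom)) := by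
  have h := CastLib.VSurf.of_arith hY
  haveI := h.int
  haveI := h.noeth
  haveI := h.proper
  obtain ⟨P⟩ := exists_pointParams hy (h.reg y) hd
  haveI := PointBlow.isProper hf
  haveI : IsLocallyNoetherian X := LocallyOfFiniteType.isLocallyNoetherian f
  haveI : CompactSpace X := QuasiCompact.compactSpace_of_compactSpace f
  haveI : AlgebraicGeometry.IsNoetherian X := ⟨⟩
  obtain ⟨hXi, V, hV, hVi⟩ := integral_blowUp hf hd
  haveI := hXi
  have hreg := fun z => regular_blowUp hf h.reg hd z
  obtain ⟨hgen, -⟩ := BirQFLib.birational_of_isIso_restrict f V hV hVi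
  have hsurj : Function.Surjective f := fun z => by
    have hz := BirQFLib.denseRange_generic f hgen z
    rwa [f.isClosedMap.isClosed_range.closure_eq] at hz
  have hle : topologicalKrullDim X ≤ ((2 : ℕ) : WithBot ℕ∞) :=
    TwistShriek.PointBlow.topologicalKrullDim_blowUp_le hf P (by exact_mod_cast hY.2.2.1.le)
  have hdim : topologicalKrullDim X = 2 := le_antisymm (by exact_mod_cast hle)
    (hY.2.2.1.ge.trans (topologicalKrullDim_le_of_isClosedMap f.continuous f.isClosedMap hsurj))
  have hη : f (genericPoint X) = genericPoint Y.left := hgen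
  have hne : (f ≫ Y.hom) (genericPoint X) ≠ closedPoint R := by
    rw [Scheme.Hom.comp_apply, hη]
    exact h.genPt_not_fibre
  haveI : IsDominant (f ≫ Y.hom) := ⟨by
    have h1 : (f ≫ Y.hom) (genericPoint X) = genericPoint (Spec (CommRingCat.of R)) := by
      rw [Scheme.Hom.comp_apply, hη]
      exact CastLib.apply_genericPoint hY
    exact (dense_iff_closure_eq.2 (genericPoint_spec (Spec (CommRingCat.of R))).def).mono
      (Set.singleton_subset_iff.2 ⟨_, h1⟩)⟩
  obtain ⟨L, hL⟩ := CastLib.exists_isAmple_local (A := R) hreg (by exact_mod_cast hle) (f ≫ Y.hom) hne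
  haveI : IsProper (Over.mk (f ≫ Y.hom)).hom := inferInstanceAs (IsProper (f ≫ Y.hom))
  exact ⟨hreg, hXi, hdim, CastLib.flat_of_dominant (f ≫ Y.hom),
    CastLib.isProjectiveOver_of_isAmple (Over.mk (f ≫ Y.hom)) hL⟩

end Groth.Agent.CanonFac
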