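import Groth.Agent.CanonFacLib.Adj
import Groth.Agent.CurveLib.Sections
import Groth.Agent.CurveLib.DegTensor

/-!
# Vanishing on vertical prime divisors
-/

set_option autoImplicit false
set_option backward.isDefEq.respectTransparency false
set_option linter.style.haveILetI false
set_option linter.unusedSectionVars false
set_option maxHeartbeats 1000000

universe u

open CategoryTheory CategoryTheory.Limits AlgebraicGeometry TopologicalSpace Opposite
open Groth.Agent.PullbackMod Groth.Agent.DCohLib

noncomputable section

namespace Groth.Agent.CanonFac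

variable {R : Type u} [CommRing R] [IsDomain R] [IsDiscreteValuationRing R]

local notation "K" => IsLocalRing.ResidueField R

/-- A line bundle of degree above `(E + K) · E` has no first cohomology. -/
theorem subsingleton_H1_of_deg {X : Over (Spec (CommRingCat.of R))} (hX : ArSurf.IsArithSurface R X)
    {ω : X.left.Modules} (hω : Canon.IsCanonical X.hom ω) (E : ArSurf.VertComp R X)
    {L : X.left.Modules} (hL : ClSub.IsInverseOf L (ClSub.idealMod E.ι.ker))
    {N : E.curve.left.Modules} (hN : PicF.IsInvertible N)
    (hdeg : ArSurf.inter R X L E + ArSurf.inter R X ω E < ArSurf.curveDeg K E.curve.left N) :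
    Subsingleton (Coh.HH E.curve.left N 1) := by
  haveI := (SurfPtBlow.arSurf_facts hX).1
  haveI := E.isIntegral
  haveI := CastLib.isProper_vertComp E
  obtain ⟨-, hW, hd⟩ := exists_canonical_dual hX hω E hL
  obtain ⟨D, hD, ⟨eD⟩⟩ := AmpleEmb.exists_isInverseOf hN
  have h1 := hd N D hN ⟨eD⟩ 0 zero_le_one
  set W := (Scheme.Modules.pullback E.ι).obj (CohB1.tensorMod L ω)
  have hdim := CastLib.dim_vertComp E
  have hWdeg : Curv2.deg K E.curve.left W 1 = ArSurf.inter R X L E + ArSurf.inter R X ω E := by
    rw [← CastLib.inter_tensor E (CastLib.isInvertible_inverse_ideal hL) (isInvertible_of_isCanonical hω),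
      ArSurf.inter, CastLib.curveDeg_eq_deg hdim]
  have hDdeg : Curv2.deg K E.curve.left N 1 + Curv2.deg K E.curve.left D 1 = 0 := by
    rw [← CurveLib.deg_tensor_add (k := K) hdim hN hD, CurveLib.deg_iso eD, CurveLib.deg_structureModule]
  have hneg : Curv2.deg K E.curve.left (CohB1.tensorMod W D) 1 < 0 := by
    rw [CastLib.curveDeg_eq_deg hdim] at hdeg
    rw [CurveLib.deg_tensor_add (k := K) hdim hW hD]
    linarith
  have h0 : Subsingleton (Coh.HH E.curve.left (CohB1.tensorMod W D) 0) := by
    by_contra hns
    haveI := not_subsingleton_iff_nontrivial.1 hns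
    obtain ⟨s, hs⟩ := CurveLib.exists_hom_ne_zero (CohB1.tensorMod W D)
    have h := (CurveLib.deg_le_of_ne_zero (k := K) hdim ParaFLib.isInvertible_structureModule
      (AmpleLib.isInvertible_tensor hW hD) hs).1
    rw [CurveLib.deg_structureModule] at h
    linarith
  haveI := EulerIneqLib.isNoetherian_proper (X := E.curve.left) K
  haveI := EulerIneqLib.finite_HH (k := K) (X := E.curve.left)
    (CurveLib.isCoh_of_isFinLocFree (CurveLib.isFinLocFree_of_isInvertible hN)) 1
  rw [Module.finrank_zero_of_subsingleton] at h1
  exact (Module.finrank_eq_zero_iff_of_free K (Coh.HH E.curve.left N 1)).1 h1.symm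

/-- With negative `(E + K) · E` a line bundle of degree zero is trivial. -/
theorem nonempty_iso_of_deg_zero {X : Over (Spec (CommRingCat.of R))} (hX : ArSurf.IsArithSurface R X)
    {ω : X.left.Modules} (hω : Canon.IsCanonical X.hom ω) (E : ArSurf.VertComp R X)
    {L : X.left.Modules} (hL : ClSub.IsInverseOf L (ClSub.idealMod E.ι.ker))
    (hneg : ArSurf.inter R X L E + ArSurf.inter R X ω E < 0)
    {N : E.curve.left.Modules} (hN : PicF.IsInvertible N) (hdeg : ArSurf.curveDeg K E.curve.left N = 0) :
    Nonempty (N ≅ Coh.structureModule E.curve.left) := by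
  haveI := (SurfPtBlow.arSurf_facts hX).1
  haveI := E.isIntegral
  haveI := CastLib.isProper_vertComp E
  have hdim := CastLib.dim_vertComp E
  have hχ : 0 < FGA.eulerCharLE K E.curve.left (Coh.structureModule E.curve.left) 1 := by
    have := inter_add_inter_eq hX hω E hL
    linarith
  have hχN : 0 < FGA.eulerCharLE K E.curve.left N 1 := by
    unfold ArSurf.curveDeg at hdeg
    linarith
  haveI : Nontrivial (Coh.HH E.curve.left N 0) := by
    by_contra h
    rw [not_nontrivial_iff_subsingleton] at h
    haveI := h
    simp only [FGA.eulerCharLE, Finset.sum_range_succ, Finset.sum_range_zero, zero_add, pow_zero, pow_one, one_mul,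
      Module.finrank_zero_of_subsingleton (R := K) (M := Coh.HH E.curve.left N 0), Nat.cast_zero] at hχN
    omega
  obtain ⟨s, hs⟩ := CurveLib.exists_hom_ne_zero N
  rw [CastLib.curveDeg_eq_deg hdim] at hdeg
  exact CurveLib.nonempty_iso_structureModule (k := K) hdim hN s hs hdeg.le

end Groth.Agent.CanonFac
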