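import Groth.Agent.CanonFacLib.Parts
import Groth.Agent.CanonFacLib.Vanish
import Groth.Agent.CastLib.ArtinContract
import Groth.Agent.CastLib.EulerFlat

/-!
# Divisors whose parts have non-positive genus
-/

set_option autoImplicit false
set_option backward.isDefEq.respectTransparency false
set_option backward.isDefEq.respectTransparency.types false
set_option linter.style.haveILetI false
set_option linter.unusedSectionVars false
set_option maxHeartbeats 2000000

universe u

open CategoryTheory CategoryTheory.Limits AlgebraicGeometry TopologicalSpace Opposite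
open Groth.Agent.PullbackMod Groth.Agent.DCohLib
open Groth.Agent.IntLib (mk pullCls)

noncomputable section

namespace Groth.Agent.CanonFac

variable {R : Type u} [CommRing R] [IsDomain R] [IsDiscreteValuationRing R]

local notation "K" => IsLocalRing.ResidueField R

variable {X : Over (Spec (CommRingCat.of R))} {r : ℕ}

/-- The ideal of `∑ aⱼ Γⱼ`. -/
abbrev divIdeal (Γ : Fin r → ArSurf.VertComp R X) (a : Fin r → ℕ) : X.left.IdealSheafData :=
  ∏ j, (Γ j).ι.ker ^ a j

theorem divIdeal_peel (Γ : Fin r → ArSurf.VertComp R X) (a : Fin r → ℕ) {i : Fin r} (hi : 0 < a i) :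
    divIdeal Γ a = (Γ i).ι.ker * divIdeal Γ (Function.update a i (a i - 1)) := by
  rw [divIdeal, divIdeal, ← Finset.mul_prod_erase _ _ (Finset.mem_univ i),
    ← Finset.mul_prod_erase (Finset.univ : Finset (Fin r)) (fun j => (Γ j).ι.ker ^ Function.update a i (a i - 1) j)
      (Finset.mem_univ i), ← mul_assoc, Function.update_self, ← pow_succ', Nat.sub_add_cancel hi]
  congr 1
  exact Finset.prod_congr rfl fun j hj => by rw [Function.update_of_ne (Finset.ne_of_mem_erase hj)]

variable (hX : ArSurf.IsArithSurface R X)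

include hX in
theorem divIdeal_facts (Γ : Fin r → ArSurf.VertComp R X) (a : Fin r → ℕ) :
    IsNoetherian (divIdeal Γ a).subscheme ∧ topologicalKrullDim (divIdeal Γ a).subscheme ≤ 1 ∧
      PicF.IsInvertible (ClSub.idealMod (divIdeal Γ a)) ∧
      mk (ClSub.idealMod (divIdeal Γ a)) = ∏ j, mk (ClSub.idealMod (Γ j).ι.ker) ^ a j := by
  haveI := hX.2.1
  haveI := (SurfPtBlow.arSurf_facts hX).1
  haveI := (SurfPtBlow.arSurf_facts hX).2
  obtain ⟨hD, hDmk⟩ := CastLib.mk_idealMod_prod (fun j => (Γ j).ι.ker)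
    (fun j => CastLib.isEffCartier_vertComp hX (Γ j)) a Finset.univ
  haveI : IsLocallyNoetherian (divIdeal Γ a).subscheme :=
    LocallyOfFiniteType.isLocallyNoetherian (divIdeal Γ a).subschemeι
  haveI : CompactSpace (divIdeal Γ a).subscheme := QuasiCompact.compactSpace_of_compactSpace (divIdeal Γ a).subschemeι
  refine ⟨⟨⟩, ?_, (S8914.result _).2 hD, hDmk⟩
  refine (CastLib.VSurf.of_arith hX).dim_fibre (p := X.hom) (divIdeal Γ a).subschemeι fun z => ?_
  have hz : (divIdeal Γ a).subschemeι z ∈ (divIdeal Γ a).support :=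
    (Scheme.IdealSheafData.range_subschemeι _).le ⟨z, rfl⟩
  rw [H1ZeroLib.mem_support_iff_stalk, CastLib.stalkIdeal_prod'] at hz
  by_contra hne
  refine hz ((Finset.prod_eq_one fun j _ => ?_).trans Ideal.one_eq_top)
  rw [IdealMulLib.stalkIdeal_eq_top _ (fun h => hne ?_), ← Ideal.one_eq_top, one_pow]
  rw [← SetLike.mem_coe, CastLib.support_ker] at h
  obtain ⟨w, hw⟩ := h
  rw [← hw]
  exact CastLib.vertComp_vertical (Γ j) w

include hX in
/-- Degree of the ideal of a divisor on a component. -/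
theorem inter_idealMod (Γ : Fin r → ArSurf.VertComp R X) {L : Fin r → X.left.Modules}
    (hL : ∀ j, ClSub.IsInverseOf (L j) (ClSub.idealMod (Γ j).ι.ker)) (a : Fin r → ℕ) (E : ArSurf.VertComp R X) :
    ArSurf.inter R X (ClSub.idealMod (divIdeal Γ a)) E = -∑ j, (a j : ℤ) * ArSurf.inter R X (L j) E := by
  haveI := (SurfPtBlow.arSurf_facts hX).1
  obtain ⟨-, -, hI, hmk⟩ := divIdeal_facts hX Γ a
  have hLi : ∀ j, PicF.IsInvertible (L j) := fun j => CastLib.isInvertible_inverse_ideal (hL j)
  obtain ⟨hT, hTi⟩ := CastLib.inter_multiTwist L hLi a E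
  have h1 : mk (CohB1.tensorMod (FGA.multiTwist L a) (ClSub.idealMod (divIdeal Γ a))) =
      mk (Coh.structureModule X.left) := by
    rw [IntLib.mk_tensor, IntLib.mk_structureModule, CastLib.mk_multiTwist, hmk, ← Finset.prod_mul_distrib]
    refine Finset.prod_eq_one fun j _ => ?_
    obtain ⟨e⟩ := hL j
    rw [← mul_pow, ← IntLib.mk_tensor, IntLib.mk_congr e, IntLib.mk_structureModule, one_pow]
  obtain ⟨e⟩ := IntLib.mk_eq_mk.1 h1
  haveI := CastLib.isProper_vertComp E
  have h2 : ArSurf.inter R X (CohB1.tensorMod (FGA.multiTwist L a) (ClSub.idealMod (divIdeal Γ a))) E =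
      ArSurf.inter R X (Coh.structureModule X.left) E :=
    CastLib.curveDeg_iso (k := K) (CastLib.dim_vertComp E) ((Scheme.Modules.pullback E.ι).mapIso e)
  rw [CastLib.inter_tensor E hT hI, CastLib.inter_one, hTi] at h2
  linarith

variable {ω : X.left.Modules} (hω : Canon.IsCanonical X.hom ω)

include hX hω in
/-- A divisor all of whose parts have non-positive genus has no `H¹` and trivial `Pic⁰`. -/
theorem h1_pic0 (Γ : Fin r → ArSurf.VertComp R X) {L : Fin r → X.left.Modules}
    (hL : ∀ j, ClSub.IsInverseOf (L j) (ClSub.idealMod (Γ j).ι.ker)) (a : Fin r → ℕ)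
    (hpa : ∀ a' : Fin r → ℕ, a' ≤ a → a' ≠ 0 →
      ∑ i, (a' i : ℤ) * (∑ j, (a' j : ℤ) * ArSurf.inter R X (L j) (Γ i) + ArSurf.inter R X ω (Γ i)) < 0) :
    Subsingleton (Coh.HH (divIdeal Γ a).subscheme (Coh.structureModule (divIdeal Γ a).subscheme) 1) ∧
    ∀ N : (divIdeal Γ a).subscheme.Modules, PicF.IsInvertible N →
      (∀ (i : Fin r) (g : (Γ i).curve.left ⟶ (divIdeal Γ a).subscheme), g ≫ (divIdeal Γ a).subschemeι = (Γ i).ι →
        ArSurf.curveDeg K (Γ i).curve.left ((Scheme.Modules.pullback g).obj N) = 0) →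
      Nonempty (N ≅ Coh.structureModule (divIdeal Γ a).subscheme) := by
  classical
  induction hn : ∑ j, a j using Nat.strong_induction_on generalizing a with
  | _ n ih =>
  haveI := (SurfPtBlow.arSurf_facts hX).1
  haveI := (SurfPtBlow.arSurf_facts hX).2
  obtain ⟨hnoe, hdim, -, -⟩ := divIdeal_facts hX Γ a
  haveI := hnoe
  by_cases ha : a = 0
  · haveI : IsEmpty (divIdeal Γ a).subscheme := ⟨fun z => by
      have hz : (divIdeal Γ a).subschemeι z ∈ (divIdeal Γ a).support :=
        (Scheme.IdealSheafData.range_subschemeι _).le ⟨z, rfl⟩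
      rw [H1ZeroLib.mem_support_iff_stalk, CastLib.stalkIdeal_prod'] at hz
      refine hz ((Finset.prod_eq_one fun j _ => ?_).trans Ideal.one_eq_top)
      rw [show a j = 0 from congrFun ha j]; exact pow_zero _⟩
    exact ⟨trivial_of_isEmpty.1, fun N _ _ => trivial_of_isEmpty.2 N⟩
  obtain ⟨i, hi, hineg⟩ : ∃ i, 0 < a i ∧
      ∑ j, (a j : ℤ) * ArSurf.inter R X (L j) (Γ i) + ArSurf.inter R X ω (Γ i) < 0 := by
    by_contra hno
    push Not at hno
    refine absurd (hpa a le_rfl ha) (not_lt.2 (Finset.sum_nonneg fun i _ => ?_))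
    rcases Nat.eq_zero_or_pos (a i) with h | h
    · simp [h]
    · exact mul_nonneg (Nat.cast_nonneg _) (hno i h)
  set a'' := Function.update a i (a i - 1) with ha''
  have ha''le : a'' ≤ a := fun j => by
    rcases eq_or_ne j i with rfl | h
    · rw [ha'', Function.update_self]; exact Nat.sub_le _ _
    · rw [ha'', Function.update_of_ne h]
  have hlt : ∑ j, a'' j < n := hn ▸ Finset.sum_lt_sum (fun j _ => ha''le j)
    ⟨i, Finset.mem_univ _, by rw [ha'', Function.update_self]; omega⟩
  obtain ⟨hB1, hBpic⟩ := ih _ hlt a'' (fun a' h h0 => hpa a' (h.trans ha''le) h0) rfl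
  obtain ⟨-, -, hJ'', -⟩ := divIdeal_facts hX Γ a''
  -- the curve part
  have hleC : divIdeal Γ a ≤ (Γ i).ι.ker := (divIdeal_peel Γ a hi).le.trans (TwistShriek.mul_le_left' _ _)
  have hleB : divIdeal Γ a ≤ divIdeal Γ a'' := (divIdeal_peel Γ a hi).le.trans (TwistShriek.mul_le_right' _ _)
  set ι := (divIdeal Γ a).subschemeι with hιdef
  haveI := (Γ i).isClosedImmersion
  haveI := (Γ i).isIntegral
  haveI := CastLib.isProper_vertComp (Γ i)
  let g : (Γ i).curve.left ⟶ (divIdeal Γ a).subscheme :=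
    IsClosedImmersion.lift ι (Γ i).ι (by rw [hιdef, Scheme.IdealSheafData.ker_subschemeι]; exact hleC)
  have hg : g ≫ ι = (Γ i).ι := IsClosedImmersion.lift_fac _ _ _
  haveI : IsClosedImmersion g := by
    haveI : IsClosedImmersion (g ≫ ι) := hg ▸ inferInstance
    exact IsClosedImmersion.of_comp g ι
  let h : (divIdeal Γ a'').subscheme ⟶ (divIdeal Γ a).subscheme :=
    IsClosedImmersion.lift ι (divIdeal Γ a'').subschemeι
      (by rw [hιdef, Scheme.IdealSheafData.ker_subschemeι, Scheme.IdealSheafData.ker_subschemeι]; exact hleB)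
  have hh : h ≫ ι = (divIdeal Γ a'').subschemeι := IsClosedImmersion.lift_fac _ _ _
  haveI : IsClosedImmersion h := by
    haveI : IsClosedImmersion (h ≫ ι) := hh ▸ inferInstance
    exact IsClosedImmersion.of_comp h ι
  have hCk : g.ker = (Γ i).ι.ker.comap ι := ker_part g ι (Γ i).ι hg
  have hBk : h.ker = (divIdeal Γ a'').comap ι := by
    rw [ker_part h ι _ hh, Scheme.IdealSheafData.ker_subschemeι]
  have hCB : g.ker * h.ker = ⊥ := by
    rw [hCk, hBk, ← BlowCompLib.comap_mul, ← divIdeal_peel Γ a hi, hιdef]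
    conv_lhs => arg 1; rw [← Scheme.IdealSheafData.ker_subschemeι (divIdeal Γ a)]
    rw [← Scheme.IdealSheafData.ker_fst_of_isClosedImmersion]
    haveI : IsIso (pullback.fst (divIdeal Γ a).subschemeι (divIdeal Γ a).subschemeι) := inferInstance
    exact Scheme.Hom.ker_eq_bot_of_isIso _
  set M := (Scheme.Modules.pullback ι).obj (ClSub.idealMod (divIdeal Γ a'')) with hMdef
  obtain ⟨p₀, hp₀⟩ := exists_pull_surjective ι _ hJ''
  have hM : PicF.IsInvertible M := AmpleLib.isInvertible_pullback ι hJ''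
  obtain ⟨p, hp⟩ : ∃ p : M ⟶ ClSub.idealMod h.ker, ∀ x, Function.Surjective (stalkLin p x) := by
    rw [hBk]; exact ⟨p₀, hp₀⟩
  have hdegM : ArSurf.curveDeg K (Γ i).curve.left ((Scheme.Modules.pullback g).obj M) =
      -∑ j, (a'' j : ℤ) * ArSurf.inter R X (L j) (Γ i) := by
    rw [← inter_idealMod hX Γ hL a'' (Γ i), ArSurf.inter]
    exact CastLib.curveDeg_iso (k := K) (CastLib.dim_vertComp (Γ i))
      ((Scheme.Modules.pullbackComp g ι).app _ ≪≫ (Scheme.Modules.pullbackCongr hg).app _)
  have hsum : ∑ j, (a'' j : ℤ) * ArSurf.inter R X (L j) (Γ i) =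
      ∑ j, (a j : ℤ) * ArSurf.inter R X (L j) (Γ i) - ArSurf.inter R X (L i) (Γ i) := by
    rw [eq_sub_iff_add_eq, ← Finset.add_sum_erase _ _ (Finset.mem_univ i),
      ← Finset.add_sum_erase _ (fun j => (a j : ℤ) * ArSurf.inter R X (L j) (Γ i)) (Finset.mem_univ i),
      Finset.sum_congr rfl (fun j hj => by rw [ha'', Function.update_of_ne (Finset.ne_of_mem_erase hj)] :
        ∀ j ∈ Finset.univ.erase i, (a'' j : ℤ) * ArSurf.inter R X (L j) (Γ i) = (a j : ℤ) * ArSurf.inter R X (L j) (Γ i)),
      ha'', Function.update_self, Nat.cast_sub hi]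
    push_cast; ring
  -- vanishing on the curve part
  have hC1 : ∀ N : (divIdeal Γ a).subscheme.Modules, PicF.IsInvertible N →
      ArSurf.curveDeg K (Γ i).curve.left ((Scheme.Modules.pullback g).obj N) = 0 →
      Subsingleton (Coh.HH g.ker.subscheme ((Scheme.Modules.pullback g.ker.subschemeι).obj (CohB1.tensorMod M N)) 1) := by
    intro N hN hN0
    refine subsingleton_part g (AmpleLib.isInvertible_tensor hM hN) 1 ?_
    refine subsingleton_H1_of_deg hX hω (Γ i) (hL i) (AmpleLib.isInvertible_pullback g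
      (AmpleLib.isInvertible_tensor hM hN)) ?_
    rw [CastLib.curveDeg_iso (k := K) (CastLib.dim_vertComp (Γ i)) (AmpleLib.pullTensor g M N),
      CastLib.curveDeg_tensor (CastLib.dim_vertComp (Γ i)) (AmpleLib.isInvertible_pullback g hM)
        (AmpleLib.isInvertible_pullback g hN), hdegM, hN0, hsum]
    linarith
  have hO0 : ∀ {Z : Scheme.{u}} (q : (Γ i).curve.left ⟶ Z),
      ArSurf.curveDeg K (Γ i).curve.left ((Scheme.Modules.pullback q).obj (Coh.structureModule Z)) = 0 := fun q => by
    rw [CastLib.curveDeg_iso (k := K) (CastLib.dim_vertComp (Γ i)) (AmpleLib.pullO q), ArSurf.curveDeg, sub_self]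
  refine ⟨h1_extend hdim hCB hM p hp ParaFLib.isInvertible_structureModule
    (hC1 _ ParaFLib.isInvertible_structureModule (hO0 g)) ?_, fun N hN hN0 => ?_⟩
  · exact subsingleton_part h ParaFLib.isInvertible_structureModule 1
      (CurveLib.subsingleton_HH_iso (AmpleLib.pullO h).symm 1 hB1)
  obtain ⟨φB⟩ := hBpic _ (AmpleLib.isInvertible_pullback h hN) fun l q hq => by
    haveI := CastLib.isProper_vertComp (Γ l)
    refine (CastLib.curveDeg_iso (k := K) (CastLib.dim_vertComp (Γ l)) ((Scheme.Modules.pullbackComp q h).app N)).trans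
      (hN0 l _ ?_)
    rw [Category.assoc, hh, hq]
  have hiLneg : ArSurf.inter R X (L i) (Γ i) + ArSurf.inter R X ω (Γ i) < 0 := by
    have h1 := hpa (Pi.single i 1) (fun j => by
      rcases eq_or_ne j i with rfl | hj
      · rw [Pi.single_eq_same]; exact hi
      · rw [Pi.single_eq_of_ne hj]; exact Nat.zero_le _)
      (fun h0 => one_ne_zero (α := ℕ) (by simpa using congrFun h0 i))
    simpa [Pi.single_apply] using h1
  obtain ⟨φC⟩ := nonempty_iso_of_deg_zero hX hω (Γ i) (hL i) hiLneg (AmpleLib.isInvertible_pullback g hN) (hN0 i g hg)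
  refine iso_extend hdim hCB hM p hp hN (fun φ hφ => ?_) (hC1 N hN (hN0 i g hg))
    (iso_part h φB).some (iso_part g φC)
  obtain ⟨e, he, -⟩ := exists_part g
  letI : g.ker.subscheme.Over (Spec (CommRingCat.of K)) := ⟨e ≫ (Γ i).curve.hom⟩
  haveI : IsProper (g.ker.subscheme ↘ Spec (CommRingCat.of K)) :=
    MorphismProperty.comp_mem @IsProper e _ inferInstance (CastLib.isProper_vertComp (Γ i))
  haveI : Nonempty g.ker.subscheme := ⟨inv e (genericPoint (Γ i).curve.left)⟩
  haveI : IsIntegral g.ker.subscheme := isIntegral_of_isOpenImmersion e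
  exact (CurveLib.deg_le_of_ne_zero (k := K)
    (e.isEmbedding.isInducing.topologicalKrullDim_le.trans (CastLib.dim_vertComp (Γ i)))
    ParaFLib.isInvertible_structureModule ParaFLib.isInvertible_structureModule hφ).2 rfl

end Groth.Agent.CanonFac
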