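import Groth.Agent.CanonFacLib.Adj
import Groth.Agent.CanonFacLib.Pic0
import Groth.Agent.CastLib.EulerFlat
import Groth.Agent.CastLib.EulerMultiple
import Groth.Agent.CastLib.Dedekind

/-!
# Euler characteristics of vertical divisors through the adjunction formula
-/

set_option autoImplicit false
set_option backward.isDefEq.respectTransparency false
set_option linter.style.haveILetI false
set_option linter.unusedSectionVars false
set_option maxHeartbeats 1000000

universe u

open CategoryTheory CategoryTheory.Limits AlgebraicGeometry TopologicalSpace IsLocalRing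

noncomputable section

namespace Groth.Agent.CanonFac

variable {R : Type u} [CommRing R] [IsDomain R] [IsDiscreteValuationRing R] {X : Over (Spec (CommRingCat.of R))}

local notation "K" => IsLocalRing.ResidueField R

theorem euler_vertComp (E : ArSurf.VertComp R X) :
    FGA.eulerCharLE K E.curve.left (Coh.structureModule E.curve.left) 1 =
      (Models.wdeg R X E : ℤ) - (Models.h1 R X E : ℤ) := by
  simp only [FGA.eulerCharLE, Finset.sum_range_succ, Finset.sum_range_zero, zero_add, pow_zero,
    pow_one, one_mul, Models.wdeg, Models.h1]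
  ring

/-- **The adjunction formula for a vertical divisor.** -/
theorem two_chiLen_divIdeal (hX : ArSurf.IsArithSurface R X) {ω : X.left.Modules} (hω : Canon.IsCanonical X.hom ω)
    {r : ℕ} (Γ : Fin r → ArSurf.VertComp R X)
    (hΓ : Function.Injective fun i => Set.range ((Γ i).ι.base : (Γ i).curve.left → X.left))
    {L : Fin r → X.left.Modules} (hL : ∀ j, ClSub.IsInverseOf (L j) (ClSub.idealMod (Γ j).ι.ker)) (a : Fin r → ℕ) :
    letI : X.left.Over (Spec (CommRingCat.of R)) := ⟨X.hom⟩
    2 * CastLib.chiLen R (ClSub.quotMod (divIdeal Γ a)) =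
      -∑ i, (a i : ℤ) * (∑ j, (a j : ℤ) * ArSurf.inter R X (L j) (Γ i) + ArSurf.inter R X ω (Γ i)) := by
  letI : X.left.Over (Spec (CommRingCat.of R)) := ⟨X.hom⟩
  have h := CastLib.chiLen_prod (CastLib.VSurf.of_arith hX) hΓ hL a
  have hadj : ∀ j, 2 * ((Models.wdeg R X (Γ j) : ℤ) - (Models.h1 R X (Γ j) : ℤ)) + ArSurf.inter R X (L j) (Γ j) =
      -ArSurf.inter R X ω (Γ j) := fun j => by
    have := inter_add_inter_eq hX hω (Γ j) (hL j)
    rw [euler_vertComp] at this
    linarith
  rw [h, Finset.sum_congr rfl fun j _ => by rw [hadj j]]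
  have hs : ∑ j, (a j : ℤ) * ∑ l, (a l : ℤ) * ArSurf.inter R X (L j) (Γ l) =
      ∑ i, (a i : ℤ) * ∑ j, (a j : ℤ) * ArSurf.inter R X (L j) (Γ i) := by
    simp only [Finset.mul_sum]
    rw [Finset.sum_comm]
    exact Finset.sum_congr rfl fun i _ => Finset.sum_congr rfl fun j _ => by ring
  rw [hs]
  simp only [mul_add, mul_neg, Finset.sum_add_distrib, Finset.sum_neg_distrib]
  ring

/-- Lengths of cohomology of a closed subscheme of the closed fibre. -/
theorem chiLen_closed [IsProper X.hom] (I : X.left.IdealSheafData) (g : I.subscheme ⟶ Spec (CommRingCat.of K))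
    (hg : g ≫ Spec.map (CommRingCat.ofHom (IsLocalRing.residue R)) = I.subschemeι ≫ X.hom) :
    letI : X.left.Over (Spec (CommRingCat.of R)) := ⟨X.hom⟩
    CastLib.chiLen R (ClSub.quotMod I) =
      (Models.hRank K I.subscheme g (Coh.structureModule I.subscheme) 0 : ℤ) -
        (Models.hRank K I.subscheme g (Coh.structureModule I.subscheme) 1 : ℤ) := by
  letI : X.left.Over (Spec (CommRingCat.of R)) := ⟨X.hom⟩
  haveI : IsClosedImmersion (Spec.map (CommRingCat.ofHom (IsLocalRing.residue R))) :=
    IsClosedImmersion.spec_of_surjective _ IsLocalRing.residue_surjective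
  haveI : IsProper g := by
    haveI : IsProper (g ≫ Spec.map (CommRingCat.ofHom (IsLocalRing.residue R))) := hg ▸ inferInstance
    exact IsProper.of_comp g (Spec.map (CommRingCat.ofHom (IsLocalRing.residue R)))
  haveI : IsLocallyNoetherian X.left := LocallyOfFiniteType.isLocallyNoetherian X.hom
  haveI : IsLocallyNoetherian I.subscheme := LocallyOfFiniteType.isLocallyNoetherian I.subschemeι
  have h := fun n => (CastLib.length_push_closed X.hom I.subschemeι g hg.symm (Coh.structureModule I.subscheme)
    (DevLib.isCoh_structureModule _) n).1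
  show ((Module.length R (Coh.HH X.left (ClSub.quotMod I) 0)).toNat : ℤ) -
    (Module.length R (Coh.HH X.left (ClSub.quotMod I) 1)).toNat = _
  erw [h 0, h 1, ENat.toNat_natCast, ENat.toNat_natCast]
  rfl

/-- The Euler characteristic of the closed fibre is that of the generic fibre. -/
theorem chiLen_fibre_arith (hX : ArSurf.IsArithSurface R X) :
    letI : X.left.Over (Spec (CommRingCat.of R)) := ⟨X.hom⟩
    CastLib.chiLen R (ClSub.quotMod (SurfPtBlow.fibreIdeal X.hom)) =
      FGA.eulerCharLE (FractionRing R) ((Neron.genericFibre R).obj X).left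
        (Coh.structureModule ((Neron.genericFibre R).obj X).left) 1 := by
  letI : X.left.Over (Spec (CommRingCat.of R)) := ⟨X.hom⟩
  have hV := CastLib.VSurf.of_arith hX
  haveI := hX.2.2.2.1
  haveI : IsProper X.hom := hV.proper
  haveI : IsLocallyNoetherian X.left := LocallyOfFiniteType.isLocallyNoetherian X.hom
  let p := X.hom
  let s := Spec.map (CommRingCat.ofHom (IsLocalRing.residue R))
  haveI : IsClosedImmersion s := IsClosedImmersion.spec_of_surjective _ IsLocalRing.residue_surjective
  let Z := pullback p s
  let i : Z ⟶ X.left := pullback.fst p s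
  let z : Z ⟶ Spec (CommRingCat.of K) := pullback.snd p s
  letI : Z.Over (Spec (CommRingCat.of K)) := ⟨z⟩
  haveI : IsProper z := inferInstanceAs (IsProper (pullback.snd p s))
  haveI : IsProper (Z ↘ Spec (CommRingCat.of K)) := ‹IsProper z›
  haveI := EulerIneqLib.isNoetherian_proper (X := Z) K
  let P := ((Neron.genericFibre R).obj X).left
  haveI : IsProper (pullback.snd X.hom (Neron.genPt R)) := inferInstance
  haveI : IsProper (P ↘ Spec (CommRingCat.of (FractionRing R))) := ‹IsProper (pullback.snd X.hom (Neron.genPt R))›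
  haveI := EulerIneqLib.isNoetherian_proper (X := P) (FractionRing R)
  have hcl : ∀ t, s t = closedPoint R := fun t => PrimeSpectrum.ext (by
    show Ideal.comap (IsLocalRing.residue R) t.asIdeal = maximalIdeal R
    rw [(Ideal.eq_bot_or_top t.asIdeal).resolve_right t.2.ne_top, ← RingHom.ker_eq_comap_bot, IsLocalRing.ker_residue])
  have hdimP : topologicalKrullDim P ≤ 1 := by
    refine CastLib.dim_le_of_fibre (IsDiscreteValuationRing.not_isField R) hX
      (pullback.fst X.hom (Neron.genPt R)) (genericPoint (Spec (CommRingCat.of R))) fun w => ?_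
    exact (SurfPtBlow.range_fst X).le ⟨w, rfl⟩
  have hlc := S1026.result p (Coh.structureModule X.left) (FlatStage.isFP_structureModule X.left)
    (BCLib.isFlatOver_structureModule p)
  have hgl : PerfAux.eulerChar p (Coh.structureModule X.left) (Neron.genPt R default) =
      PerfAux.eulerChar p (Coh.structureModule X.left) (s default) := hlc.apply_eq_of_preconnectedSpace _ _
  rw [CastLib.eulerChar_point p (IsPullback.of_hasPullback p (Neron.genPt R)) default,
    CastLib.eulerChar_point p (IsPullback.of_hasPullback p s) default] at hgl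
  have hdim : topologicalKrullDim Z ≤ 1 := hV.dim_fibre (p := X.hom) i fun w => by
    show (i ≫ p) w = _
    rw [show i ≫ p = z ≫ s from pullback.condition, Scheme.Hom.comp_apply, hcl]
  have hker : i.ker = SurfPtBlow.fibreIdeal p := by
    rw [SurfPtBlow.fibreIdeal, ← IsLocalRing.ker_residue (R := R), ← TwistShriek.ker_specMap]
    exact Scheme.IdealSheafData.ker_fst_of_isClosedImmersion s p
  obtain ⟨q⟩ := TwistShriek.nonempty_quotMod_ker_iso i
  have hl : ∀ n, Module.length R (Coh.HH X.left (ClSub.quotMod (SurfPtBlow.fibreIdeal p)) n) =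
      (Module.finrank K (Coh.HH Z (Coh.structureModule Z) n) : ℕ∞) := fun n => by
    rw [← hker, CastLib.length_iso R q]
    exact (CastLib.length_push_closed p i z pullback.condition _ (DevLib.isCoh_structureModule Z) n).1
  rw [CastLib.eulerCharLE_eq_euler (k := FractionRing R) hdimP]
  refine Eq.trans ?_ hgl.symm
  rw [CastLib.chiLen, hl, hl, ENat.toNat_natCast, ENat.toNat_natCast, CurveLib.euler_eq_sub (k := K) hdim]

/-- The canonical degree of the closed fibre. -/
theorem sum_mult_inter_canonical (hX : ArSurf.IsArithSurface R X) {ω : X.left.Modules} (hω : Canon.IsCanonical X.hom ω)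
    {n : ℕ} (Γ : Fin n → ArSurf.VertComp R X) (hΓ : Models.IsComponentList R X Γ) :
    ∑ i, (Models.mult R X (Γ i) : ℤ) * ArSurf.inter R X ω (Γ i) =
      -2 * FGA.eulerCharLE (FractionRing R) ((Neron.genericFibre R).obj X).left
        (Coh.structureModule ((Neron.genericFibre R).obj X).left) 1 := by
  letI : X.left.Over (Spec (CommRingCat.of R)) := ⟨X.hom⟩
  have hV := CastLib.VSurf.of_arith hX
  obtain ⟨hC, hfib⟩ := hV.toFibreGood.fibre_eq_prod hΓ
  choose L hL using fun j => CastLib.exists_inverse_idealMod (hC j)
  have h := two_chiLen_divIdeal hX hω Γ hΓ.1 hL fun i => Models.mult R X (Γ i)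
  rw [show divIdeal Γ (fun i => Models.mult R X (Γ i)) = SurfPtBlow.fibreIdeal X.hom from hfib.symm,
    chiLen_fibre_arith hX] at h
  simp only [hV.sum_mult_inter hC _ hfib L hL, zero_add] at h
  linarith

end Groth.Agent.CanonFac
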