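import Groth.Agent.CanonFacLib.Det

/-!
# Canonical sheaves restrict to open subschemes
-/

set_option autoImplicit false
set_option backward.isDefEq.respectTransparency false
set_option linter.style.haveILetI false
set_option linter.unusedSectionVars false
set_option maxHeartbeats 1000000

universe u

open CategoryTheory CategoryTheory.Limits AlgebraicGeometry TopologicalSpace Opposite
open Groth.Agent.PullbackMod Groth.Agent.DCohLib
open Groth.Agent.IntLib (mk pullCls mk_congr mk_tensor mk_eq_mk pullCls_mk)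

noncomputable section

namespace Groth.Agent.CanonFac

variable {U X Z Y : Scheme.{u}}

/-- An open immersion is a regular immersion of codimension zero. -/
theorem codim_zero_of_openImmersion (j : U ⟶ X) [IsOpenImmersion j] :
    RegImm.IsRegularImmersionOfCodim RegImm.Kind.regular 0 j := by
  refine ⟨inferInstance, fun u => ?_⟩
  obtain ⟨W, hW, huW, hWr⟩ := exists_isAffineOpen_mem_and_subset (U := j.opensRange) (x := j u) ⟨u, rfl⟩
  haveI hiso : IsIso (j.app W) := j.isIso_app W hWr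
  haveI : Surjective (j ∣_ W) := ⟨fun w => by
    obtain ⟨a, ha⟩ := hWr w.2
    exact ⟨⟨a, show j a ∈ W by rw [ha]; exact w.2⟩, Subtype.ext ((morphismRestrict_base_coe j W _).trans ha)⟩⟩
  haveI : IsIso (j ∣_ W) := (isIso_iff_isOpenImmersion_and_surjective _).2 ⟨inferInstance, inferInstance⟩
  haveI : Nonempty W := ⟨⟨j u, huW⟩⟩
  refine ⟨⟨W, hW⟩, huW, inferInstance, [], rfl, ⟨RingTheory.Sequence.IsWeaklyRegular.nil _ _, ?_⟩, ?_⟩
  · rw [Ideal.ofList_nil, Submodule.bot_smul]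
    exact top_ne_bot
  · rw [Ideal.ofList_nil]
    exact (RingHom.injective_iff_ker_eq_bot _).1 ((ConcreteCategory.bijective_of_isIso (j.app W)).1)

/-- Regular immersions restrict to opens with the same codimension. -/
theorem codim_open_comp (j : U ⟶ X) [IsOpenImmersion j] (i : X ⟶ Z) {c : ℕ}
    (hi : RegImm.IsRegularImmersionOfCodim RegImm.Kind.regular c i) :
    RegImm.IsRegularImmersionOfCodim RegImm.Kind.regular c (j ≫ i) := by
  haveI := hi.1
  refine ⟨inferInstance, fun u => ?_⟩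
  obtain ⟨⟨W, hW⟩, huW, hc, rs, hlen, hrs, hk⟩ := hi.2 (j u)
  obtain ⟨O, hO, hOeq⟩ := i.isEmbedding.isInducing.isOpen_iff.1 j.opensRange.2
  obtain ⟨b, hb, hub⟩ := hW.exists_basicOpen_le (V := W ⊓ ⟨O, hO⟩) ⟨i (j u), huW,
    show j u ∈ i ⁻¹' O from hOeq.ge ⟨u, rfl⟩⟩ huW
  have hpre : i ⁻¹ᵁ Z.basicOpen b ≤ j.opensRange := fun x hx => hOeq.le (hb hx).2
  obtain ⟨hcl, hk'⟩ := RelDivLib.closed_and_ker_pullback (IsPullback.id_horiz i) hW hc (hW.basicOpen b)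
    (V := Z.basicOpen b) (Z.basicOpen_le b)
  haveI := hcl
  haveI hiso : IsIso (j.app (i ⁻¹ᵁ Z.basicOpen b)) := j.isIso_app _ hpre
  haveI : Surjective (j ∣_ (i ⁻¹ᵁ Z.basicOpen b)) := ⟨fun w => by
    obtain ⟨a, ha⟩ := hpre w.2
    exact ⟨⟨a, show j a ∈ i ⁻¹ᵁ Z.basicOpen b by rw [ha]; exact w.2⟩, Subtype.ext ((morphismRestrict_base_coe j _ _).trans ha)⟩⟩
  haveI : IsIso (j ∣_ (i ⁻¹ᵁ Z.basicOpen b)) := (isIso_iff_isOpenImmersion_and_surjective _).2 ⟨inferInstance, inferInstance⟩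
  letI : Algebra Γ(Z, W) Γ(Z, Z.basicOpen b) := (Z.presheaf.map (homOfLE (Z.basicOpen_le b)).op).hom.toAlgebra
  haveI : IsLocalization.Away b Γ(Z, Z.basicOpen b) := hW.isLocalization_basicOpen b
  haveI : Module.Flat Γ(Z, W) Γ(Z, Z.basicOpen b) := IsLocalization.flat _ (Submonoid.powers b)
  haveI : Nonempty ((j ≫ i) ⁻¹ᵁ Z.basicOpen b : U.Opens) := ⟨⟨u, by rw [Scheme.Hom.mem_preimage, Scheme.Hom.comp_apply]; exact hub⟩⟩
  have hker : RingHom.ker ((j ≫ i).app (Z.basicOpen b)).hom =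
      Ideal.ofList (rs.map (algebraMap Γ(Z, W) Γ(Z, Z.basicOpen b))) := by
    rw [Scheme.Hom.comp_app, CommRingCat.hom_comp,
      RingHom.ker_comp_of_injective _ (ConcreteCategory.bijective_of_isIso (j.app (i ⁻¹ᵁ Z.basicOpen b))).1, hk',
      show RingHom.ker (i.app W).hom = Ideal.ofList rs from hk, Ideal.map_ofList]
    congr 2
  refine ⟨⟨Z.basicOpen b, hW.basicOpen b⟩, hub, ?_, rs.map (algebraMap Γ(Z, W) Γ(Z, Z.basicOpen b)),
    (List.length_map _).trans hlen,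
    ⟨RingTheory.Sequence.IsWeaklyRegular.of_flat (S := Γ(Z, Z.basicOpen b))
      (show RingTheory.Sequence.IsRegular _ _ from hrs).toIsWeaklyRegular, ?_⟩, hker⟩
  · show IsClosedImmersion ((j ≫ i) ∣_ Z.basicOpen b)
    rw [morphismRestrict_comp]
    infer_instance
  · rw [smul_eq_mul, Ideal.mul_top, ← hker]
    exact (RingHom.ker_ne_top _).symm

/-- The conormal sheaf restricts to opens. -/
theorem conormal_open_restrict (j : U ⟶ X) [IsOpenImmersion j] [QuasiCompact j] (i : X ⟶ Z) [IsImmersion i]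
    [QuasiCompact i] : Nonempty ((Scheme.Modules.pullback j).obj (Omega.conormal i) ≅ Omega.conormal (j ≫ i)) := by
  have hj0 := codim_zero_of_openImmersion j
  have hj1 : RegImm.IsRegularImmersion RegImm.Kind.h1 j :=
    (Groth.Agent.S8905.result j).2.1 ((Groth.Agent.S8905.result j).1 (isRegularImmersion_of_codim hj0))
  obtain ⟨φ₁, hφ₁, -⟩ := ConormalLib.existsUnique_conormalMap (j ≫ i) i (𝟙 Z) j (Category.comp_id _).symm
  obtain ⟨φ₂, hφ₂, -⟩ := ConormalLib.existsUnique_conormalMap j (j ≫ i) i (𝟙 U) (Category.id_comp _)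
  obtain ⟨w, hS, -⟩ := ConormalLib.transitivity_of_h1 hφ₁ hφ₂ hj1
  haveI := (hS w).mono_f
  haveI : Epi φ₁ := by
    refine (hS w).exact.epi_f ((PullbackMod.eq_zero_iff_stalk _).2 fun u => LinearMap.ext fun z => ?_)
    obtain ⟨V, s, hu, hs⟩ := (hasFrames_conormal j hj0).2 u
    obtain ⟨e⟩ := SeesawVB.freeAt_of_frame hs hu
    exact e.injective (Subsingleton.elim _ _)
  haveI : IsIso φ₁ := isIso_of_mono_of_epi φ₁
  exact ⟨asIso φ₁⟩

/-- Canonical sheaves restrict to open subschemes. -/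
theorem isCanonicalVia_open (j : U ⟶ X) [IsOpenImmersion j] [QuasiCompact j] (i : X ⟶ Z) (g : Z ⟶ Y) [QuasiCompact i]
    {c n : ℕ} (hi : RegImm.IsRegularImmersionOfCodim RegImm.Kind.regular c i) {ω : X.Modules}
    (hω : Canon.IsCanonicalVia i g c n ω) :
    Canon.IsCanonicalVia (j ≫ i) g c n ((Scheme.Modules.pullback j).obj ω) := by
  haveI := hi.1
  obtain ⟨DC, DΩ, hC, hΩ, ⟨e⟩⟩ := hω
  obtain ⟨κ⟩ := conormal_open_restrict j i
  haveI := (isQCoh_and_isFP_of_isFinLocFree _ (hasFrames_conormal i hi).1).1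
  exact ⟨(Scheme.Modules.pullback j).obj DC, DΩ, KVb.isExtPow_iso κ (Iso.refl _) (KVb.isExtPow_pullback j hC), hΩ,
    ⟨(AmpleLib.pullTensor j ω DC).symm ≪≫ (Scheme.Modules.pullback j).mapIso e ≪≫
      (Scheme.Modules.pullbackComp j i).app DΩ⟩⟩

/-- Two canonical sheaves agree on a common open. -/
theorem nonempty_iso_open {U X₁ X₂ Y : Scheme.{u}} (j₁ : U ⟶ X₁) (j₂ : U ⟶ X₂) [IsOpenImmersion j₁]
    [IsOpenImmersion j₂] [QuasiCompact j₁] [QuasiCompact j₂] (f₁ : X₁ ⟶ Y) (f₂ : X₂ ⟶ Y) (h : j₁ ≫ f₁ = j₂ ≫ f₂)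
    {ω₁ : X₁.Modules} {ω₂ : X₂.Modules} (hω₁ : Canon.IsCanonical f₁ ω₁) (hω₂ : Canon.IsCanonical f₂ ω₂) :
    Nonempty ((Scheme.Modules.pullback j₁).obj ω₁ ≅ (Scheme.Modules.pullback j₂).obj ω₂) := by
  obtain ⟨Z₁, i₁, g₁, c₁, n₁, e₁, hi₁, hg₁, hq₁, hs₁, hv₁⟩ := hω₁
  obtain ⟨Z₂, i₂, g₂, c₂, n₂, e₂, hi₂, hg₂, hq₂, hs₂, hv₂⟩ := hω₂
  haveI := hq₁
  haveI := hq₂
  haveI := hs₁
  haveI := hs₂
  exact nonempty_iso_via (j₁ ≫ i₁) g₁ (j₂ ≫ i₂) g₂
    (by rw [Category.assoc, Category.assoc, e₁, e₂, h]) (codim_open_comp j₁ i₁ hi₁) hg₁ (codim_open_comp j₂ i₂ hi₂) hg₂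
    (isCanonicalVia_open j₁ i₁ g₁ hi₁ hv₁) (isCanonicalVia_open j₂ i₂ g₂ hi₂ hv₂)

end Groth.Agent.CanonFac
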