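import Groth.Agent.CanonFacLib.BlowArith
import Groth.Agent.CanonFacLib.Restrict
import Groth.Agent.CanonFacLib.Peel
import Groth.Agent.CanonFacLib.Vanish
import Groth.Agent.CanonFacLib.Genus
import Groth.Agent.CastLib.InterFibreClass
import Groth.Agent.S7885
import Groth.Agent.S7929
import Groth.Agent.CastLib.NumType

/-!
# The canonical sheaf of a point blow-up
-/

set_option autoImplicit false
set_option backward.isDefEq.respectTransparency false
set_option linter.style.haveILetI false
set_option linter.unusedSectionVars false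
set_option maxHeartbeats 1000000

universe u

open CategoryTheory CategoryTheory.Limits AlgebraicGeometry TopologicalSpace IsLocalRing
open Groth.Agent.PullbackMod Groth.Agent.DCohLib Groth.Agent.TwistShriek Groth.Agent.TwistShriek.PointBlow
open Groth.Agent.IntLib (mk pullCls mk_congr mk_tensor mk_eq_mk pullCls_mk)

noncomputable section

namespace Groth.Agent.CanonFac

/-- An invertible ideal is trivial away from its support. -/
theorem pullCls_idealMod_eq_one {W X : Scheme.{u}} (f : W ⟶ X) {J : X.IdealSheafData}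
    (hJ : PicF.IsInvertible (ClSub.idealMod J)) (h : ∀ w, f w ∉ J.support) :
    pullCls f (mk (ClSub.idealMod J)) = 1 := by
  obtain ⟨p, hp⟩ := exists_pull_surjective f J hJ
  have htop : J.comap f = ⊤ := (Scheme.IdealSheafData.support_eq_bot_iff _).1
    (SetLike.ext' (Set.eq_empty_iff_forall_notMem.2 fun w hw => h w (by
      rw [Scheme.IdealSheafData.support_comap] at hw
      exact hw)))
  obtain ⟨e⟩ : Nonempty (ClSub.idealMod (J.comap f) ≅ Coh.structureModule W) := by
    rw [htop]
    exact mk_eq_mk.1 (CastLib.mk_idealMod_top.trans IntLib.mk_structureModule.symm)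
  let φ := p ≫ e.hom
  have hM := AmpleLib.isInvertible_pullback f hJ
  haveI : IsIso φ := (isIso_iff_stalk φ).2 fun w => by
    obtain ⟨m, hm⟩ := ParaFLib.exists_stalk_gen hM w
    have hs : Function.Surjective (stalkLin φ w) := by
      rw [stalkLin_comp]
      exact ((isIso_iff_stalk e.hom).1 inferInstance w).2.comp (hp w)
    obtain ⟨a, ha⟩ := (ParaFLib.bijective_oneG w).2 (stalkLin φ w m)
    dsimp only at ha
    obtain ⟨z, hz⟩ := hs (ParaFLib.oneG w)
    obtain ⟨b, rfl⟩ := hm.2 z
    dsimp only at hz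
    rw [map_smul, ← ha, smul_smul] at hz
    have hba : b * a = 1 := (ParaFLib.bijective_oneG w).1 (hz.trans (one_smul _ _).symm)
    refine ⟨(injective_iff_map_eq_zero _).2 fun z hz0 => ?_, hs⟩
    obtain ⟨c, rfl⟩ := hm.2 z
    rw [map_smul, ← ha, smul_smul] at hz0
    have hca : c * a = 0 := (ParaFLib.bijective_oneG w).1 (hz0.trans (zero_smul _ _).symm)
    show c • m = 0
    rw [show c = c * a * b by rw [mul_assoc, mul_comm a b, hba, mul_one], hca, zero_mul, zero_smul]
  rw [pullCls_mk, mk_congr (asIso φ), IntLib.mk_structureModule]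

variable {R : Type u} [CommRing R] [IsDomain R] [IsDiscreteValuationRing R] {Y : Over (Spec (CommRingCat.of R))}

local notation "K" => IsLocalRing.ResidueField R

/-- **The canonical sheaf of a point blow-up.** -/
theorem canonical_blowUp (hY : ArSurf.IsArithSurface R Y) {y : Y.left} (hy : IsClosed ({y} : Set Y.left))
    (hys : Y.hom y = closedPoint R) {X : Scheme.{u}} (f : X ⟶ Y.left)
    (hf : BlowUp.IsBlowUp f (pointIdeal hy)) (E : ArSurf.VertComp R (Over.mk (f ≫ Y.hom)))
    (hE : Set.range (E.ι.base : E.curve.left → X) = f.base ⁻¹' {y})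
    {L : X.Modules} (hL : ClSub.IsInverseOf L (ClSub.idealMod E.ι.ker))
    {ωY : Y.left.Modules} (hωY : Canon.IsCanonical Y.hom ωY)
    {ωX : X.Modules} (hωX : Canon.IsCanonical (f ≫ Y.hom) ωX) :
    Nonempty (ωX ≅ CohB1.tensorMod ((Scheme.Modules.pullback f).obj ωY) L) := by
  have h := CastLib.VSurf.of_arith hY
  haveI := h.int
  haveI := h.noeth
  haveI := h.proper
  have hsub : ¬ Subsingleton E.curve.left := fun hs => by
    have h1 : (1 : WithBot ℕ∞) ≤ 0 := E.dim_eq.ge.trans (by
      rw [ASp.topologicalKrullDim_eq_krullDim]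
      exact Order.krullDim_nonpos_of_subsingleton)
    exact absurd h1 (by decide)
  have hE' : ∀ x : X, (∃ c, E.ι c = x) ↔ f x = y := fun x => Set.ext_iff.1 hE x
  haveI := E.isClosedImmersion
  haveI := E.isIntegral
  have hd := h.dim_two hy hys hf (E.ι : E.curve.left ⟶ X) hsub fun c => (hE' _).1 ⟨c, rfl⟩
  have hX := isArith_blowUp hY hy f hf hd
  haveI : IsProper (Over.mk (f ≫ Y.hom)).hom := (SurfPtBlow.arSurf_facts hX).1
  haveI := CastLib.isProper_vertComp E
  haveI : AlgebraicGeometry.IsNoetherian X := (SurfPtBlow.arSurf_facts hX).2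
  obtain ⟨hexc, ⟨eP, heP⟩, -, hself⟩ := h.exc_blowUp hy hys f hf E hE' hL
  have hh1 : Models.h1 R (Over.mk (f ≫ Y.hom)) E = 0 :=
    ((CastLib.isExcCurve_iff (k := K) E.dim_eq E.ι hexc.1 hL).1 hexc).1
  have hI : PicF.IsInvertible (ClSub.idealMod E.ι.ker) := (S8914.result E.ι.ker).2 hexc.1
  have hωXi := isInvertible_of_isCanonical hωX
  have hωYi := isInvertible_of_isCanonical hωY
  have hLi : PicF.IsInvertible L := CastLib.isInvertible_inverse_ideal hL
  obtain ⟨ωY', hωY', ⟨eY⟩⟩ := AmpleEmb.exists_isInverseOf hωYi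
  have hadj := inter_add_inter_eq hX hωX E hL
  rw [euler_vertComp, hh1, hself] at hadj
  let F : X.Modules := CohB1.tensorMod ωX (CohB1.tensorMod ((Scheme.Modules.pullback f).obj ωY') (ClSub.idealMod E.ι.ker))
  have hF : PicF.IsInvertible F :=
    AmpleLib.isInvertible_tensor hωXi (AmpleLib.isInvertible_tensor (AmpleLib.isInvertible_pullback f hωY') hI)
  have hpt : pullCls E.ι (pullCls f (mk ωY')) = 1 := by
    have h1 : E.ι ≫ f = eP.inv ≫ CohB1.ProjSpace.toSpec 1 (Y.left.residueField y) ≫ Y.left.fromSpecResidueField y := by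
      rw [← heP, Iso.inv_hom_id_assoc]
    refine (CastLib.BlowPic.pullCls_comp (E.ι : E.curve.left ⟶ X) f _).trans ?_
    rw [h1, ← Category.assoc]
    exact CastLib.BlowPic.pullCls_eq_one_of_point _ _ hωY'
  have hdeg : ArSurf.curveDeg K E.curve.left ((Scheme.Modules.pullback E.ι).obj F) = 0 := by
    show ArSurf.inter R (Over.mk (f ≫ Y.hom)) F E = 0
    rw [CastLib.inter_tensor E hωXi (AmpleLib.isInvertible_tensor (AmpleLib.isInvertible_pullback f hωY') hI),
      CastLib.inter_tensor E (AmpleLib.isInvertible_pullback f hωY') hI]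
    have h0 : ArSurf.inter R (Over.mk (f ≫ Y.hom)) ((Scheme.Modules.pullback f).obj ωY') E = 0 := by
      obtain ⟨e⟩ : Nonempty ((Scheme.Modules.pullback E.ι).obj ((Scheme.Modules.pullback f).obj ωY') ≅
          Coh.structureModule E.curve.left) :=
        mk_eq_mk.1 (((pullCls_mk E.ι _).symm.trans (by rw [← pullCls_mk f]; exact hpt)).trans
          IntLib.mk_structureModule.symm)
      rw [ArSurf.inter, CastLib.curveDeg_iso (k := K) (CastLib.dim_vertComp E) e, ArSurf.curveDeg, sub_self]
    obtain ⟨eL⟩ := id hL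
    have h2 := CastLib.inter_tensor E hLi hI
    rw [CastLib.inter_congr E eL, hself] at h2
    have h5 : ArSurf.inter R (Over.mk (f ≫ Y.hom)) (Coh.structureModule X) E = 0 := CastLib.inter_one E
    rw [h5] at h2
    push_cast at hadj
    linarith
  have hFE := nonempty_iso_of_deg_zero hX hωX E hL (by
    rw [hself]
    have := (CastLib.wdeg_dvd E).1
    push_cast at hadj
    omega) (AmpleLib.isInvertible_pullback E.ι hF) hdeg
  obtain ⟨M, hM, ⟨eM⟩⟩ := (Groth.Agent.S7929.result R Y hY y hy hys f hf E hE).2 F hF hFE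
  let U : Y.left.Opens := ⟨{y}ᶜ, hy.isOpen_compl⟩
  haveI hiso : IsIso (f ∣_ U) := SurfPtBlow.isIso_restrict_compl hf U fun hh => hh rfl
  haveI : QuasiCompact U.ι := inferInstance
  haveI : QuasiCompact (f ⁻¹ᵁ U).ι := inferInstance
  haveI : QuasiCompact ((f ∣_ U) ≫ U.ι) := inferInstance
  obtain ⟨eω⟩ := nonempty_iso_open (f ⁻¹ᵁ U).ι ((f ∣_ U) ≫ U.ι) (f ≫ Y.hom) Y.hom
    (by rw [Category.assoc, ← morphismRestrict_ι_assoc]) hωX hωY
  have hMU : pullCls (f ∣_ U) (pullCls U.ι (mk M)) = 1 := by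
    rw [CastLib.BlowPic.pullCls_comp, morphismRestrict_ι, ← CastLib.BlowPic.pullCls_comp, pullCls_mk f,
      mk_congr eM, mk_tensor, mk_tensor, map_mul, map_mul, ← pullCls_mk f,
      pullCls_idealMod_eq_one (f ⁻¹ᵁ U).ι hI (fun w hw => by
        rw [← SetLike.mem_coe, CastLib.support_ker] at hw
        obtain ⟨c, hc⟩ := hw
        exact w.2 ((hE' _).1 ⟨c, hc⟩)),
      pullCls_mk (f ⁻¹ᵁ U).ι ωX, mk_congr eω, ← pullCls_mk ((f ∣_ U) ≫ U.ι), mul_one,
      CastLib.BlowPic.pullCls_comp, morphismRestrict_ι, ← map_mul, ← mk_tensor, mk_congr eY,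
      IntLib.mk_structureModule, map_one]
  have hMU' : pullCls U.ι (mk M) = 1 := by
    have h3 := congrArg (pullCls (inv (f ∣_ U))) hMU
    rwa [CastLib.BlowPic.pullCls_comp, IsIso.inv_hom_id, CastLib.BlowPic.pullCls_id, map_one] at h3
  obtain ⟨eT⟩ := (Groth.Agent.S7885.result Y.left (fun x => by
      haveI := h.reg x
      exact ⟨RegLocal.isDomain _, (PurityLib.isIntegrallyClosed_of_regular _).2⟩) U (fun x hx => by
      have hxy : x = y := not_not.1 hx
      rw [hxy, hd]) M hM).2
    (CastLib.BlowPic.mk_eq_one.1 ((CastLib.BlowPic.mk_restrict U M).trans hMU'))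
  let IE : X.Modules := ClSub.idealMod (E.ι.ker : X.IdealSheafData)
  refine mk_eq_mk.1 ?_
  have hF1 : mk F = 1 := by rw [← mk_congr eM, ← pullCls_mk f, mk_congr eT, IntLib.mk_structureModule, map_one]
  replace hF1 : mk ωX * (pullCls f (mk ωY') * mk IE) = 1 := by
    rw [pullCls_mk f, ← mk_tensor, ← mk_tensor]; exact hF1
  rw [mk_tensor, ← pullCls_mk f]
  obtain ⟨eL⟩ := id hL
  have hLI : mk L * mk (IE) = 1 := by rw [← mk_tensor, mk_congr eL, IntLib.mk_structureModule]
  have hYY : pullCls f (mk ωY) * pullCls f (mk ωY') = 1 := by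
    rw [← map_mul, ← mk_tensor, mk_congr eY, IntLib.mk_structureModule, map_one]
  calc mk ωX = mk ωX * ((pullCls f (mk ωY) * pullCls f (mk ωY')) * (mk L * mk (IE))) := by
        rw [hYY, hLI, mul_one, mul_one]
    _ = mk ωX * (pullCls f (mk ωY') * mk (IE)) * (pullCls f (mk ωY) * mk L) := by ac_rfl
    _ = pullCls f (mk ωY) * mk L := by rw [hF1, one_mul]

end Groth.Agent.CanonFac
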