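import Groth.Agent.CanonFacLib.Genus
import Groth.Agent.CanonFacLib.Restrict
import Groth.Agent.CastLib.PicTors
import Groth.Agent.CastLib.Section
import Groth.Agent.CastLib.Genus
import Groth.Agent.CastLib.GlobalConst
import Groth.Agent.TwistShriek.SurfSmooth
import Groth.Agent.S7831
import Groth.Agent.S1536

/-!
# Canonical sheaves of surfaces of genus one with a section
-/

set_option autoImplicit false
set_option backward.isDefEq.respectTransparency false
set_option linter.style.haveILetI false
set_option linter.unusedSectionVars false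
set_option maxHeartbeats 1000000
set_option synthInstance.maxHeartbeats 200000

universe u

open CategoryTheory CategoryTheory.Limits AlgebraicGeometry TopologicalSpace IsLocalRing
open Groth.Agent.IntLib (mk pullCls mk_congr mk_tensor mk_eq_mk pullCls_mk)

noncomputable section

namespace Groth.Agent.CanonFac

variable {R : Type u} [CommRing R] [IsDomain R] [IsDiscreteValuationRing R] {X : Over (Spec (CommRingCat.of R))}

/-- A smooth morphism is its own canonical factorisation. -/
theorem isCanonical_omega {P Y : Scheme.{u}} (f : P ⟶ Y) (n : ℕ) [SmoothOfRelativeDimension n f] [QuasiSeparated f]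
    {D : P.Modules} (hD : ExtPow.IsExtPow n (Omega.sheaf f) D) : Canon.IsCanonical f D := by
  refine ⟨P, 𝟙 P, f, 0, n, Category.id_comp f, codim_zero_of_openImmersion (𝟙 P), inferInstance, inferInstance,
    inferInstance, Coh.structureModule P, D, KVb.isExtPow_zero _, hD, mk_eq_mk.1 ?_⟩
  rw [mk_tensor, IntLib.mk_structureModule, mul_one]
  exact (mk_congr ((Scheme.Modules.pullbackId P).app D)).symm

/-- The canonical sheaf is trivial on a generic fibre of genus one. -/
theorem trivial_generic_of_genus_one (hX : ArSurf.IsArithSurface R X)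
    [Smooth ((Neron.genericFibre R).obj X).hom] [GeometricallyIrreducible ((Neron.genericFibre R).obj X).hom]
    (hg : FGA.eulerCharLE (FractionRing R) ((Neron.genericFibre R).obj X).left
      (Coh.structureModule ((Neron.genericFibre R).obj X).left) 1 = 0)
    {ω : X.left.Modules} (hω : Canon.IsCanonical X.hom ω) :
    Curve.IsSmoothProperCurve (FractionRing R) (pullback X.hom (Neron.genPt R)) (pullback.snd X.hom (Neron.genPt R)) ∧
    IsIso (pullback.snd X.hom (Neron.genPt R)).appTop ∧
    pullCls (pullback.fst X.hom (Neron.genPt R)) (mk ω) = 1 := by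
  haveI : IsProper X.hom := (SurfPtBlow.arSurf_facts hX).1
  haveI : IsLocallyNoetherian X.left := LocallyOfFiniteType.isLocallyNoetherian X.hom
  haveI := hX.2.2.2.1
  let j := Neron.genPt R
  let t := pullback.snd X.hom j
  let q := pullback.fst X.hom j
  let G := (Neron.genericFibre R).obj X
  haveI : IsProper t := inferInstance
  haveI : IsProper (G.left ↘ Spec (CommRingCat.of (FractionRing R))) := ‹IsProper t›
  haveI : Smooth (G.left ↘ Spec (CommRingCat.of (FractionRing R))) := ‹Smooth G.hom›
  haveI : Smooth t := ‹Smooth G.hom›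
  haveI : GeometricallyConnected t := by
    refine ⟨fun K _ y P' a b H => ?_⟩
    haveI := GeometricallyIrreducible.geometrically_irreducibleSpace
      (self := ‹GeometricallyIrreducible G.hom›) y a b H
    infer_instance
  haveI : GeometricallyConnected (G.left ↘ Spec (CommRingCat.of (FractionRing R))) := ‹GeometricallyConnected t›
  haveI := AVLib.geometricallyReduced_of_smooth (G.left ↘ Spec (CommRingCat.of (FractionRing R)))
  haveI := EulerIneqLib.isNoetherian_proper (X := G.left) (FractionRing R)
  haveI : ConnectedSpace G.left :=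
    GeometricallyConnected.connectedSpace_of_subsingleton (G.left ↘ Spec (CommRingCat.of (FractionRing R)))
  haveI := CurveLib.isIntegral_of_smooth (X := G.left) (FractionRing R)
  have h0 := S1536.result (FractionRing R) G.left
  have hg1 : Curv2.genus (FractionRing R) G.left = 1 := by
    simp only [FGA.eulerCharLE, Finset.sum_range_succ, Finset.sum_range_zero, zero_add, pow_zero, pow_one,
      one_mul] at hg
    rw [h0] at hg
    push_cast at hg
    have : (Module.finrank (FractionRing R) (Coh.HH G.left (Coh.structureModule G.left) 1) : ℤ) = 1 :=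
      (sub_eq_zero.1 (show (1 : ℤ) - _ = 0 by linear_combination hg)).symm
    exact_mod_cast this
  have hle : topologicalKrullDim G.left ≤ ((1 : ℕ) : WithBot ℕ∞) :=
    CastLib.dim_le_of_fibre (IsDiscreteValuationRing.not_isField R) hX q
      (genericPoint (Spec (CommRingCat.of R))) fun w => (SurfPtBlow.range_fst X).le ⟨w, rfl⟩
  have hdim : topologicalKrullDim G.left = 1 := by
    refine le_antisymm (by exact_mod_cast hle) ?_
    by_contra hlt
    have h01 : topologicalKrullDim G.left ≤ ((0 : ℕ) : WithBot ℕ∞) := by
      revert hlt hle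
      generalize topologicalKrullDim G.left = d
      cases d using WithBot.recBotCoe with
      | bot => intros; exact bot_le
      | coe d =>
        intro _ hlt
        rw [not_le, show (1 : WithBot ℕ∞) = ((1 : ℕ∞) : WithBot ℕ∞) from rfl, WithBot.coe_lt_coe,
          ENat.lt_one_iff_eq_zero] at hlt
        subst hlt
        exact le_of_eq rfl
    haveI := CurveLib.subsingleton_HH_of_dim (Coh.structureModule G.left) h01 (p := 1) Nat.zero_lt_one
    have := (Module.finrank_zero_of_subsingleton (R := FractionRing R)
      (M := Coh.HH G.left (Coh.structureModule G.left) 1))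
    rw [Curv2.genus] at hg1
    omega
  obtain ⟨eT⟩ := S7831.result (FractionRing R) G.left hdim hg1
  haveI : IsIntegral (pullback X.hom j) := ‹IsIntegral G.left›
  haveI : IsOpenImmersion q :=
    SurfPtBlow.isOpenImmersion_gen (p := X.hom) (f := t) (g := q) (IsPullback.of_hasPullback X.hom j)
  haveI : IsLocallyNoetherian (pullback X.hom j) := LocallyOfFiniteType.isLocallyNoetherian t
  haveI : IsOpenImmersion j := SurfPtBlow.isOpenImmersion_gen (p := 𝟙 _) (f := 𝟙 _) (g := j)
    (IsPullback.of_horiz_isIso ⟨by simp [j, Neron.genPt]⟩).flip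
  haveI : SmoothOfRelativeDimension 1 t := TwistShriek.smoothOfRelativeDimension_of_smooth t (by exact_mod_cast hdim)
  haveI : SmoothOfRelativeDimension 1 (t ≫ j) := inferInstanceAs (SmoothOfRelativeDimension (1 + 0) (t ≫ j))
  obtain ⟨eb⟩ := GrpOmega.omega_baseChange (f := t ≫ j) (f' := t) (g' := 𝟙 (pullback X.hom j)) (g := j)
    (IsPullback.of_horiz_isIso_mono ⟨Category.id_comp _⟩)
  have hP : Canon.IsCanonical (t ≫ j) (Omega.sheaf (t ≫ j)) := isCanonical_omega _ 1 (KVb.isExtPow_one _)
  obtain ⟨e⟩ := nonempty_iso_open q (𝟙 _) X.hom (t ≫ j) (pullback.condition.trans (Category.id_comp _).symm) hω hP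
  refine ⟨⟨inferInstance, inferInstance, inferInstance, hdim⟩, ?_, ?_⟩
  · haveI : GeometricallyReduced t := ‹GeometricallyReduced (G.left ↘ Spec (CommRingCat.of (FractionRing R)))›
    have hb := PicTrivLib.bijective_appTop_of_geom t
    refine (ConcreteCategory.isIso_iff_bijective t.appTop).2 ?_
    exact (Function.Bijective.of_comp_iff _ (ConcreteCategory.bijective_of_isIso
      (Scheme.ΓSpecIso (CommRingCat.of (FractionRing R))).inv)).1 hb
  · rw [pullCls_mk, mk_congr e, mk_congr eb]
    exact (mk_congr eT).trans IntLib.mk_structureModule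

/-- On a relatively minimal surface with a section and a generic fibre of genus one the canonical sheaf is trivial. -/
theorem nonempty_iso_one_of_genus_one (hX : ArSurf.IsArithSurface R X)
    [Smooth ((Neron.genericFibre R).obj X).hom] [GeometricallyIrreducible ((Neron.genericFibre R).obj X).hom]
    (hg : FGA.eulerCharLE (FractionRing R) ((Neron.genericFibre R).obj X).left
      (Coh.structureModule ((Neron.genericFibre R).obj X).left) 1 = 0)
    (σ : Spec (CommRingCat.of R) ⟶ X.left) (hσ : σ ≫ X.hom = 𝟙 _)
    {ω : X.left.Modules} (hω : Canon.IsCanonical X.hom ω) (hnef : ∀ C : ArSurf.VertComp R X, 0 ≤ ArSurf.inter R X ω C) :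
    Nonempty (ω ≅ Coh.structureModule X.left) := by
  obtain ⟨hC, hH0, htriv⟩ := trivial_generic_of_genus_one hX hg hω
  haveI : IsProper X.hom := (SurfPtBlow.arSurf_facts hX).1
  haveI := hX.2.2.2.1
  let j := Neron.genPt R
  have hY : Models.IsRegularProperModel R X.left X.hom (pullback X.hom j) (pullback.snd X.hom j) :=
    ⟨⟨inferInstance, inferInstance, inferInstance, pullback.fst X.hom j, IsPullback.of_hasPullback X.hom j⟩,
      inferInstance, hX.1⟩
  have hV := CastLib.VSurf.of_arith hX
  obtain ⟨n, Γ, hΓ⟩ := hV.exists_componentList' hX.2.2.1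
  have hsum := sum_mult_inter_canonical hX hω Γ hΓ
  rw [hg, mul_zero] at hsum
  have hdeg : ∀ i, ArSurf.inter R X ω (Γ i) = 0 := fun i =>
    (mul_eq_zero.1 ((Finset.sum_eq_zero_iff_of_nonneg fun k _ => mul_nonneg (Int.natCast_nonneg _) (hnef (Γ k))).1
      hsum i (Finset.mem_univ i))).resolve_left (by exact_mod_cast (hV.mult_pos hΓ i).ne')
  let s : Spec (CommRingCat.of (FractionRing R)) ⟶ pullback X.hom j :=
    pullback.lift (j ≫ σ) (𝟙 _) (by rw [Category.assoc, hσ, Category.comp_id, Category.id_comp])
  obtain ⟨⟨i, -, -, -, -, -, -, hm⟩, -⟩ :=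
    CastLib.rational_point_consequences (p := X.hom) hC hH0 hY hΓ s (pullback.lift_snd ..)
  have hgcd : Models.multGcd R X Γ = 1 := Nat.dvd_one.1 (hm ▸ Finset.gcd_dvd (Finset.mem_univ i))
  have h := CastLib.pow_multGcd_eq_one (p := X.hom) hC hH0 hY hΓ (IsPullback.of_hasPullback X.hom j)
    (isInvertible_of_isCanonical hω) htriv hdeg
  rw [show Models.multGcd R (Over.mk X.hom) Γ = 1 from hgcd, pow_one] at h
  exact mk_eq_mk.1 (h.trans IntLib.mk_structureModule.symm)

end Groth.Agent.CanonFac
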