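import Groth.Agent.CanonFacLib.Adj
import Groth.Agent.CanonFacLib.Restrict
import Groth.Agent.CanonFacLib.GenusOne
import Groth.Agent.CastLib.EulerFlat
import Groth.Agent.CastLib.ArtinSec
import Groth.Agent.CastLib.GGContract
import Groth.Agent.CastLib.ContractUnique
import Groth.Agent.TildePerf.RelPerf
import Groth.Agent.S1641
import Groth.Agent.S4702
import Groth.Agent.CurveLib.Ample

/-!
# The degree of the canonical sheaf on the fibres of a projective surface over a trait
-/

set_option autoImplicit false
set_option backward.isDefEq.respectTransparency false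
set_option linter.style.haveILetI false
set_option linter.unusedSectionVars false
set_option maxHeartbeats 1000000
set_option synthInstance.maxHeartbeats 200000

universe u

open CategoryTheory CategoryTheory.Limits AlgebraicGeometry TopologicalSpace
open Groth.Agent.IntLib (mk pullCls mk_congr mk_tensor mk_eq_mk pullCls_mk)

noncomputable section

namespace Groth.Agent.CanonFac

/-- The Euler characteristic of a module on the fibre at the image of a field valued point. -/
theorem eulerChar_point_mod {S Y : Scheme.{u}} (p : Y ⟶ S) [IsSeparated p] [QuasiCompact p] [IsLocallyNoetherian Y]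
    {K : Type u} [Field K] {Z : Scheme.{u}} {f : Z ⟶ Spec (CommRingCat.of K)} {g : Spec (CommRingCat.of K) ⟶ S}
    {g' : Z ⟶ Y} (hc : IsPullback g' f p g) [IsProper f] (t : Spec (CommRingCat.of K)) (M : Y.Modules) [Coh.IsQCoh M] :
    letI : Z.Over (Spec (CommRingCat.of K)) := ⟨f⟩
    PerfAux.eulerChar p M (g t) = Curv2.euler K Z ((Scheme.Modules.pullback g').obj M) := by
  letI : Z.Over (Spec (CommRingCat.of K)) := ⟨f⟩
  haveI : IsSeparated f := inferInstance
  haveI : IsLocallyNoetherian Z := LocallyOfFiniteType.isLocallyNoetherian f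
  haveI : Coh.IsQCoh ((Scheme.Modules.pullback g').obj M) := PullbackMod.isQCoh_pullback _ _
  refine finsum_congr fun i => ?_
  congr 1
  rw [GenBCLib.betti_eq, ← BCLib.fiberRank_baseChange hc M i t, CastLib.fiberRank_self f]

/-- A homeomorphism carries components to components. -/
theorem maximal_image_homeo {A B : Type u} [TopologicalSpace A] [TopologicalSpace B] (φ : A ≃ₜ B) {C : Set A}
    (hC : C ∈ irreducibleComponents A) : φ '' C ∈ irreducibleComponents B := by
  refine ⟨hC.1.image φ φ.continuous.continuousOn, fun D hD hle => ?_⟩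
  have h1 : φ.symm '' D ⊆ C := hC.2 (hD.image φ.symm φ.symm.continuous.continuousOn) fun a ha =>
    ⟨φ a, hle ⟨a, ha, rfl⟩, φ.symm_apply_apply a⟩
  exact fun b hb => ⟨φ.symm b, h1 ⟨b, hb, rfl⟩, φ.apply_symm_apply b⟩

/-- Irreducible subsets of the range of an embedding pull back to irreducible sets. -/
theorem isIrreducible_preimage {A B : Type u} [TopologicalSpace A] [TopologicalSpace B] {f : A → B}
    (hf : Topology.IsEmbedding f) {T : Set B} (hT : IsIrreducible T) (hsub : T ⊆ Set.range f) :
    IsIrreducible (f ⁻¹' T) := by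
  refine ⟨?_, fun u v hu hv hu' hv' => ?_⟩
  · obtain ⟨t, ht⟩ := hT.1
    obtain ⟨a, rfl⟩ := hsub ht
    exact ⟨a, ht⟩
  obtain ⟨U, hU, rfl⟩ := hf.isInducing.isOpen_iff.1 hu
  obtain ⟨V, hV, rfl⟩ := hf.isInducing.isOpen_iff.1 hv
  obtain ⟨a, ha, haU⟩ := hu'
  obtain ⟨b, hb, hbV⟩ := hv'
  obtain ⟨t, ht, htU, htV⟩ := hT.2 U V hU hV ⟨f a, ha, haU⟩ ⟨f b, hb, hbV⟩
  obtain ⟨c, rfl⟩ := hsub ht
  exact ⟨c, ht, htU, htV⟩

/-- The stalk at the generic point of a component has positive finite length. -/
theorem one_le_length_component {Z : Scheme.{u}} [IsLocallyNoetherian Z] {C : Set Z}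
    (hC : C ∈ irreducibleComponents (Z : Type u)) :
    1 ≤ (Module.length (Z.presheaf.stalk hC.1.genericPoint) (Z.presheaf.stalk hC.1.genericPoint)).toNat := by
  let ξ := hC.1.genericPoint
  have hξ : closure ({ξ} : Set Z) = C := hC.1.closure_genericPoint (isClosed_of_mem_irreducibleComponents C hC)
  have h0 : ringKrullDim (Z.presheaf.stalk ξ) = 0 := by
    rw [ringKrullDim_stalk_eq_coheight]
    have : Order.coheight ξ = 0 := by
      rw [Order.coheight_eq_zero]
      intro y hy
      have h1 : C ⊆ closure ({y} : Set Z) := by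
        rw [← hξ]
        exact closure_minimal (Set.singleton_subset_iff.2 (specializes_iff_mem_closure.1 hy)) isClosed_closure
      exact (specializes_iff_mem_closure.2 (hξ.symm ▸ hC.2 isIrreducible_singleton.closure h1 (subset_closure rfl)) :
        ξ ⤳ y)
    rw [this]
    rfl
  haveI : Ring.KrullDimLE 0 (Z.presheaf.stalk ξ) := Ring.krullDimLE_iff.2 h0.le
  haveI : IsArtinianRing (Z.presheaf.stalk ξ) := IsNoetherianRing.isArtinianRing_of_krullDimLE_zero
  have hne : Module.length (Z.presheaf.stalk ξ) (Z.presheaf.stalk ξ) ≠ 0 := fun h =>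
    not_subsingleton (Z.presheaf.stalk ξ) (Module.length_eq_zero_iff.1 h)
  have htop : Module.length (Z.presheaf.stalk ξ) (Z.presheaf.stalk ξ) ≠ ⊤ :=
    Module.length_ne_top_iff.2 (isFiniteLength_iff_isNoetherian_isArtinian.2 ⟨inferInstance, inferInstance⟩)
  exact Nat.one_le_iff_ne_zero.2 fun h => by
    rcases ENat.toNat_eq_zero.1 h with h' | h'
    exacts [hne h', htop h']

variable {R : Type u} [CommRing R] [IsDomain R] [IsDiscreteValuationRing R]

local notation "F" => FractionRing R

/-- Duality of the canonical sheaf on the generic fibre. -/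
theorem euler_generic_canonical {Y : Over (Spec (CommRingCat.of R))} [IsIntegral Y.left] [Flat Y.hom]
    (hproj : Neron.IsProjectiveOver R Y) (hdim : topologicalKrullDim Y.left = 2)
    {ω : Y.left.Modules} (hω : Canon.IsCanonical Y.hom ω) :
    topologicalKrullDim ((Neron.genericFibre R).obj Y).left = 1 ∧
      FGA.eulerCharLE F ((Neron.genericFibre R).obj Y).left
        ((Scheme.Modules.pullback (pullback.fst Y.hom (Neron.genPt R))).obj ω) 1 =
      -FGA.eulerCharLE F ((Neron.genericFibre R).obj Y).left
        (Coh.structureModule ((Neron.genericFibre R).obj Y).left) 1 := by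
  haveI := CastLib.isProper_of_projective hproj
  haveI : IsLocallyNoetherian Y.left := LocallyOfFiniteType.isLocallyNoetherian Y.hom
  haveI : CompactSpace Y.left := QuasiCompact.compactSpace_of_compactSpace Y.hom
  let j := Neron.genPt R
  let G := ((Neron.genericFibre R).obj Y).left
  let q : G ⟶ Y.left := pullback.fst Y.hom j
  let t : G ⟶ Spec (CommRingCat.of F) := pullback.snd Y.hom j
  haveI : IsProper t := inferInstanceAs (IsProper (pullback.snd Y.hom j))
  haveI : IsOpenImmersion j := SurfPtBlow.isOpenImmersion_gen (p := 𝟙 _) (f := 𝟙 _) (g := j)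
    (IsPullback.of_horiz_isIso ⟨by simp [j, Neron.genPt]⟩).flip
  haveI : IsOpenImmersion q := inferInstanceAs (IsOpenImmersion (pullback.fst Y.hom j))
  haveI : IsLocallyNoetherian G := LocallyOfFiniteType.isLocallyNoetherian t
  haveI : CompactSpace G := QuasiCompact.compactSpace_of_compactSpace t
  haveI : AlgebraicGeometry.IsNoetherian G := { }
  obtain ⟨w, hwne, hw⟩ := CastLib.ArtinSec.exists_generic_ne (R := R) hdim
  let η := genericPoint (Spec (CommRingCat.of R))
  have hj : ∀ s, j s = η := fun s => (SurfPtBlow.range_genPt (R := R)).le ⟨s, rfl⟩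
  have hwη : Y.hom w = η := by
    have h : ∀ s : PrimeSpectrum R, s ≠ IsLocalRing.closedPoint R → s.asIdeal = ⊥ := fun s hs => by
      by_contra h0
      exact hs (PrimeSpectrum.ext (IsLocalRing.eq_maximalIdeal (s.2.isMaximal h0)))
    exact PrimeSpectrum.ext ((h _ hw).trans CastLib.asIdeal_genericPoint.symm)
  obtain ⟨w', hw'⟩ : w ∈ Set.range q := by
    rw [show Set.range q = Y.hom ⁻¹' Set.range j from Scheme.Pullback.range_fst .., Set.mem_preimage, SurfPtBlow.range_genPt]
    exact hwη
  haveI : Nonempty G := ⟨w'⟩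
  haveI : IsIntegral G := isIntegral_of_isOpenImmersion q
  have hle : topologicalKrullDim G ≤ ((1 : ℕ) : WithBot ℕ∞) := by
    rw [ASp.topologicalKrullDim_eq_krullDim]
    refine iSup_le fun l => ?_
    have h2 : Order.krullDim Y.left ≤ 2 := by
      rw [← ASp.topologicalKrullDim_eq_krullDim]; exact hdim.le
    have hmono : StrictMono q := fun a b h => by
      rw [lt_iff_le_not_ge] at h ⊢
      simp only [Scheme.le_iff_specializes, q.isEmbedding.isInducing.specializes_iff] at h ⊢
      exact h
    have hqη : ∀ z, Y.hom (q z) = η := fun z => by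
      rw [← Scheme.Hom.comp_apply, show q ≫ Y.hom = t ≫ j from pullback.condition, Scheme.Hom.comp_apply]
      exact hj _
    obtain ⟨m, -, hm⟩ := CastLib.exists_isMaximal_ne_genericPoint (IsDiscreteValuationRing.not_isField R)
    let z := (l.map q hmono).head
    obtain ⟨v, hv, hvm⟩ : m ∈ Y.hom '' closure {z} :=
      (genericPoint_specializes m).mem_closed (Y.hom.isClosedMap _ isClosed_closure) ⟨z, subset_closure rfl, hqη _⟩
    have hzv : z ⤳ v := specializes_iff_mem_closure.2 hv
    have hlt : v < z := lt_of_le_not_ge (Scheme.le_iff_specializes.2 hzv) fun h => hm (by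
      rw [← hvm, ((Scheme.le_iff_specializes.1 h).antisymm hzv).eq]
      exact hqη _)
    have h3 := (Order.LTSeries.length_le_krullDim ((l.map q hmono).cons v hlt)).trans h2
    simp only [RelSeries.cons_length, LTSeries.map_length] at h3
    have h4 : l.length + 1 ≤ 2 := by exact_mod_cast h3
    exact_mod_cast (show l.length ≤ 1 by omega)
  have hdG : topologicalKrullDim G = 1 := by
    refine le_antisymm (by exact_mod_cast hle) ?_
    rw [ASp.topologicalKrullDim_eq_krullDim]
    have hlt : w' < genericPoint G := lt_of_le_not_ge (Scheme.le_iff_specializes.2 (genericPoint_specializes _))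
      fun h => hwne (by
        rw [← hw', ((Scheme.le_iff_specializes.1 h).antisymm (genericPoint_specializes w')).eq]
        exact genericPoint_eq_of_isOpenImmersion q)
    have h := Order.LTSeries.length_le_krullDim ((RelSeries.singleton _ w').snoc (genericPoint G) hlt)
    simpa using h
  refine ⟨hdG, ?_⟩
  have hdimx : ∀ x : G, IsClosed ({x} : Set G) → ringKrullDim (G.presheaf.stalk x) = 1 := fun x hx => by
    refine ProjSerreLib.dim_closed_point_of_equidim t (n := 1) (by rw [hdG, Nat.cast_one]) (fun C hC => ?_) x hx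
    rw [irreducibleComponents_eq_singleton, Set.mem_singleton_iff] at hC
    rw [hC, IsHomeomorph.topologicalKrullDim_eq _ (Homeomorph.Set.univ _).isHomeomorph, hdG, Nat.cast_one]
  -- the projective embedding
  obtain ⟨N, i₀, hi₀, hi₀X⟩ := id hproj
  haveI := hi₀
  obtain ⟨e₀, he₀⟩ := ProjOverLib.exists_iso_polyProj N R
  let jY : Y.left ⟶ CohB1.ProjSpace N R := i₀ ≫ e₀.hom
  haveI : IsClosedImmersion jY := inferInstanceAs (IsClosedImmersion (i₀ ≫ e₀.hom))
  have hjY : jY ≫ CohB1.ProjSpace.toSpec N R = Y.hom := by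
    rw [Category.assoc]
    erw [he₀]
    exact hi₀X
  obtain ⟨tP, hpb⟩ := ProjOverLib.exists_isPullback_polyProj N R F
  let tP : CohB1.ProjSpace N F ⟶ CohB1.ProjSpace N R := tP
  replace hpb : IsPullback tP (CohB1.ProjSpace.toSpec N F) (CohB1.ProjSpace.toSpec N R) j := hpb
  let e : G ⟶ CohB1.ProjSpace N F := hpb.lift (q ≫ jY) t (by
    rw [Category.assoc, hjY]; exact pullback.condition)
  have het : e ≫ tP = q ≫ jY := hpb.lift_fst _ _ _
  have heq : e ≫ CohB1.ProjSpace.toSpec N F = t := hpb.lift_snd _ _ _
  have hsq : IsPullback q e jY tP := by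
    refine IsPullback.of_bot ?_ het.symm hpb
    rw [heq, hjY]
    exact IsPullback.of_hasPullback Y.hom j
  haveI : IsClosedImmersion e := MorphismProperty.of_isPullback (P := @IsClosedImmersion) hsq inferInstance
  -- regularity of the embedding
  obtain ⟨W, i, g, c, n, hig, hi, hg, hiq, hgq, hvia⟩ := hω
  haveI := hiq
  haveI := hgq
  haveI : Smooth g := SmoothOfRelativeDimension.smooth n g
  haveI : IsLocallyNoetherian W := LocallyOfFiniteType.isLocallyNoetherian g
  haveI hsK : Smooth (CohB1.ProjSpace.toSpec N F) := SmoothOfRelativeDimension.smooth N _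
  haveI : IsLocallyNoetherian (CohB1.ProjSpace N F) := LocallyOfFiniteType.isLocallyNoetherian (CohB1.ProjSpace.toSpec N F)
  have hqi := codim_open_comp q i hi
  haveI := hqi.1
  have hcl : ∀ x : G, IsClosed ({x} : Set G) → IsRegularLocalRing ((CohB1.ProjSpace N F).presheaf.stalk (e x)) ∧
      1 ≤ N ∧ GenAt e x (N - 1) ∧ ringKrullDim (G.presheaf.stalk x) + (N - 1 : ℕ) =
        ringKrullDim ((CohB1.ProjSpace N F).presheaf.stalk (e x)) := fun x hx => by
    haveI hr1 : IsRegularLocalRing ((CohB1.ProjSpace N F).presheaf.stalk (e x)) :=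
      BlowChartLib.regular_stalk_of_smooth (CohB1.ProjSpace.toSpec N F) _ (regular_stalk_spec F _)
    haveI hr2 : IsRegularLocalRing (W.presheaf.stalk ((q ≫ i) x)) :=
      BlowChartLib.regular_stalk_of_smooth g _ (regular_stalk_spec R _)
    obtain ⟨⟨rs, hrs, hk⟩, hd⟩ := dim_eq_of_regularImmersion (q ≫ i) hqi x
    have hcut : CILib.CutBy ((q ≫ i).stalkMap x).hom := by
      refine ⟨c, ⟨fun k => rs.get (Fin.cast hrs.symm k), ?_⟩, (hd inferInstance).symm⟩
      rw [hk, Ideal.ofList]
      congr 1
      ext a
      constructor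
      · intro ha
        obtain ⟨k, rfl⟩ := List.get_of_mem ha
        exact ⟨Fin.cast hrs k, congrArg rs.get (Fin.ext rfl)⟩
      · rintro ⟨k, rfl⟩
        exact List.get_mem _ _
    obtain ⟨c', ⟨f', hf'⟩, hd'⟩ := (CILib.cutBy_iff_of_surjective ((q ≫ i).stalkMap x).hom (e.stalkMap x).hom
      ((q ≫ i).stalkMap_surjective x) (e.stalkMap_surjective x)).1 hcut
    have hN : ringKrullDim ((CohB1.ProjSpace N F).presheaf.stalk (e x)) = (N : WithBot ℕ∞) :=
      FundLocIsoLib.ringKrullDim_stalk_projSpace (e x) (by
        rw [← Set.image_singleton]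
        exact e.isClosedEmbedding.isClosedMap _ hx)
    have hc' : c' + 1 = N := by
      rw [hN, hdimx x hx] at hd'
      have : N = 1 + c' := by exact_mod_cast hd'
      omega
    obtain rfl : c' = N - 1 := by omega
    refine ⟨hr1, by omega, ⟨List.ofFn f', List.length_ofFn, ?_⟩, hd'.symm⟩
    rw [hf', Ideal.ofList]
    congr 1
    ext a
    simp [List.mem_ofFn]
  obtain ⟨x₀, -, hx₀⟩ := IsClosed.exists_closed_singleton (isClosed_univ (X := G)) Set.univ_nonempty
  have hN1 : 1 ≤ N := (hcl x₀ hx₀).2.1
  have hec : RegImm.IsRegularImmersionOfCodim RegImm.Kind.regular (N - 1) e :=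
    codim_of_closedPoints e (N - 1) fun x hx => ⟨(hcl x hx).1, (hcl x hx).2.2⟩
  -- the canonical sheaf through the embedding
  haveI : SmoothOfRelativeDimension N (CohB1.ProjSpace.toSpec N F ≫ j) :=
    inferInstanceAs (SmoothOfRelativeDimension (N + 0) (CohB1.ProjSpace.toSpec N F ≫ j))
  obtain ⟨eb⟩ := GrpOmega.omega_baseChange (f := CohB1.ProjSpace.toSpec N F ≫ j) (f' := CohB1.ProjSpace.toSpec N F)
    (g' := 𝟙 (CohB1.ProjSpace N F)) (g := j) (IsPullback.of_horiz_isIso_mono ⟨Category.id_comp _⟩)
  haveI := (PullbackMod.isQCoh_and_isFP_of_isFinLocFree _ (hasFrames_omega (CohB1.ProjSpace.toSpec N F) N).1).1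
  haveI := (PullbackMod.isQCoh_and_isFP_of_isFinLocFree _ (hasFrames_conormal e hec).1).1
  obtain ⟨DP, -, hDP⟩ := ExtPowLib.exists_isExtPow (Omega.sheaf (CohB1.ProjSpace.toSpec N F)) N
  obtain ⟨De, -, hDe⟩ := ExtPowLib.exists_isExtPow (Omega.conormal e) (N - 1)
  obtain ⟨Dinv, -, ⟨eu⟩⟩ := AmpleEmb.exists_isInverseOf ((hasFrames_conormal e hec).isInvertible hDe)
  let ω₀ := CohB1.tensorMod ((Scheme.Modules.pullback e).obj DP) Dinv
  have h0 : Nonempty (CohB1.tensorMod ω₀ De ≅ (Scheme.Modules.pullback e).obj DP) := mk_eq_mk.1 (by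
    rw [mk_tensor, mk_tensor, mul_assoc, mul_comm (mk Dinv), ← mk_tensor De, mk_congr eu, IntLib.mk_structureModule,
      mul_one])
  have hvia₀ : Canon.IsCanonicalVia e (CohB1.ProjSpace.toSpec N F) (N - 1) N ω₀ := ⟨De, DP, hDe, hDP, h0⟩
  have hvia₁ : Canon.IsCanonicalVia e (CohB1.ProjSpace.toSpec N F ≫ j) (N - 1) N ω₀ :=
    ⟨De, DP, hDe, KVb.isExtPow_iso (eb.symm ≪≫ (Scheme.Modules.pullbackId _).app _) (Iso.refl _) hDP, h0⟩
  obtain ⟨eω⟩ := nonempty_iso_via (q ≫ i) g e (CohB1.ProjSpace.toSpec N F ≫ j)
    (by rw [Category.assoc, hig, ← Category.assoc, heq]; exact pullback.condition)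
    hqi hg hec inferInstance (isCanonicalVia_open q i g hi hvia) hvia₁
  obtain ⟨-, hdual⟩ := @finrank_dual F _ N G ⟨t⟩ e inferInstance heq hN1 hdimx hdG.le hec _ hvia₀
  have hd0 := hdual (Coh.structureModule G) (Coh.structureModule G) ParaFLib.isInvertible_structureModule
    ⟨AmpleLib.unitR (Coh.structureModule G)⟩
  letI : G.Over (Spec (CommRingCat.of F)) := ⟨t⟩
  haveI : IsProper (G ↘ Spec (CommRingCat.of F)) := ‹IsProper t›
  refine Eq.trans ?_ (euler_of_dual hd0)
  show FGA.eulerCharLE F G ((Scheme.Modules.pullback q).obj ω) 1 = FGA.eulerCharLE F G ω₀ 1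
  rw [CastLib.eulerCharLE_eq_euler hdG.le, CastLib.eulerCharLE_eq_euler hdG.le]
  exact CurveLib.euler_iso eω

/-- **The components of the closed fibre are at most as many as minus twice the Euler characteristic**, when the
canonical sheaf is ample. -/
theorem card_fibreComponents_le (Y : Over (Spec (CommRingCat.of R))) [IsIntegral Y.left]
    (hdim : topologicalKrullDim Y.left = 2) [Flat Y.hom] (hproj : Neron.IsProjectiveOver R Y)
    {ω : Y.left.Modules} (hω : Canon.IsCanonical Y.hom ω) (hamp : CohB1.IsAmple ω) :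
    (Set.ncard (Models.fibreComponents R Y) : ℤ) ≤
      -2 * FGA.eulerCharLE F ((Neron.genericFibre R).obj Y).left
        (Coh.structureModule ((Neron.genericFibre R).obj Y).left) 1 := by
  haveI := CastLib.isProper_of_projective hproj
  haveI : IsLocallyNoetherian Y.left := LocallyOfFiniteType.isLocallyNoetherian Y.hom
  haveI : CompactSpace Y.left := QuasiCompact.compactSpace_of_compactSpace Y.hom
  haveI : AlgebraicGeometry.IsNoetherian Y.left := { }
  obtain ⟨hdG, hdual⟩ := euler_generic_canonical hproj hdim hω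
  have hωi := isInvertible_of_isCanonical hω
  haveI : Coh.IsQCoh ω := (CurveLib.isCoh_of_isInvertible hωi).1
  haveI : Coh.IsQCoh (Coh.structureModule Y.left) :=
    (CurveLib.isCoh_of_isInvertible ParaFLib.isInvertible_structureModule).1
  let p := Y.hom
  let η := genericPoint (Spec (CommRingCat.of R))
  let s := Spec.map (CommRingCat.ofHom (IsLocalRing.residue R))
  haveI : IsClosedImmersion s := IsClosedImmersion.spec_of_surjective _ IsLocalRing.residue_surjective
  let Z := pullback p s
  let i : Z ⟶ Y.left := pullback.fst p s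
  let z : Z ⟶ Spec (CommRingCat.of (IsLocalRing.ResidueField R)) := pullback.snd p s
  letI : Z.Over (Spec (CommRingCat.of (IsLocalRing.ResidueField R))) := ⟨z⟩
  haveI : IsProper z := inferInstanceAs (IsProper (pullback.snd p s))
  haveI : IsProper (Z ↘ Spec (CommRingCat.of (IsLocalRing.ResidueField R))) := ‹IsProper z›
  haveI := EulerIneqLib.isNoetherian_proper (X := Z) (IsLocalRing.ResidueField R)
  let G := ((Neron.genericFibre R).obj Y).left
  haveI : IsProper (pullback.snd Y.hom (Neron.genPt R)) := inferInstance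
  haveI : IsProper (G ↘ Spec (CommRingCat.of F)) := ‹IsProper (pullback.snd Y.hom (Neron.genPt R))›
  haveI := EulerIneqLib.isNoetherian_proper (X := G) F
  have hcl : ∀ t, s t = IsLocalRing.closedPoint R := fun t => PrimeSpectrum.ext (by
    show Ideal.comap (IsLocalRing.residue R) t.asIdeal = IsLocalRing.maximalIdeal R
    rw [(Ideal.eq_bot_or_top t.asIdeal).resolve_right t.2.ne_top, ← RingHom.ker_eq_comap_bot, IsLocalRing.ker_residue])
  have hη : ∀ v, Neron.genPt R v = η := fun v => (SurfPtBlow.range_genPt (R := R)).le ⟨v, rfl⟩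
  -- the Euler characteristics of the fibres
  have hconst : ∀ (M : Y.left.Modules), PicF.IsInvertible M →
      Curv2.euler F G ((Scheme.Modules.pullback (pullback.fst Y.hom (Neron.genPt R))).obj M) =
        Curv2.euler (IsLocalRing.ResidueField R) Z ((Scheme.Modules.pullback i).obj M) := fun M hM => by
    haveI : Coh.IsQCoh M := (CurveLib.isCoh_of_isInvertible hM).1
    have hlf := CurveLib.isFinLocFree_of_isInvertible hM
    have hlc := S1026.result p M (PullbackMod.isQCoh_and_isFP_of_isFinLocFree _ hlf).2
      (TildePerf.isFlatOver_of_isFinLocFree p hlf)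
    have h := hlc.apply_eq_of_preconnectedSpace (Neron.genPt R default) (s default)
    simp only at h
    rw [eulerChar_point_mod p (IsPullback.of_hasPullback p (Neron.genPt R)) default M,
      eulerChar_point_mod p (IsPullback.of_hasPullback p s) default M] at h
    exact h
  -- the components of the closed fibre are curves
  let S : Set Y.left := Models.specialFibreSet R Y
  have hir : Set.range i = S := by
    rw [Scheme.Pullback.range_fst]
    ext y
    show p y ∈ Set.range s ↔ p y = IsLocalRing.closedPoint R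
    exact ⟨fun ⟨t, ht⟩ => ht ▸ hcl t, fun h => ⟨default, by rw [h]; exact hcl _⟩⟩
  have hdense : DenseRange p.base := by
    obtain ⟨a, ha, haη⟩ := Flat.generalizingMap p (show η ⤳ p (genericPoint Y.left) from genericPoint_specializes _)
    refine (dense_iff_closure_eq.2 (genericPoint_spec (Spec (CommRingCat.of R))).def).mono ?_
    exact Set.singleton_subset_iff.2 ⟨a, haη⟩
  have hdim1 : topologicalKrullDim (Spec (CommRingCat.of R)) = 1 := by
    show topologicalKrullDim (PrimeSpectrum R) = 1
    rw [PrimeSpectrum.topologicalKrullDim_eq_ringKrullDim, IsDiscreteValuationRing.ringKrullDim_eq_one]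
  have hgenfib : topologicalKrullDim ↥(p.fiber η) = 1 := by
    rw [← hdG]
    refine IsHomeomorph.topologicalKrullDim_eq _ ((p.fiberHomeo η).trans ?_).isHomeomorph
    exact (Homeomorph.setCongr (by
      rw [Scheme.Pullback.range_fst, SurfPtBlow.range_genPt])).trans
      (pullback.fst Y.hom (Neron.genPt R)).isEmbedding.toHomeomorph.symm
  have hcomp1 : ∀ C ∈ irreducibleComponents Z, topologicalKrullDim C = 1 := fun C hC => by
    let φ : Z ≃ₜ ↥(p.fiber (IsLocalRing.closedPoint R)) :=
      i.isEmbedding.toHomeomorph.trans ((Homeomorph.setCongr hir).trans (p.fiberHomeo _).symm)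
    have hne : IsLocalRing.closedPoint R ∈ Set.range p.base := by
      obtain ⟨c, hc⟩ := hC.1.nonempty
      exact ⟨i c, hir.le ⟨c, rfl⟩⟩
    have h := S4702.result p hdim1 hdense _ hne (φ '' C) (maximal_image_homeo φ hC)
    rw [hgenfib] at h
    rw [IsHomeomorph.topologicalKrullDim_eq _ (φ.image C).isHomeomorph]
    exact h
  have hdZ : topologicalKrullDim Z ≤ 1 := by
    rw [ASp.topologicalKrullDim_eq_krullDim]
    refine iSup_le fun l => ?_
    have h2 : Order.krullDim Y.left ≤ 2 := by
      rw [← ASp.topologicalKrullDim_eq_krullDim]; exact hdim.le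
    have hmono : StrictMono i := fun a b h => by
      rw [lt_iff_le_not_ge] at h ⊢
      simp only [Scheme.le_iff_specializes, i.isEmbedding.isInducing.specializes_iff] at h ⊢
      exact h
    have hlt : (l.map i hmono).last < genericPoint Y.left :=
      lt_of_le_not_ge (Scheme.le_iff_specializes.2 (genericPoint_specializes _)) fun h => by
        have he : i l.last = genericPoint Y.left :=
          ((Scheme.le_iff_specializes.1 h).antisymm (genericPoint_specializes _)).eq
        have h1 : p (genericPoint Y.left) = IsLocalRing.closedPoint R := he ▸ hir.le ⟨l.last, rfl⟩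
        obtain ⟨a, ha, haη⟩ := Flat.generalizingMap p (show η ⤳ p (genericPoint Y.left) from genericPoint_specializes _)
        rw [(ha.antisymm (genericPoint_specializes a)).eq, h1] at haη
        have hbot := (congrArg PrimeSpectrum.asIdeal haη).trans CastLib.asIdeal_genericPoint
        exact IsDiscreteValuationRing.not_a_field R hbot
    have h3 := (Order.LTSeries.length_le_krullDim ((l.map i hmono).snoc _ hlt)).trans h2
    simp only [RelSeries.snoc_length, LTSeries.map_length] at h3
    have h4 : l.length + 1 ≤ 2 := by exact_mod_cast h3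
    exact_mod_cast (show l.length ≤ 1 by omega)
  -- the degree on the closed fibre
  let ωZ := (Scheme.Modules.pullback i).obj ω
  have hωZ : PicF.IsInvertible ωZ := AmpleLib.isInvertible_pullback i hωi
  have hampZ : CohB1.IsAmple ωZ := AmpleLib.isAmple_pullback i hamp
  have hdeg : Curv2.deg (IsLocalRing.ResidueField R) Z ωZ 1 =
      -2 * FGA.eulerCharLE F G (Coh.structureModule G) 1 := by
    rw [Curv2.deg, ← hconst ω hωi,
      ← CurveLib.euler_iso (K := IsLocalRing.ResidueField R) (AmpleLib.pullO i),
      ← hconst _ ParaFLib.isInvertible_structureModule, CurveLib.euler_iso (K := F) (AmpleLib.pullO _),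
      ← CastLib.eulerCharLE_eq_euler (k := F) hdG.le, ← CastLib.eulerCharLE_eq_euler (k := F) hdG.le, hdual]
    ring
  rw [← hdeg, S1641.result (IsLocalRing.ResidueField R) Z hdZ 1 ωZ (CurveLib.isFinLocFreeOfRank_one hωZ)]
  haveI : Finite (irreducibleComponents Z) := (NoetherianSpace.finite_irreducibleComponents (α := Z)).to_subtype
  haveI := Fintype.ofFinite (irreducibleComponents Z)
  rw [finsum_eq_sum_of_fintype]
  have hterm : ∀ C : irreducibleComponents Z, (1 : ℤ) ≤
      (if topologicalKrullDim (C.1 : Set Z) = 1 then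
        ((Module.length (Z.presheaf.stalk C.2.1.genericPoint) (Z.presheaf.stalk C.2.1.genericPoint)).toNat : ℤ) *
          @Curv2.deg (IsLocalRing.ResidueField R) _ (Z.irreducibleComponentIdeal C.1 C.2).radical.subscheme
            ⟨(Z.irreducibleComponentIdeal C.1 C.2).radical.subschemeι ≫ (Z ↘ (Spec (CommRingCat.of (IsLocalRing.ResidueField R))))⟩
            ((Scheme.Modules.pullback (Z.irreducibleComponentIdeal C.1 C.2).radical.subschemeι).obj ωZ) 1
      else 0) := fun C => by
    rw [if_pos (hcomp1 _ C.2)]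
    have hgen : ∀ J : Z.IdealSheafData,
        J = Scheme.IdealSheafData.vanishingIdeal (⟨C.1, isClosed_of_mem_irreducibleComponents C.1 C.2⟩ : Closeds Z) →
        0 < @Curv2.deg (IsLocalRing.ResidueField R) _ J.subscheme
          ⟨J.subschemeι ≫ (Z ↘ (Spec (CommRingCat.of (IsLocalRing.ResidueField R))))⟩
          ((Scheme.Modules.pullback J.subschemeι).obj ωZ) 1 := by
      rintro J rfl
      let J := Scheme.IdealSheafData.vanishingIdeal (⟨C.1, isClosed_of_mem_irreducibleComponents C.1 C.2⟩ : Closeds Z)
      letI : J.subscheme.Over (Spec (CommRingCat.of (IsLocalRing.ResidueField R))) :=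
        ⟨J.subschemeι ≫ (Z ↘ Spec (CommRingCat.of (IsLocalRing.ResidueField R)))⟩
      haveI : IsProper (J.subscheme ↘ Spec (CommRingCat.of (IsLocalRing.ResidueField R))) :=
        inferInstanceAs (IsProper (J.subschemeι ≫ (Z ↘ Spec (CommRingCat.of (IsLocalRing.ResidueField R)))))
      haveI : IsIntegral J.subscheme := CurveLib.isIntegral_vanishingIdeal _ C.2.1
      have hJ1 : topologicalKrullDim J.subscheme = 1 := by
        rw [IsHomeomorph.topologicalKrullDim_eq _ (J.subschemeι.isEmbedding.toHomeomorph.trans (Homeomorph.setCongr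
          (J.range_subschemeι.trans (Scheme.IdealSheafData.coe_support_vanishingIdeal ..)))).isHomeomorph]
        exact hcomp1 _ C.2
      exact (CurveLib.isAmple_iff_deg_pos hJ1 (AmpleLib.isInvertible_pullback _ hωZ)).1 (AmpleLib.isAmple_pullback _ hampZ)
    have hpos := hgen _ (DegDevLib.radical_componentIdeal C.1 C.2)
    have hlen := one_le_length_component C.2
    calc (1 : ℤ) = 1 * 1 := (one_mul _).symm
      _ ≤ _ := mul_le_mul (by exact_mod_cast hlen) hpos zero_le_one (Int.natCast_nonneg _)
  refine le_trans ?_ (Finset.sum_le_sum fun C _ => hterm C)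
  rw [Finset.sum_const, nsmul_one, Finset.card_univ, ← Nat.card_eq_fintype_card]
  push_cast
  refine le_of_eq ?_
  congr 1
  have himg : Models.fibreComponents R Y = (fun C : Set Z => i '' C) '' irreducibleComponents Z := by
    ext T
    constructor
    · rintro ⟨⟨hT, hTS⟩, hmax⟩
      have hsub : T ⊆ Set.range i := hTS.trans hir.ge
      refine ⟨i ⁻¹' T, ⟨?_, fun D hD hle => ?_⟩, Set.image_preimage_eq_of_subset hsub⟩
      · exact isIrreducible_preimage i.isEmbedding hT hsub
      · exact fun d hd => hmax ⟨hD.image i i.continuous.continuousOn, (Set.image_subset_range _ _).trans hir.le⟩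
          (fun t ht => by obtain ⟨a, rfl⟩ := hsub ht; exact ⟨a, hle ht, rfl⟩) ⟨d, hd, rfl⟩
    · rintro ⟨C, hC, rfl⟩
      refine ⟨⟨hC.1.image i i.continuous.continuousOn, (Set.image_subset_range _ _).trans hir.le⟩,
        fun D hD hle => ?_⟩
      have hDr : D ⊆ Set.range i := hD.2.trans hir.ge
      intro d hd
      obtain ⟨a, rfl⟩ := hDr hd
      exact ⟨a, hC.2 (isIrreducible_preimage i.isEmbedding hD.1 hDr) (fun c hc => hle ⟨c, hc, rfl⟩) hd, rfl⟩
  rw [himg, Set.ncard_image_of_injective _ (Set.image_injective.2 i.isEmbedding.injective)]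
  rfl

end Groth.Agent.CanonFac
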