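import Groth.Agent.CanonFacLib.Crepant
import Groth.Agent.CanonFacLib.FibreDeg
import Groth.Agent.S0052
import Groth.Agent.S0054
import Groth.Agent.S11559
import Groth.Agent.CurveFF.MapPlaces

/-!
# The canonical sheaf of the canonical model is ample
-/

set_option autoImplicit false
set_option backward.isDefEq.respectTransparency false
set_option linter.style.haveILetI false
set_option linter.unusedSectionVars false
set_option maxHeartbeats 1000000
set_option synthInstance.maxHeartbeats 200000

universe u

open CategoryTheory CategoryTheory.Limits AlgebraicGeometry TopologicalSpace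
open Groth.Agent.IntLib (mk pullCls mk_congr mk_tensor mk_eq_mk pullCls_mk)

noncomputable section

namespace Groth.Agent.CanonFac

variable {R : Type u} [CommRing R] [IsDomain R] [IsDiscreteValuationRing R]

local notation "K" => IsLocalRing.ResidueField R

/-- A positive pullback of degree to every curve over the closed fibre gives ampleness downstairs. -/
theorem isAmple_of_contr {X Y : Over (Spec (CommRingCat.of R))} (hX : ArSurf.IsArithSurface R X) {r : ℕ}
    {Γ : Fin r → ArSurf.VertComp R X} {f : X ⟶ Y} (hf : CastLib.IsContr Γ f)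
    {M : Y.left.Modules} (hM : PicF.IsInvertible M)
    (hdG : topologicalKrullDim ((Neron.genericFibre R).obj Y).left = 1)
    (hpos : ∀ C : ArSurf.VertComp R X, (∀ i, Set.range C.ι ≠ Set.range (Γ i).ι) →
      0 < ArSurf.inter R X ((Scheme.Modules.pullback f.left).obj M) C) :
    CohB1.IsAmple M := by
  classical
  haveI := hX.2.1
  haveI hXp : IsProper X.hom := (SurfPtBlow.arSurf_facts hX).1
  haveI := (SurfPtBlow.arSurf_facts hX).2
  have hV := CastLib.VSurf.of_arith hX
  obtain ⟨hp, hs, hb⟩ := hf.facts hXp
  haveI := hp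
  haveI := hs
  obtain ⟨hint, hn, hdim, hflat, hproj, hpt, hsat, hiso⟩ := hf
  haveI := hint
  haveI := hflat
  haveI := CastLib.isProper_of_projective hproj
  haveI : IsLocallyNoetherian Y.left := LocallyOfFiniteType.isLocallyNoetherian Y.hom
  haveI : CompactSpace Y.left := QuasiCompact.compactSpace_of_compactSpace Y.hom
  haveI : AlgebraicGeometry.IsNoetherian Y.left := { }
  obtain ⟨n, Δ, hΔ⟩ := hV.exists_componentList' hX.2.2.1
  obtain ⟨-, -, hall⟩ := hV.toFibreGood.componentList hΔ
  let p := Y.hom
  let c : Spec (CommRingCat.of R) := IsLocalRing.closedPoint R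
  haveI : IsClosedImmersion ((Spec (CommRingCat.of R)).fromSpecResidueField c) := by
    haveI : IsPreimmersion ((Spec (CommRingCat.of R)).fromSpecResidueField c) := inferInstance
    refine IsClosedImmersion.of_isPreimmersion _ ?_
    rw [Scheme.range_fromSpecResidueField]
    exact IsLocalRing.isClosed_singleton_closedPoint R
  haveI : IsClosedImmersion (p.fiberι c) := MorphismProperty.pullback_fst _ _ inferInstance
  let Fib := p.fiber c
  let κ := (Spec (CommRingCat.of R)).residueField c
  letI : Fib.Over (Spec (CommRingCat.of κ)) := ⟨p.fiberToSpecResidueField c⟩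
  haveI : IsProper (Fib ↘ Spec (CommRingCat.of κ)) := MorphismProperty.pullback_snd _ _ (inferInstanceAs (IsProper p))
  have hamp : CohB1.IsAmple ((Scheme.Modules.pullback (p.fiberι c)).obj M) := by
    refine (S11559.result κ Fib _ (AmpleLib.isInvertible_pullback _ hM)).2 fun Z hZ => ?_
    let I := Scheme.IdealSheafData.vanishingIdeal Z
    haveI : IsIntegral I.subscheme := CurveLib.isIntegral_vanishingIdeal Z.isClosed hZ.1
    let m : I.subscheme ⟶ Y.left := I.subschemeι ≫ p.fiberι c
    -- the component is a curve
    have hrange : ∀ w, p (m w) = c := fun w => by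
      have h : p.fiberι c (I.subschemeι w) ∈ p ⁻¹' {c} := (p.range_fiberι c).le ⟨_, rfl⟩
      rw [Scheme.Hom.comp_apply]
      exact h
    have hdim1 : topologicalKrullDim I.subscheme = 1 := by
      have hdense : DenseRange p.base := by
        obtain ⟨a, ha, haη⟩ := Flat.generalizingMap p (show genericPoint (Spec (CommRingCat.of R)) ⤳ p (genericPoint Y.left)
          from genericPoint_specializes _)
        refine (dense_iff_closure_eq.2 (genericPoint_spec (Spec (CommRingCat.of R))).def).mono ?_
        exact Set.singleton_subset_iff.2 ⟨a, haη⟩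
      have hd1 : topologicalKrullDim (Spec (CommRingCat.of R)) = 1 := by
        show topologicalKrullDim (PrimeSpectrum R) = 1
        rw [PrimeSpectrum.topologicalKrullDim_eq_ringKrullDim, IsDiscreteValuationRing.ringKrullDim_eq_one]
      obtain ⟨z₀, hz₀⟩ := hZ.1.nonempty
      have h := S4702.result p hd1 hdense c
        ⟨p.fiberι c z₀, ((p.range_fiberι c).le ⟨z₀, rfl⟩ : p.fiberι c z₀ ∈ p ⁻¹' {c})⟩ _ hZ
      rw [show topologicalKrullDim ↥(p.fiber (genericPoint (Spec (CommRingCat.of R)))) = 1 from ?_] at h
      · rw [IsHomeomorph.topologicalKrullDim_eq _ (I.subschemeι.isEmbedding.toHomeomorph.trans (Homeomorph.setCongr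
          (I.range_subschemeι.trans (Scheme.IdealSheafData.coe_support_vanishingIdeal ..)))).isHomeomorph]
        exact h
      · obtain ⟨w, hwne, hw⟩ := CastLib.ArtinSec.exists_generic_ne (R := R) hdim
        let η := genericPoint (Spec (CommRingCat.of R))
        have hwη : p w = η := by
          have h : ∀ s : PrimeSpectrum R, s ≠ IsLocalRing.closedPoint R → s.asIdeal = ⊥ := fun s hs => by
            by_contra h0
            exact hs (PrimeSpectrum.ext (IsLocalRing.eq_maximalIdeal (s.2.isMaximal h0)))
          exact PrimeSpectrum.ext ((h _ hw).trans CastLib.asIdeal_genericPoint.symm)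
        rw [IsHomeomorph.topologicalKrullDim_eq _ ((p.fiberHomeo η).trans ((Homeomorph.setCongr (by
          rw [Scheme.Pullback.range_fst, SurfPtBlow.range_genPt])).trans
          (pullback.fst Y.hom (Neron.genPt R)).isEmbedding.toHomeomorph.symm)).isHomeomorph]
        exact hdG
    let g := m (genericPoint I.subscheme)
    have hgc : ¬ IsClosed ({g} : Set Y.left) := fun hcl => by
      have hsub : Subsingleton I.subscheme := ⟨fun a b => by
        have key : ∀ a, m a = g := fun a => by
          have h := ((genericPoint_specializes a).map m.continuous).mem_closed hcl rfl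
          exact h
        exact m.isClosedEmbedding.injective ((key a).trans (key b).symm)⟩
      have h0 : topologicalKrullDim I.subscheme ≤ 0 := by
        rw [ASp.topologicalKrullDim_eq_krullDim]
        exact Order.krullDim_nonpos_of_subsingleton
      rw [hdim1] at h0
      exact absurd h0 (by decide)
    have hout : ∀ a : X.left, f.left a = g → ∀ i, a ∉ Set.range (Γ i).ι := fun a ha i hai => by
      obtain ⟨y, hy⟩ := hpt i
      obtain ⟨d, rfl⟩ := hai
      have h1 : f.left ((Γ i).ι d) = y := hy.le ⟨d, Scheme.Hom.comp_apply _ _ _⟩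
      haveI := CastLib.isProper_vertComp (Γ i)
      exact hgc (by rw [← ha, h1, ← hy]; exact ((Γ i).ι ≫ f.left).isClosedMap.isClosed_range)
    obtain ⟨ξ, hξ⟩ := f.left.surjective g
    have huniq : ∀ a, f.left a = g → a = ξ := fun a ha => by
      let E : Set X.left := ⋃ i, Set.range (Γ i).ι
      have hE : IsClosed (f.left '' E) := f.left.isClosedMap _
        (isClosed_iUnion_of_finite fun i => (Γ i).ι.isClosedEmbedding.isClosed_range)
      have hgV : g ∉ f.left '' E := by
        rintro ⟨e, he, heg⟩
        obtain ⟨i, hi⟩ := Set.mem_iUnion.1 he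
        exact hout e heg i hi
      let V : Y.left.Opens := ⟨(f.left '' E)ᶜ, hE.isOpen_compl⟩
      haveI := hiso V (Set.compl_inter_self _)
      have ha' : a ∈ f.left ⁻¹ᵁ V := show f.left a ∈ V by rw [ha]; exact hgV
      have hξ' : ξ ∈ f.left ⁻¹ᵁ V := show f.left ξ ∈ V by rw [hξ]; exact hgV
      have h1 : (⟨a, ha'⟩ : (f.left ⁻¹ᵁ V).toScheme) = ⟨ξ, hξ'⟩ := (f.left ∣_ V).isOpenEmbedding.injective (by
        apply Subtype.ext
        show V.ι ((f.left ∣_ V) _) = V.ι ((f.left ∣_ V) _)
        rw [← Scheme.Hom.comp_apply, morphismRestrict_ι, ← Scheme.Hom.comp_apply, morphismRestrict_ι]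
        exact ha.trans hξ.symm)
      exact congrArg Subtype.val h1
    have hξc : X.hom ξ = c := by
      rw [← Over.w f, Scheme.Hom.comp_apply, hξ]; exact hrange _
    have hξgen : ξ ≠ genericPoint X.left := fun h => hV.genPt_not_fibre (h ▸ hξc)
    obtain ⟨v, hgv, hvne⟩ : ∃ v, ξ ⤳ v ∧ v ≠ ξ := by
      by_contra hall'
      push Not at hall'
      have hcl : IsClosed ({ξ} : Set X.left) := by
        rw [← closure_eq_iff_isClosed]
        exact Set.Subset.antisymm (fun v hv => hall' v (specializes_iff_mem_closure.2 hv)) subset_closure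
      exact hgc (by rw [← hξ, ← Set.image_singleton]; exact f.left.isClosedMap _ hcl)
    have h1 : Order.coheight ξ = 1 := by
      have e1 := Order.coheight_add_one_le (CastLib.GGContract.lt_of_spec (genericPoint_specializes ξ) hξgen)
      have e2 := Order.coheight_add_one_le (CastLib.GGContract.lt_of_spec hgv hvne)
      have h0 : Order.krullDim X.left ≤ 2 := by rw [← ASp.topologicalKrullDim_eq_krullDim]; exact hX.2.2.1.le
      have e3 : Order.coheight v ≤ 2 := WithBot.coe_le_coe.1 (((Order.coheight_le_krullDim _).trans h0).trans_eq rfl)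
      refine le_antisymm ?_ (le_trans (by simp) e1)
      have h' := e2.trans e3
      exact (ENat.add_le_add_iff_right (by decide : (1 : ℕ∞) ≠ ⊤)).1 (h'.trans_eq (by norm_num))
    obtain ⟨k, hk⟩ := hall ξ hξc h1
    let C := Δ k
    haveI := C.isIntegral
    haveI := C.isClosedImmersion
    haveI := CastLib.isProper_vertComp C
    have hCξ : C.ι (genericPoint C.curve.left) = ξ := hk
    have hCne : ∀ i, Set.range C.ι ≠ Set.range (Γ i).ι := fun i he =>
      hout ξ hξ i (he.le ⟨_, hCξ⟩)
    have hd := hpos C hCne
    -- ampleness upstairs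
    let N := (Scheme.Modules.pullback f.left).obj M
    have hampC : CohB1.IsAmple ((Scheme.Modules.pullback C.ι).obj N) := by
      refine (CurveLib.isAmple_iff_deg_pos (k := K) C.dim_eq
        (AmpleLib.isInvertible_pullback _ (AmpleLib.isInvertible_pullback _ hM))).2 ?_
      rw [← CastLib.curveDeg_eq_deg (k := K) (CastLib.dim_vertComp C)]
      exact hd
    -- the finite map
    have hrg : Set.range (C.ι ≫ f.left) ⊆ Set.range m := by
      rintro _ ⟨d, rfl⟩
      rw [Scheme.Hom.comp_apply]
      refine ((genericPoint_specializes d).map (C.ι ≫ f.left).continuous |>.mem_closed m.isClosedEmbedding.isClosed_range ?_)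
      exact ⟨genericPoint I.subscheme, ((Scheme.Hom.comp_apply C.ι f.left _).trans
        ((congrArg f.left hCξ).trans hξ)).symm⟩
    obtain ⟨h, hh⟩ := DVRCrit.exists_factor_closed m (C.ι ≫ f.left) hrg
    let gW : I.subscheme ⟶ Spec (CommRingCat.of R) := m ≫ p
    haveI : IsProper gW := inferInstanceAs (IsProper (m ≫ p))
    have hhg : h ≫ gW = C.ι ≫ X.hom := by
      show h ≫ m ≫ p = _
      rw [← Category.assoc, hh, Category.assoc, Over.w f]
    haveI : IsProper (h ≫ gW) := hhg ▸ inferInstance
    haveI : IsProper h := IsProper.of_comp h gW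
    have hgen : h (genericPoint C.curve.left) = genericPoint I.subscheme :=
      m.isClosedEmbedding.injective (by rw [← Scheme.Hom.comp_apply, hh, Scheme.Hom.comp_apply, hCξ, hξ])
    haveI : Surjective h := ⟨fun w => by
      obtain ⟨d, -, hd⟩ := (h.isClosedMap _ isClosed_univ).stableUnderSpecialization
        (hgen ▸ genericPoint_specializes w : h (genericPoint C.curve.left) ⤳ w) ⟨_, trivial, rfl⟩
      exact ⟨d, hd⟩⟩
    haveI : IsLocallyNoetherian C.curve.left := LocallyOfFiniteType.isLocallyNoetherian C.ι
    haveI : CompactSpace C.curve.left := QuasiCompact.compactSpace_of_compactSpace C.ι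
    haveI : LocallyQuasiFinite h := locallyQuasiFinite_iff_finite_preimage_singleton.2 fun w => by
      by_cases hw : w = genericPoint I.subscheme
      · refine Set.Subsingleton.finite fun a ha b hb => C.ι.isClosedEmbedding.injective ?_
        have key : ∀ a, h a = w → C.ι a = ξ := fun a ha => huniq _ (by
          rw [← Scheme.Hom.comp_apply, ← hh, Scheme.Hom.comp_apply, ha, hw])
        exact (key a ha).trans (key b hb).symm
      · refine (CurveFF.finite_of_isClosed (k := K) C.dim_eq (C := h ⁻¹' closure ({w} : Set I.subscheme))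
          (isClosed_closure.preimage h.continuous) fun hη => hw ?_).subset
          fun a ha => subset_closure (show h a = w from ha)
        have h2 : genericPoint I.subscheme ∈ closure ({w} : Set I.subscheme) := by rw [← hgen]; exact hη
        exact ((specializes_iff_mem_closure.2 h2).antisymm (genericPoint_specializes w)).eq
    haveI : IsFinite h := IsFinite.of_isProper_of_locallyQuasiFinite h
    refine AmpleLib.isAmple_of_iso ((Scheme.Modules.pullbackComp I.subschemeι (p.fiberι c)).app M).symm ?_
    refine (S0052.result R gW (C.ι ≫ X.hom) h hhg _ (AmpleLib.isInvertible_pullback m hM)).2 ?_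
    exact AmpleLib.isAmple_of_iso ((Scheme.Modules.pullbackComp C.ι f.left).app M ≪≫
      (Scheme.Modules.pullbackCongr hh.symm).app M ≪≫ ((Scheme.Modules.pullbackComp h m).app M).symm) hampC
  obtain ⟨V, hcV, hVW⟩ := S0054.result p M hM c hamp
  have hVtop : V = ⊤ := eq_top_iff.2 fun s _ => (IsLocalRing.specializes_closedPoint (R := R) s).mem_open V.2 hcV
  have h := hVW ⊤ hVtop.ge (isAffineOpen_top _)
  rw [Scheme.Hom.preimage_top] at h
  exact AmpleLib.isAmple_of_iso ((Scheme.Modules.pullbackComp Y.left.topIso.inv (⊤ : Y.left.Opens).ι).app M ≪≫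
      eqToIso (congrArg (fun φ => (Scheme.Modules.pullback φ).obj M) Y.left.topIso.inv_hom_id) ≪≫
      (Scheme.Modules.pullbackId _).app M)
    (AmpleLib.isAmple_pullback Y.left.topIso.inv
      (AmpleLib.isAmple_of_iso ((Scheme.Modules.restrictFunctorIsoPullback (⊤ : Y.left.Opens).ι).app M) h))

/-- **The canonical sheaf of the canonical model is ample.** -/
theorem isAmple_canonical_model {X Y : Over (Spec (CommRingCat.of R))} (hX : ArSurf.IsArithSurface R X)
    {ωX : X.left.Modules} (hωX : Canon.IsCanonical X.hom ωX)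
    (hnef : ∀ C : ArSurf.VertComp R X, 0 ≤ ArSurf.inter R X ωX C) {r : ℕ} {Γ : Fin r → ArSurf.VertComp R X}
    (hΓ : Function.Injective fun i => Set.range ((Γ i).ι.base : (Γ i).curve.left → X.left))
    {L : Fin r → X.left.Modules} (hL : ∀ j, ClSub.IsInverseOf (L j) (ClSub.idealMod (Γ j).ι.ker))
    (hK : ∀ i, ArSurf.inter R X ωX (Γ i) = 0)
    (hall : ∀ C : ArSurf.VertComp R X, ArSurf.inter R X ωX C = 0 →
      ∃ i, Set.range (C.ι.base : C.curve.left → X.left) = Set.range ((Γ i).ι.base : (Γ i).curve.left → X.left))
    (hneg : ∀ c : Fin r → ℤ, c ≠ 0 →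
      (Finset.univ : Finset (Fin r × Fin r)).sum (fun p => c p.1 * c p.2 * ArSurf.inter R X (L p.2) (Γ p.1)) < 0)
    {f : X ⟶ Y} (hf : CastLib.IsContr Γ f) {ωY : Y.left.Modules} (hωY : Canon.IsCanonical Y.hom ωY) :
    CohB1.IsAmple ωY := by
  have hYi := isInvertible_of_isCanonical hωY
  obtain ⟨e⟩ := mk_eq_mk.1 ((pullCls_mk f.left ωY).symm.trans (pullCls_canonical_of_contr hX hΓ hL hneg hωX hK hf hωY))
  haveI := (SurfPtBlow.arSurf_facts hX).1
  obtain ⟨hint, hn, hdim, hflat, hproj, -⟩ := id hf
  haveI := hint
  haveI := hflat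
  refine isAmple_of_contr hX hf hYi (euler_generic_canonical hproj hdim hωY).1 fun C hC => ?_
  rw [CastLib.inter_congr C e]
  refine lt_of_le_of_ne (hnef C) fun h0 => ?_
  obtain ⟨i, hi⟩ := hall C h0.symm
  exact hC i hi

end Groth.Agent.CanonFac
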