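import Groth.Agent.CILib.Regular
import Groth.Agent.RegIdealLib.Immersion
import Groth.Agent.RegIdealLib.Comp
import Groth.Agent.S10881
import Groth.Prelude.Def_RegImm

/-!
# Codimensions of closed immersions of regular schemes, computed on stalks
-/

set_option autoImplicit false
set_option backward.isDefEq.respectTransparency false
set_option linter.style.haveILetI false
set_option linter.unusedSectionVars false
set_option maxHeartbeats 1000000

universe u

open CategoryTheory CategoryTheory.Limits AlgebraicGeometry TopologicalSpace Opposite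

noncomputable section

namespace Groth.Agent.CanonFac

variable {X Y Z : Scheme.{u}}

/-- The stalk ideal of `Z` at `z` has `n` generators. -/
def GenAt (f : Z ⟶ X) (z : Z) (n : ℕ) : Prop :=
  ∃ rs : List (X.presheaf.stalk (f z)), rs.length = n ∧ RingHom.ker (f.stalkMap z).hom = Ideal.ofList rs

/-- Composition of surjections adds generators. -/
theorem ker_comp_list {A B C : Type u} [CommRing A] [CommRing B] [CommRing C] (φ : A →+* B) (ψ : B →+* C)
    (hφ : Function.Surjective φ) {rs : List A} {ss : List B} (h₁ : RingHom.ker φ = Ideal.ofList rs)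
    (h₂ : RingHom.ker ψ = Ideal.ofList ss) :
    ∃ l : List A, l.length = rs.length + ss.length ∧ RingHom.ker (ψ.comp φ) = Ideal.ofList l := by
  refine ⟨rs ++ ss.map (Function.surjInv hφ), by simp, ?_⟩
  rw [← RingHom.comap_ker, h₂, Ideal.ofList_append, ← h₁]
  have : Ideal.ofList ss = (Ideal.ofList (ss.map (Function.surjInv hφ))).map φ := by
    rw [Ideal.map_ofList, List.map_map]
    congr 1
    exact (List.map_id ss).symm.trans (List.map_congr_left fun a _ => (Function.surjInv_eq hφ a).symm)
  rw [this, Ideal.comap_map_of_surjective _ hφ, sup_comm]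
  rfl

/-- Removing a generator outside the square of the maximal ideal. -/
theorem exists_list_quot {A B : Type u} [CommRing A] [IsLocalRing A] [CommRing B] (φ : A →+* B) (hφ : Function.Surjective φ)
    {a : A} (ha : RingHom.ker φ = Ideal.span {a}) (ha2 : a ∉ IsLocalRing.maximalIdeal A ^ 2) {rs : List A} {n : ℕ}
    (hlen : rs.length = n + 1) (hle : Ideal.ofList rs ≤ IsLocalRing.maximalIdeal A) (hmem : a ∈ Ideal.ofList rs) :
    ∃ ss : List B, ss.length = n ∧ (Ideal.ofList rs).map φ = Ideal.ofList ss := by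
  classical
  have hrange : Ideal.ofList rs = Ideal.span (Set.range rs.get) := by
    rw [Set.range_list_get]
  rw [hrange, Ideal.mem_span_range_iff_exists_fun] at hmem
  obtain ⟨c, hc⟩ := hmem
  have hm : ∀ i, rs.get i ∈ IsLocalRing.maximalIdeal A := fun i =>
    hle (Ideal.subset_span (List.get_mem rs i))
  obtain ⟨i, hi⟩ : ∃ i, IsUnit (c i) := by
    by_contra! h
    refine ha2 (hc ▸ Ideal.sum_mem _ fun i _ => ?_)
    rw [pow_two]
    exact Ideal.mul_mem_mul ((IsLocalRing.mem_maximalIdeal _).2 (h i)) (hm i)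
  refine ⟨(List.ofFn fun j : Fin n => φ (rs.get ((finCongr hlen).symm ((finCongr hlen i).succAbove j)))),
    List.length_ofFn, ?_⟩
  have hφa : φ a = 0 := by rw [← RingHom.mem_ker, ha]; exact Ideal.mem_span_singleton_self a
  rw [hrange, Ideal.map_span, ← Set.range_comp]
  refine le_antisymm (Ideal.span_le.2 ?_) (Ideal.span_le.2 ?_)
  · rintro _ ⟨j, rfl⟩
    have hmem : ∀ j, j ≠ i → φ (rs.get j) ∈ Ideal.ofList
        (List.ofFn fun j : Fin n => φ (rs.get ((finCongr hlen).symm ((finCongr hlen i).succAbove j)))) := fun j hj => by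
      obtain ⟨j', hj'⟩ := Fin.exists_succAbove_eq (x := finCongr hlen j) (y := finCongr hlen i)
        (fun e => hj ((finCongr hlen).injective (by simpa using e)))
      refine Ideal.subset_span (List.mem_ofFn.2 ⟨j', ?_⟩)
      rw [hj', Equiv.symm_apply_apply]
    by_cases hj : j = i
    · subst hj
      have h0 : φ (c j) * φ (rs.get j) = -∑ l ∈ Finset.univ.erase j, φ (c l) * φ (rs.get l) := by
        rw [eq_neg_iff_add_eq_zero, Finset.add_sum_erase _ (fun l => φ (c l) * φ (rs.get l)) (Finset.mem_univ j)]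
        rw [← hφa, ← hc, map_sum]
        simp only [map_mul]
      refine (Ideal.unit_mul_mem_iff_mem _ (hi.map φ)).1 ?_
      show φ (c j) * φ (rs.get j) ∈ _
      rw [h0]
      exact neg_mem (sum_mem fun l hl => Ideal.mul_mem_left _ _ (hmem l (Finset.ne_of_mem_erase hl)))
    · exact hmem j hj
  · intro b hb
    obtain ⟨j', rfl⟩ := List.mem_ofFn.1 hb
    exact Ideal.subset_span ⟨_, rfl⟩

theorem genAt_comp (g : Z ⟶ Y) (f : Y ⟶ X) [IsClosedImmersion f] (z : Z) {m n : ℕ} (hf : GenAt f (g z) m)
    (hg : GenAt g z n) : GenAt (g ≫ f) z (m + n) := by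
  obtain ⟨rs, hrs, hker⟩ := hf
  obtain ⟨ss, hss, hker'⟩ := hg
  obtain ⟨l, hl, hl'⟩ := ker_comp_list _ _ (f.stalkMap_surjective (g z)) hker hker'
  refine ⟨l, hl.trans (by rw [hrs, hss]), ?_⟩
  rw [Scheme.Hom.stalkMap_comp, CommRingCat.hom_comp]
  exact hl'

/-- Regular stalk equations from the dimension. -/
theorem dim_eq_of_regularImmersion (i : Z ⟶ X) {c : ℕ} (hi : RegImm.IsRegularImmersionOfCodim RegImm.Kind.regular c i)
    (z : Z) : GenAt i z c ∧ ((IsNoetherianRing (X.presheaf.stalk (i z))) →
      ringKrullDim (Z.presheaf.stalk z) + c = ringKrullDim (X.presheaf.stalk (i z))) := by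
  obtain ⟨U, hz, hc, ts, hlen, hts, hk⟩ := hi.2 z
  haveI := hi.1
  let A := X.presheaf.stalk (i z)
  letI : Algebra Γ(X, U.1) A := TopCat.Presheaf.algebra_section_stalk X.presheaf ⟨i z, hz⟩
  haveI := U.2.isLocalization_stalk ⟨i z, hz⟩
  haveI : Module.Flat Γ(X, U.1) A := IsLocalization.flat _ (U.2.primeIdealOf ⟨i z, hz⟩).asIdeal.primeCompl
  have hker : RingHom.ker (i.stalkMap z).hom = Ideal.ofList (ts.map (algebraMap Γ(X, U.1) A)) := by
    rw [RegIdealLib.ker_stalkMap i U.2 hc z hz, hk, Ideal.map_ofList]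
    rfl
  refine ⟨⟨_, (List.length_map ..).trans hlen, hker⟩, fun hN => ?_⟩
  haveI := hN
  have hts' : RingTheory.Sequence.IsRegular A (ts.map (algebraMap Γ(X, U.1) A)) := by
    refine ⟨RingTheory.Sequence.IsWeaklyRegular.of_flat (S := A)
      (show RingTheory.Sequence.IsRegular Γ(X, U.1) ts from hts).toIsWeaklyRegular, ?_⟩
    intro htop
    rw [← hker, smul_eq_mul, Ideal.mul_top] at htop
    exact RingHom.ker_ne_top (i.stalkMap z).hom htop.symm
  have h := ringKrullDim_add_length_eq_ringKrullDim_of_isRegular _ hts'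
  rw [List.length_map, hlen, ← hker,
    ringKrullDim_eq_of_ringEquiv (RingHom.quotientKerEquivOfSurjective (i.stalkMap_surjective z))] at h
  exact h

theorem eq_of_add_natCast_eq {a b : ℕ} {x y : WithBot ℕ∞} (hx : x ≠ ⊥) (hy : x ≠ ⊤) (h : x + a = y) (h' : x + b = y) :
    a = b := by
  induction x with
  | bot => exact absurd rfl hx
  | coe x =>
    induction x with
    | top => exact absurd rfl hy
    | coe x =>
      rw [← h'] at h
      have : x + a = x + b := by exact_mod_cast h
      omega

/-- A closed immersion with the expected number of equations at closed points. -/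
theorem codim_of_closedPoints (i : Z ⟶ X) [IsClosedImmersion i] [IsLocallyNoetherian X] [CompactSpace Z] (r : ℕ)
    (h : ∀ z : Z, IsClosed ({z} : Set Z) → IsRegularLocalRing (X.presheaf.stalk (i z)) ∧ GenAt i z r ∧
      ringKrullDim (Z.presheaf.stalk z) + r = ringKrullDim (X.presheaf.stalk (i z))) :
    RegImm.IsRegularImmersionOfCodim RegImm.Kind.regular r i := by
  refine ⟨inferInstance, fun y => ?_⟩
  obtain ⟨x, hyx, hx⟩ : ∃ x, y ⤳ x ∧ IsClosed ({x} : Set Z) := by
    obtain ⟨x, hx, hc⟩ := IsClosed.exists_closed_singleton (isClosed_closure (s := ({y} : Set Z)))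
      ⟨y, subset_closure rfl⟩
    exact ⟨x, specializes_iff_mem_closure.2 hx, hc⟩
  haveI : IsLocallyNoetherian Z := LocallyOfFiniteType.isLocallyNoetherian i
  obtain ⟨hreg, ⟨rs, hlen, hker⟩, hdim⟩ := h x hx
  obtain ⟨_, ⟨U : X.Opens, hU, rfl⟩, hxU, -⟩ :=
    X.isBasis_affineOpens.exists_subset_of_mem_open (Set.mem_univ (i x)) isOpen_univ
  have hc : IsClosedImmersion (i ∣_ U) := IsZariskiLocalAtTarget.restrict (P := @IsClosedImmersion) inferInstance U
  let A := X.presheaf.stalk (i x)
  haveI := hreg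
  haveI : LocCoh.IsCohenMacaulayLocalRing A := Groth.Agent.S10881.cm_of_regular A
  have hq : ringKrullDim (A ⧸ Ideal.ofList rs) + rs.length ≤ ringKrullDim A := by
    rw [← hker, ringKrullDim_eq_of_ringEquiv (RingHom.quotientKerEquivOfSurjective (i.stalkMap_surjective x)), hlen, hdim]
  obtain ⟨hrs, -⟩ := CILib.isRegular_of_ringKrullDim_quotient_add_le rs (fun a ha =>
    IsLocalRing.le_maximalIdeal (RingHom.ker_ne_top (i.stalkMap x).hom) (hker ▸ Ideal.subset_span ha)) hq
  obtain ⟨V, -, hxV, hcV, ts, hts, hkV⟩ := RegIdealLib.exists_regular_nhd i hU hc x hxU ⟨rs, hrs, hker.symm⟩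
  refine ⟨V, (hyx.map i.continuous).mem_open V.1.2 hxV, hcV, ts, ?_, hts, hkV⟩
  letI : Algebra Γ(X, V.1) A := TopCat.Presheaf.algebra_section_stalk X.presheaf ⟨i x, hxV⟩
  haveI := V.2.isLocalization_stalk ⟨i x, hxV⟩
  haveI : Module.Flat Γ(X, V.1) A := IsLocalization.flat _ (V.2.primeIdealOf ⟨i x, hxV⟩).asIdeal.primeCompl
  have hk : RingHom.ker (i.stalkMap x).hom = Ideal.ofList (ts.map (algebraMap Γ(X, V.1) A)) := by
    rw [RegIdealLib.ker_stalkMap i V.2 hcV x hxV, hkV, Ideal.map_ofList]
    rfl
  have hts' : RingTheory.Sequence.IsRegular A (ts.map (algebraMap Γ(X, V.1) A)) := by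
    refine ⟨RingTheory.Sequence.IsWeaklyRegular.of_flat (S := A)
      (show RingTheory.Sequence.IsRegular Γ(X, V.1) ts from hts).toIsWeaklyRegular, ?_⟩
    intro htop
    rw [← hk, smul_eq_mul, Ideal.mul_top] at htop
    exact RingHom.ker_ne_top (i.stalkMap x).hom htop.symm
  have h1 := ringKrullDim_add_length_eq_ringKrullDim_of_isRegular _ hts'
  rw [List.length_map, ← hk,
    ringKrullDim_eq_of_ringEquiv (RingHom.quotientKerEquivOfSurjective (i.stalkMap_surjective x))] at h1
  exact eq_of_add_natCast_eq ringKrullDim_ne_bot ringKrullDim_ne_top h1 hdim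

end Groth.Agent.CanonFac

namespace Groth.Agent.CanonFac

open IsLocalRing

/-- An element cutting out a regular ring of smaller dimension is outside the square of the maximal ideal. -/
theorem notMem_sq {A B : Type u} [CommRing A] [IsRegularLocalRing A] [CommRing B] [IsRegularLocalRing B]
    (φ : A →+* B) (hφ : Function.Surjective φ) {a : A} (ha : RingHom.ker φ = Ideal.span {a})
    (hd : ringKrullDim B + 1 = ringKrullDim A) : a ∉ maximalIdeal A ^ 2 := by
  classical
  intro h
  have hle : RingHom.ker φ ≤ maximalIdeal A := le_maximalIdeal (RingHom.ker_ne_top φ)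
  have hmap : ∀ x ∈ maximalIdeal A, φ x ∈ maximalIdeal B := fun x hx => by
    refine (mem_maximalIdeal _).2 fun hu => ?_
    obtain ⟨y, hy⟩ := hφ (hu.unit⁻¹ : Bˣ)
    have h1 : φ (x * y - 1) = 0 := by
      rw [map_sub, map_mul, map_one, hy, IsUnit.mul_val_inv, sub_self]
    refine (maximalIdeal.isMaximal A).ne_top ((Ideal.eq_top_iff_one _).2 ?_)
    simpa using sub_mem (Ideal.mul_mem_right y _ hx) (hle (RingHom.mem_ker.2 h1))
  have hfg : (maximalIdeal B).FG := IsNoetherian.noetherian (maximalIdeal B)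
  let s := (maximalIdeal B).generators
  have hspan : Ideal.span s = maximalIdeal B := Submodule.span_generators (maximalIdeal B)
  have hmB : (maximalIdeal A).map φ = maximalIdeal B := by
    refine le_antisymm (Ideal.map_le_iff_le_comap.2 hmap) fun b hb => ?_
    obtain ⟨x, rfl⟩ := hφ b
    exact Ideal.mem_map_of_mem _ ((mem_maximalIdeal x).2 fun hu => (mem_maximalIdeal (φ x)).1 hb (hu.map φ))
  let T : Set A := Function.surjInv hφ '' s
  have hT : maximalIdeal A ≤ Ideal.span T ⊔ maximalIdeal A • maximalIdeal A := by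
    intro x hx
    have hx' : φ x ∈ (Ideal.span T).map φ := by
      rw [Ideal.map_span, ← Set.image_comp]
      have : φ ∘ Function.surjInv hφ = id := funext (Function.surjInv_eq hφ)
      rw [this, Set.image_id, hspan, ← hmB]
      exact Ideal.mem_map_of_mem _ hx
    rw [← Ideal.mem_comap, Ideal.comap_map_of_surjective _ hφ] at hx'
    refine SetLike.le_def.1 (sup_le_sup_left ?_ _) hx'
    rw [show Ideal.comap φ ⊥ = RingHom.ker φ from rfl, ha, smul_eq_mul, ← pow_two, Ideal.span_singleton_le_iff_mem]
    exact h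
  have h2 : maximalIdeal A = Ideal.span T := le_antisymm
    (Submodule.le_of_le_smul_of_le_jacobson_bot (IsNoetherian.noetherian _)
      (maximalIdeal_le_jacobson ⊥) hT) (Ideal.span_le.2 (by
      rintro _ ⟨b, hb, rfl⟩
      refine (mem_maximalIdeal _).2 fun hu => (mem_maximalIdeal b).1 (hspan ▸ Ideal.subset_span hb) ?_
      rw [← Function.surjInv_eq hφ b]
      exact hu.map φ))
  have hfin : s.Finite := Submodule.FG.finite_generators hfg
  have h3 : (maximalIdeal A).spanFinrank ≤ (maximalIdeal B).spanFinrank := by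
    rw [h2]
    refine (Submodule.spanFinrank_span_le_ncard_of_finite (hfin.image _)).trans ?_
    exact (Set.ncard_image_le hfin).trans (Submodule.FG.generators_ncard hfg).le
  rw [← IsRegularLocalRing.spanFinrank_maximalIdeal, ← IsRegularLocalRing.spanFinrank_maximalIdeal] at hd
  have : (maximalIdeal B).spanFinrank + 1 = (maximalIdeal A).spanFinrank := by exact_mod_cast hd
  omega

end Groth.Agent.CanonFac
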