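import Groth.Agent.CastLib.ExcCriterion
import Groth.Agent.CastLib.NumType
import Groth.Agent.CanonFacLib.Genus

/-!
# Exceptional curves through the canonical degree
-/

set_option autoImplicit false
set_option backward.isDefEq.respectTransparency false
set_option linter.style.haveILetI false
set_option maxHeartbeats 1000000

universe u

open CategoryTheory CategoryTheory.Limits AlgebraicGeometry TopologicalSpace

noncomputable section

namespace Groth.Agent.CanonFac

open Groth.Agent.SurfPtBlow Groth.Agent.AmpleLib Groth.Agent.CastLib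

/-- A curve of genus zero with self-intersection minus the weight is a line over its constants. -/
theorem exists_line {k : Type u} [Field k] {E X : Scheme.{u}} [E.Over (Spec (CommRingCat.of k))]
    [IsProper (E ↘ Spec (CommRingCat.of k))] [IsIntegral E] (hdim : topologicalKrullDim E = 1) (ι : E ⟶ X)
    (hC : BlowUp.IsEffCartierIdeal ι.ker) {L : X.Modules} (hL : ClSub.IsInverseOf L (ClSub.idealMod ι.ker))
    (h1 : Module.finrank k (Coh.HH E (Coh.structureModule E) 1) = 0)
    (hself : ArSurf.curveDeg k E ((Scheme.Modules.pullback ι).obj L) =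
      -(Module.finrank k (Coh.HH E (Coh.structureModule E) 0) : ℤ)) :
    ∃ (k' : Type u) (_ : Field k') (_ : Algebra k k'), FiniteDimensional k k' ∧
      ∃ e : E ≅ CohB1.ProjSpace 1 k',
        e.hom ≫ (CohB1.ProjSpace 1 k' ↘ Spec (CommRingCat.of k')) ≫
            Spec.map (CommRingCat.ofHom (algebraMap k k')) = E ↘ Spec (CommRingCat.of k) ∧
          ArSurf.curveDeg k E ((Scheme.Modules.pullback ι).obj L) = -(Module.finrank k k' : ℤ) := by
  have hI : PicF.IsInvertible (ClSub.idealMod ι.ker) := (S8914.result ι.ker).2 hC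
  have hLi := isInvertible_inverse_ideal hL
  obtain ⟨eL⟩ := id hL
  haveI : ConnectedSpace E := inferInstance
  obtain ⟨hF, hfin, -⟩ := S7639.result k E
  letI fK : Field Γ(E, ⊤) := hF.toField
  letI alg : Algebra k Γ(E, ⊤) := (Coh.toGlobal (E ↘ Spec (CommRingCat.of k))).toAlgebra
  haveI : Module.Finite k Γ(E, ⊤) := hfin
  letI ov : E.Over (Spec (CommRingCat.of Γ(E, ⊤))) := ⟨E.toSpecΓ⟩
  have hw : (E ↘ Spec (CommRingCat.of Γ(E, ⊤))) ≫ Spec.map (CommRingCat.ofHom (algebraMap k Γ(E, ⊤))) =
      E ↘ Spec (CommRingCat.of k) := by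
    refine hom_ext_toGlobal fun a => ?_
    rw [toGlobal_comp_specMap]
    show E.toSpecΓ.appTop ((Scheme.ΓSpecIso Γ(E, ⊤)).inv (algebraMap k Γ(E, ⊤) a)) = _
    rw [Scheme.toSpecΓ_appTop, Iso.inv_hom_id_apply]
    rfl
  haveI : IsProper (E ↘ Spec (CommRingCat.of Γ(E, ⊤))) := by
    haveI : IsProper ((E ↘ Spec (CommRingCat.of Γ(E, ⊤))) ≫
        Spec.map (CommRingCat.ofHom (algebraMap k Γ(E, ⊤)))) := hw.symm ▸ inferInstance
    exact IsProper.of_comp _ (Spec.map (CommRingCat.ofHom (algebraMap k Γ(E, ⊤))))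
  have hpos : 0 < Module.finrank k Γ(E, ⊤) := Module.finrank_pos
  have hg : Curv2.genus Γ(E, ⊤) E = 0 :=
    (mul_eq_zero.1 ((finrank_restrict (k := k) E hw (Coh.structureModule E) 1).symm.trans h1)).resolve_left hpos.ne'
  let eH : Coh.HH E (Coh.structureModule E) 0 ≃ₗ[k] Γ(E, ⊤) :=
    { (CurveLib.secOf (Coh.structureModule E)) with map_smul' := fun r c => CurveLib.secOf_smul (k := k) _ r c }
  rw [eH.finrank_eq] at hself
  have hd : ArSurf.curveDeg Γ(E, ⊤) E ((Scheme.Modules.pullback ι).obj L) = -1 := by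
    refine mul_left_cancel₀ (show (Module.finrank k Γ(E, ⊤) : ℤ) ≠ 0 by exact_mod_cast hpos.ne') ?_
    rw [← curveDeg_restrict (k := k) E hw, mul_neg_one, hself]
  have hd' : ArSurf.curveDeg Γ(E, ⊤) E ((Scheme.Modules.pullback ι).obj (ClSub.idealMod ι.ker)) = 1 := by
    have h := curveDeg_tensor (k := Γ(E, ⊤)) hdim.le (isInvertible_pullback ι hLi) (isInvertible_pullback ι hI)
    rw [curveDeg_iso hdim.le ((pullTensor ι _ _).symm ≪≫ (Scheme.Modules.pullback ι).mapIso eL ≪≫ pullO ι),
      curveDeg_one, hd] at h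
    omega
  rw [curveDeg_eq_deg hdim.le] at hd'
  obtain ⟨e, he⟩ := CurveP1Lib.exists_iso_P1_of_genus_zero hdim hg (isInvertible_pullback ι hI) hd'
  refine ⟨Γ(E, ⊤), fK, alg, inferInstance, e, ?_, hself⟩
  rw [← hw, ← he, Category.assoc]
  rfl

variable {R : Type u} [CommRing R] [IsDomain R] [IsDiscreteValuationRing R]

/-- Negative canonical and self intersection force an exceptional curve. -/
theorem exc_of_neg {X : Over (Spec (CommRingCat.of R))} (hX : ArSurf.IsArithSurface R X)
    {ω : X.left.Modules} (hω : Canon.IsCanonical X.hom ω) (E : ArSurf.VertComp R X)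
    {L : X.left.Modules} (hL : ClSub.IsInverseOf L (ClSub.idealMod E.ι.ker))
    (hK : ArSurf.inter R X ω E < 0) (hE : ArSurf.inter R X L E < 0) :
    Models.h1 R X E = 0 ∧ ArSurf.inter R X L E = -(Models.wdeg R X E : ℤ) ∧
      ArSurf.inter R X ω E = -(Models.wdeg R X E : ℤ) := by
  haveI := (SurfPtBlow.arSurf_facts hX).1
  obtain ⟨hw, hh, hdvd⟩ := CastLib.wdeg_dvd E
  have hadj := inter_add_inter_eq hX hω E hL
  rw [euler_vertComp] at hadj
  obtain ⟨x, hx⟩ := hdvd ω (isInvertible_of_isCanonical hω)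
  obtain ⟨y, hy⟩ := hdvd L (CastLib.isInvertible_inverse_ideal hL)
  obtain ⟨g, hg⟩ := hh
  rw [hx, hy, hg] at hadj
  push_cast at hadj
  have hw' : (0 : ℤ) < Models.wdeg R X E := by exact_mod_cast hw
  have hx1 : x ≤ -1 := by
    by_contra hc
    push Not at hc
    nlinarith [mul_nonneg hw'.le (show (0 : ℤ) ≤ x by omega)]
  have hy1 : y ≤ -1 := by
    by_contra hc
    push Not at hc
    nlinarith [mul_nonneg hw'.le (show (0 : ℤ) ≤ y by omega)]
  have hsum : y + x = -2 + 2 * (g : ℤ) := mul_left_cancel₀ hw'.ne' (by linear_combination hadj)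
  obtain ⟨rfl, rfl, rfl⟩ : g = 0 ∧ x = -1 ∧ y = -1 := by omega
  exact ⟨by rw [hg, mul_zero], by rw [hy]; ring, by rw [hx]; ring⟩

/-- **The canonical criterion for exceptional curves.** -/
theorem exc_iff {X : Over (Spec (CommRingCat.of R))} (hX : ArSurf.IsArithSurface R X)
    {ω : X.left.Modules} (hω : Canon.IsCanonical X.hom ω) (E : ArSurf.VertComp R X)
    {L : X.left.Modules} (hL : ClSub.IsInverseOf L (ClSub.idealMod E.ι.ker)) :
    (∃ (k' : Type u) (_ : Field k') (_ : Algebra (IsLocalRing.ResidueField R) k'),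
        FiniteDimensional (IsLocalRing.ResidueField R) k' ∧
        ∃ e : E.curve.left ≅ CohB1.ProjSpace 1 k',
          e.hom ≫ (CohB1.ProjSpace 1 k' ↘ Spec (CommRingCat.of k')) ≫
              Spec.map (CommRingCat.ofHom (algebraMap (IsLocalRing.ResidueField R) k')) = E.curve.hom ∧
            ArSurf.inter R X L E = -(Module.finrank (IsLocalRing.ResidueField R) k' : ℤ)) ↔
      (ArSurf.inter R X ω E < 0 ∧ ArSurf.inter R X L E < 0) := by
  haveI := (SurfPtBlow.arSurf_facts hX).1
  haveI := E.isIntegral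
  haveI := CastLib.isProper_vertComp E
  have hC := CastLib.isEffCartier_vertComp hX E
  constructor
  · rintro ⟨k', _, _, hfin, e, he, hself⟩
    haveI := hfin
    obtain ⟨h1, h2⟩ := (isExcCurve_iff (k := IsLocalRing.ResidueField R) E.dim_eq E.ι hC hL).1
      (isExcCurve_of_selfInt E.ι hC e he hL hself)
    have hadj := inter_add_inter_eq hX hω E hL
    rw [euler_vertComp] at hadj
    have hw := (CastLib.wdeg_dvd E).1
    change Models.h1 R X E = 0 at h1
    change ArSurf.inter R X L E = -(Models.wdeg R X E : ℤ) at h2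
    rw [h1, h2] at hadj
    constructor <;> push_cast at hadj <;> omega
  · rintro ⟨hK, hE⟩
    obtain ⟨h1, h2, -⟩ := exc_of_neg hX hω E hL hK hE
    exact exists_line E.dim_eq E.ι hC hL h1 h2

end Groth.Agent.CanonFac
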