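import Groth.Agent.CanonFacLib.Isolated
import Groth.Agent.CanonFacLib.Exc

/-!
# Vertical prime divisors which are connected components of the closed fibre
-/

set_option autoImplicit false
set_option backward.isDefEq.respectTransparency false
set_option linter.style.haveILetI false
set_option linter.unusedSectionVars false
set_option maxHeartbeats 1000000

universe u

open CategoryTheory CategoryTheory.Limits AlgebraicGeometry TopologicalSpace IsLocalRing

noncomputable section

namespace Groth.Agent.CanonFac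

variable {R : Type u} [CommRing R] [IsDomain R] [IsDiscreteValuationRing R] {X : Over (Spec (CommRingCat.of R))}

/-- Self-intersection zero means being a connected component of the closed fibre. -/
theorem inter_self_nonpos_and_iff (hX : ArSurf.IsArithSurface R X) (E : ArSurf.VertComp R X)
    {L : X.left.Modules} (hL : ClSub.IsInverseOf L (ClSub.idealMod E.ι.ker)) :
    ArSurf.inter R X L E ≤ 0 ∧ (ArSurf.inter R X L E = 0 ↔
      ∃ U : X.left.Opens, (U : Set X.left) ∩ Models.specialFibreSet R X = Set.range E.ι.base) := by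
  classical
  have h := CastLib.VSurf.of_arith hX
  haveI := h.int
  haveI := h.noeth
  haveI := h.proper
  obtain ⟨n, ξ, e, hco, hinj, hvert, hall, hpos, hfib⟩ := h.toFibreGood.exists_fibre_decomp
  obtain ⟨t, ht⟩ : ∃ t, ξ t = Models.genPtOf R X E := hall _ (CastLib.vertComp_vertical E _) (h.coheight_genPtOf E)
  have hC : ∀ s : Fin n, BlowUp.IsEffCartierIdeal (CastLib.cl (ξ s)) := fun s => SurfPtBlow.isEffCartier_closure h.reg _ (hco s)
  choose N hN using fun s => CastLib.exists_inverse_idealMod (hC s)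
  have hkt : CastLib.cl (ξ t) = E.ι.ker := by rw [CastLib.ker_vertComp, ← ht]
  have hNt : ArSurf.inter R X (N t) E = ArSurf.inter R X L E := by
    obtain ⟨ej⟩ := CastLib.nonempty_iso_inverse (hkt ▸ hN t : ClSub.IsInverseOf (N t) (ClSub.idealMod E.ι.ker)) hL
    exact CastLib.inter_congr E ej
  have hnot : ∀ o, o ≠ t → Models.genPtOf R X E ∉ (CastLib.cl (ξ o)).support := fun o ho hmem => by
    rw [CastLib.mem_support_cl, ← ht] at hmem
    refine ho (hinj ?_)
    by_contra hne
    have h3 := S8909.succ_le hmem hne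
    rw [hco, hco] at h3
    exact absurd h3 (by decide)
  have hoff : ∀ o, o ≠ t → 0 ≤ ArSurf.inter R X (N o) E ∧ (ArSurf.inter R X (N o) E = 0 ↔
      Disjoint (Set.range E.ι) ((CastLib.cl (ξ o)).support : Set X.left)) := fun o ho =>
    CastLib.inter_nonneg E (hC o) (hnot o ho) (hN o)
  have hsum := h.sum_mult_inter hC e hfib N hN E
  rw [← Finset.add_sum_erase _ _ (Finset.mem_univ t), hNt] at hsum
  have hrest : 0 ≤ ∑ o ∈ Finset.univ.erase t, (e o : ℤ) * ArSurf.inter R X (N o) E := Finset.sum_nonneg fun o ho =>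
    mul_nonneg (Int.natCast_nonneg _) (hoff o (Finset.ne_of_mem_erase ho)).1
  have het : (0 : ℤ) < e t := by exact_mod_cast hpos t
  refine ⟨?_, fun h0 => ?_, fun ⟨U, hU⟩ => ?_⟩
  · by_contra hc
    push Not at hc
    have := mul_pos het hc
    linarith
  · have hzero : ∀ o ∈ Finset.univ.erase t, (e o : ℤ) * ArSurf.inter R X (N o) E = 0 := by
      refine (Finset.sum_eq_zero_iff_of_nonneg fun o ho => ?_).1 (by rw [h0, mul_zero, zero_add] at hsum; exact hsum)
      exact mul_nonneg (Int.natCast_nonneg _) (hoff o (Finset.ne_of_mem_erase ho)).1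
    have hdisj : ∀ o, o ≠ t → Disjoint (Set.range E.ι) ((CastLib.cl (ξ o)).support : Set X.left) := fun o ho => by
      refine (hoff o ho).2.1 ?_
      exact (mul_eq_zero.1 (hzero o (Finset.mem_erase.2 ⟨ho, Finset.mem_univ _⟩))).resolve_left
        (by exact_mod_cast (hpos o).ne')
    let Z : Set X.left := ⋃ o ∈ (Finset.univ.erase t : Finset (Fin n)), ((CastLib.cl (ξ o)).support : Set X.left)
    have hZ : IsClosed Z := (Finset.univ.erase t).finite_toSet.isClosed_biUnion fun o _ => Closeds.isClosed _
    refine ⟨⟨Zᶜ, hZ.isOpen_compl⟩, Set.ext fun x => ⟨fun ⟨hxZ, hxs⟩ => ?_, fun hx => ⟨fun hxZ => ?_, ?_⟩⟩⟩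
    · by_contra hxE
      have hx' : x ∈ (SurfPtBlow.fibreIdeal X.hom).support := CastLib.FibreGood.mem_fibre.2 hxs
      rw [H1ZeroLib.mem_support_iff_stalk, hfib, CastLib.stalkIdeal_prod'] at hx'
      refine hx' ((Finset.prod_eq_one fun o _ => ?_).trans Ideal.one_eq_top)
      rw [IdealMulLib.stalkIdeal_eq_top _ (fun hmem => ?_), ← Ideal.one_eq_top, one_pow]
      rcases eq_or_ne o t with rfl | ho
      · exact hxE (by rw [hkt, ← SetLike.mem_coe, CastLib.support_ker] at hmem; exact hmem)
      · exact hxZ (Set.mem_biUnion (Finset.mem_coe.2 (Finset.mem_erase.2 ⟨ho, Finset.mem_univ _⟩)) hmem)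
    · simp only [Z, Set.mem_iUnion] at hxZ
      obtain ⟨o, ho, hxo⟩ := hxZ
      exact Set.disjoint_left.1 (hdisj o (Finset.ne_of_mem_erase ho)) hx hxo
    · obtain ⟨c, rfl⟩ := hx
      exact CastLib.vertComp_vertical E c
  · have hzero : ∑ o ∈ Finset.univ.erase t, (e o : ℤ) * ArSurf.inter R X (N o) E = 0 := by
      refine Finset.sum_eq_zero fun o ho => ?_
      have ho' := Finset.ne_of_mem_erase ho
      rw [(hoff o ho').2.2 (Set.disjoint_left.2 fun x hxE hxo => ?_), mul_zero]
      rw [SetLike.mem_coe, CastLib.mem_support_cl] at hxo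
      have hxU : x ∈ U := (hU.symm ▸ hxE : x ∈ (U : Set X.left) ∩ Models.specialFibreSet R X).1
      have hξ : ξ o ∈ Set.range E.ι := hU ▸ ⟨hxo.mem_open U.isOpen hxU, hvert o⟩
      rw [CastLib.range_vertComp, ← ht] at hξ
      refine ho' (hinj ?_)
      by_contra hne
      have h3 := S8909.succ_le (specializes_iff_mem_closure.2 hξ) (Ne.symm hne)
      rw [hco, hco] at h3
      exact absurd h3 (by decide)
    rw [hzero, add_zero] at hsum
    exact (mul_eq_zero.1 hsum).resolve_left het.ne'

end Groth.Agent.CanonFac
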