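import Groth.Agent.FundLocIsoLib.Adjunction
import Groth.Agent.ConormalLib.Trans
import Groth.Agent.ConormalLib.Seq
import Groth.Agent.RegLib.KData
import Groth.Agent.ObsLiftLib.LocFree
import Groth.Agent.IntLib.Cls
import Groth.Agent.GrpOmega.Basic
import Groth.Agent.AmpleEmb.Inverse

/-!
# Top exterior powers of conormal sheaves of regular immersions
-/

set_option autoImplicit false
set_option backward.isDefEq.respectTransparency false
set_option linter.style.haveILetI false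
set_option linter.unusedSectionVars false
set_option maxHeartbeats 1000000

universe u

open CategoryTheory CategoryTheory.Limits AlgebraicGeometry TopologicalSpace Opposite
open Groth.Agent.PullbackMod Groth.Agent.DCohLib Groth.Agent.ParaFLib
open Groth.Agent.IntLib (mk pullCls mk_congr mk_tensor mk_eq_mk)

noncomputable section

namespace Groth.Agent.CanonFac

/-- Regular generators near one point survive shrinking. -/
theorem exists_tower_at {Z Y X : Scheme.{u}} (i : Z ⟶ Y) (j : Y ⟶ X) [IsImmersion i] [IsImmersion j] {c : ℕ}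
    (z : Z) (hi : ∃ U : Y.affineOpens, i z ∈ U.1 ∧ IsClosedImmersion (i ∣_ U.1) ∧
      ∃ rs : List Γ(Y, U.1), rs.length = c ∧ RegImm.Kind.regular.Seq Γ(Y, U.1) rs ∧
        RingHom.ker (i.app U.1).hom = Ideal.ofList rs) :
    ∃ U : X.Opens, ConormalLib.Tower i j U ∧ z ∈ i ⁻¹ᵁ (j ⁻¹ᵁ U) ∧
      ∃ f : Fin c → Γ(Y, j ⁻¹ᵁ U), CAlgX.IsH1Regular f ∧
        RingHom.ker (i.app (j ⁻¹ᵁ U)).hom = Ideal.span (Set.range f) := by
  obtain ⟨⟨VY, hVY⟩, hzY, hc, rs, hlen, hrs, hker⟩ := hi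
  subst hlen
  obtain ⟨U, T, hz, -, hUO, hk, hj⟩ := ConormalLib.exists_tower i j z (V := ⊤) trivial (O := VY) hzY
  obtain ⟨b, hbU, hzb⟩ := hVY.exists_basicOpen_le (V := j ⁻¹ᵁ U) ⟨i z, hz⟩ hzY
  obtain ⟨a, ha⟩ := T.surjY (Y.presheaf.map (homOfLE hUO).op b)
  have hpre : j ⁻¹ᵁ X.basicOpen a = Y.basicOpen b := by
    rw [Scheme.preimage_basicOpen, ha]
    refine (Y.basicOpen_res b (homOfLE hUO).op).trans (inf_eq_right.2 hbU)
  have hle : X.basicOpen a ≤ U := X.basicOpen_le a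
  refine ⟨X.basicOpen a, ConormalLib.tower_of_le i j (T.affU.basicOpen a) (hle.trans hk) (hle.trans hj), ?_, ?_⟩
  · show i z ∈ j ⁻¹ᵁ X.basicOpen a
    rw [hpre]
    exact hzb
  · suffices key : ∀ O : Y.Opens, O = Y.basicOpen b → ∃ f : Fin rs.length → Γ(Y, O), CAlgX.IsH1Regular f ∧
        RingHom.ker (i.app O).hom = Ideal.span (Set.range f) from key _ hpre
    rintro _ rfl
    letI : Algebra Γ(Y, VY) Γ(Y, Y.basicOpen b) := (Y.presheaf.map (homOfLE (Y.basicOpen_le b)).op).hom.toAlgebra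
    haveI : IsLocalization.Away b Γ(Y, Y.basicOpen b) := hVY.isLocalization_basicOpen b
    obtain ⟨-, hk'⟩ := RelDivLib.closed_and_ker_pullback (IsPullback.id_horiz i) hVY hc (hVY.basicOpen b)
      (V := Y.basicOpen b) (Y.basicOpen_le b)
    refine ⟨fun k => algebraMap Γ(Y, VY) _ (rs.get k), RelDivLib.isH1Regular_map (Submonoid.powers b)
      (ObsLiftLib.isH1Regular_of_isWeaklyRegular rs
        (show RingTheory.Sequence.IsRegular _ _ from hrs).toIsWeaklyRegular), ?_⟩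
    rw [hk', show RingHom.ker (i.app VY).hom = Ideal.ofList rs from hker]
    rw [show Ideal.ofList rs = Ideal.span (Set.range rs.get) by
      rw [Set.range_list_get], Ideal.map_span, ← Set.range_comp]
    congr 2

/-- Regular generators of the right number survive shrinking. -/
theorem exists_tower_codim {Z Y X : Scheme.{u}} (i : Z ⟶ Y) (j : Y ⟶ X) [IsImmersion i] [IsImmersion j] {c : ℕ}
    (hi : RegImm.IsRegularImmersionOfCodim RegImm.Kind.regular c i) (z : Z) :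
    ∃ U : X.Opens, ConormalLib.Tower i j U ∧ z ∈ i ⁻¹ᵁ (j ⁻¹ᵁ U) ∧
      ∃ f : Fin c → Γ(Y, j ⁻¹ᵁ U), CAlgX.IsH1Regular f ∧
        RingHom.ker (i.app (j ⁻¹ᵁ U)).hom = Ideal.span (Set.range f) :=
  exists_tower_at i j z (hi.2 z)

/-- Locally free of a given rank everywhere. -/
def HasFrames {X : Scheme.{u}} (E : X.Modules) (n : ℕ) : Prop :=
  FlatMod.IsFinLocFree E ∧ ∀ x : X, ∃ (U : X.Opens) (s : Fin n → Γ(E, U)), x ∈ U ∧ DegDevLib.IsFrame U s

theorem hasFrames_conormal {Z Y : Scheme.{u}} (i : Z ⟶ Y) [QuasiCompact i] {c : ℕ}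
    (hi : RegImm.IsRegularImmersionOfCodim RegImm.Kind.regular c i) : HasFrames (Omega.conormal i) c := by
  haveI := hi.1
  have key : ∀ z : Z, ∃ U : Z.Opens, z ∈ U ∧
      Nonempty ((Omega.conormal i).restrict U.ι ≅ FlatMod.freeMod (↑U) c) := fun z => by
    obtain ⟨U, T, hz, f, hf, hker⟩ := exists_tower_codim i (𝟙 Y) hi z
    exact ⟨_, hz, T.nonempty_free hf hker⟩
  have hF : FlatMod.IsFinLocFree (Omega.conormal i) := fun z => by
    obtain ⟨U, hz, e⟩ := key z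
    exact ⟨U, c, hz, e⟩
  refine ⟨hF, fun z => ?_⟩
  obtain ⟨U, hz, ⟨e⟩⟩ := key z
  obtain ⟨V, k, s, hzV, hs⟩ := SeesawVB.exists_frame_at hF z
  obtain rfl : k = c := freeAt_unique _ (SeesawVB.freeAt_of_frame hs hzV)
    (PullbackMod.freeAt_of_restrict_iso _ e hz)
  exact ⟨V, s, hzV, hs⟩

theorem HasFrames.pullback {X X' : Scheme.{u}} (f : X' ⟶ X) {E : X.Modules} {n : ℕ} (h : HasFrames E n) :
    HasFrames ((Scheme.Modules.pullback f).obj E) n := by
  haveI := (isQCoh_and_isFP_of_isFinLocFree _ h.1).1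
  refine ⟨isFinLocFree_pullback f _ h.1, fun x => ?_⟩
  obtain ⟨U, s, hU, hs⟩ := h.2 (f x)
  exact ⟨f ⁻¹ᵁ U, _, hU, SeesawVB.isFrame_pullMap f hs (le_refl (f ⁻¹ᵁ U))⟩

theorem hasFrames_omega {X Y : Scheme.{u}} (f : X ⟶ Y) (n : ℕ) [SmoothOfRelativeDimension n f] [QuasiSeparated f] :
    HasFrames (Omega.sheaf f) n :=
  haveI : Smooth f := SmoothOfRelativeDimension.smooth n f
  ⟨InfLiftLib.isFinLocFree_omega f, fun x => SeesawVB.exists_frame_omega f n x⟩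

theorem HasFrames.isInvertible {X : Scheme.{u}} {E L : X.Modules} {n : ℕ} (h : HasFrames E n)
    (hL : ExtPow.IsExtPow n E L) : PicF.IsInvertible L :=
  SeesawVB.isInvertible_of_isExtPow hL h.2

/-- The middle of an extension of locally free modules of constant ranks. -/
theorem hasFrames_mid {X : Scheme.{u}} {S : ShortComplex X.Modules} (hS : S.ShortExact) {a c : ℕ}
    (h₁ : HasFrames S.X₁ a) (h₃ : HasFrames S.X₃ c) : HasFrames S.X₂ (a + c) := by
  have hF := RegLib.isFinLocFree_mid hS h₁.1 h₃.1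
  refine ⟨hF, fun x => ?_⟩
  obtain ⟨U₁, s₁, hx₁, hs₁⟩ := h₁.2 x
  obtain ⟨U₃, s₃, hx₃, hs₃⟩ := h₃.2 x
  obtain ⟨U, b, s, hxU, hs⟩ := SeesawVB.exists_frame_at hF x
  haveI : Mono S.f := hS.mono_f
  haveI : Epi S.g := hS.epi_g
  obtain rfl : a + c = b := FundLocIsoLib.rank_add (stalkLin S.f x) (stalkLin S.g x)
    ((mono_iff_stalk S.f).1 inferInstance x) (DCohLib.exact_stalkLin S hS.exact x)
    ((epi_iff_stalk S.g).1 inferInstance x)
    (FundLocIsoLib.stalkFree hs₁ hx₁) (FundLocIsoLib.stalkFree hs hxU) (FundLocIsoLib.stalkFree hs₃ hx₃)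
  exact ⟨U, s, hxU, hs⟩

/-- Top exterior powers of an extension, as classes. -/
theorem mk_det {X : Scheme.{u}} {S : ShortComplex X.Modules} (hS : S.ShortExact) {a c : ℕ}
    (h₁ : HasFrames S.X₁ a) (h₃ : HasFrames S.X₃ c) {A B C : X.Modules} (hA : ExtPow.IsExtPow a S.X₁ A)
    (hB : ExtPow.IsExtPow (a + c) S.X₂ B) (hC : ExtPow.IsExtPow c S.X₃ C) : mk B = mk A * mk C := by
  obtain ⟨e⟩ := FundLocIsoLib.nonempty_det_iso hS h₁.1 (hasFrames_mid hS h₁ h₃).1 h₃.1 rfl h₁.2 h₃.2 hA hB hC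
  exact mk_congr e.symm

/-- The conormal sequence of an immersion into a smooth scheme over the target of a regular immersion. -/
theorem exists_det_smooth {Z P Y : Scheme.{u}} (p : P ⟶ Y) (n : ℕ) [SmoothOfRelativeDimension n p] [QuasiSeparated p]
    (k : Z ⟶ P) (j : Z ⟶ Y) [IsImmersion k] [IsImmersion j] [QuasiCompact k] [QuasiCompact j] (hkj : k ≫ p = j)
    {c : ℕ} (hj : RegImm.IsRegularImmersionOfCodim RegImm.Kind.regular c j)
    {DJ : Z.Modules} (hDJ : ExtPow.IsExtPow c (Omega.conormal j) DJ)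
    {DP : P.Modules} (hDP : ExtPow.IsExtPow n (Omega.sheaf p) DP) :
    HasFrames (Omega.conormal k) (c + n) ∧ ∀ DK : Z.Modules, ExtPow.IsExtPow (c + n) (Omega.conormal k) DK →
      mk DK = mk DJ * pullCls k (mk DP) := by
  haveI : Smooth p := SmoothOfRelativeDimension.smooth n p
  obtain ⟨φ, hφ⟩ := GrpOmega.exists_conormalDiff k (OmegaSh.dOmega p)
  obtain ⟨ψ, hψ, -⟩ := ConormalLib.existsUnique_conormalMap k j p (𝟙 Z) (by rw [Category.id_comp, hkj])
  obtain ⟨w, hex, hepi⟩ := ConormalLib.exact_and_epi (OmegaUnivLib.isUniversal_dOmega p) hψ hφ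
  have hS : (ShortComplex.mk ψ φ w).ShortExact :=
    { exact := hex, mono_f := ConormalLib.mono_of_smooth hψ, epi_g := hepi }
  have h₁ : HasFrames ((Scheme.Modules.pullback (𝟙 Z)).obj (Omega.conormal j)) c := (hasFrames_conormal j hj).pullback _
  have h₃ : HasFrames ((Scheme.Modules.pullback k).obj (Omega.sheaf p)) n := (hasFrames_omega p n).pullback _
  refine ⟨hasFrames_mid hS h₁ h₃, fun DK hDK => ?_⟩
  haveI := (isQCoh_and_isFP_of_isFinLocFree _ (hasFrames_omega p n).1).1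
  exact mk_det hS h₁ h₃ (A := DJ) (C := (Scheme.Modules.pullback k).obj DP)
    (KVb.isExtPow_iso ((Scheme.Modules.pullbackId Z).app _).symm (Iso.refl _) hDJ) hDK
    (KVb.isExtPow_pullback k hDP)

/-- Invertible classes cancel. -/
theorem mul_mk_cancel {X : Scheme.{u}} {L : X.Modules} (hL : PicF.IsInvertible L) {a b : IntLib.MCls X}
    (h : mk L * a = mk L * b) : a = b := by
  obtain ⟨N, -, ⟨e⟩⟩ := AmpleEmb.exists_isInverseOf hL
  have hu : mk L * mk N = 1 := (mk_tensor _ _).symm.trans ((mk_congr e).trans IntLib.mk_structureModule)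
  have := congrArg (mk N * ·) h
  simpa only [← mul_assoc, mul_comm (mk N) (mk L), hu, one_mul] using this

/-- The canonical sheaf does not depend on the factorisation. -/
theorem nonempty_iso_via {X Y Z₁ Z₂ : Scheme.{u}}
    (i₁ : X ⟶ Z₁) (g₁ : Z₁ ⟶ Y) (i₂ : X ⟶ Z₂) (g₂ : Z₂ ⟶ Y)
    [QuasiCompact i₁] [QuasiCompact i₂] [QuasiSeparated g₁] [QuasiSeparated g₂]
    (h : i₁ ≫ g₁ = i₂ ≫ g₂) {c₁ n₁ c₂ n₂ : ℕ}
    (hi₁ : RegImm.IsRegularImmersionOfCodim .regular c₁ i₁) (hg₁ : SmoothOfRelativeDimension n₁ g₁)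
    (hi₂ : RegImm.IsRegularImmersionOfCodim .regular c₂ i₂) (hg₂ : SmoothOfRelativeDimension n₂ g₂)
    {ω₁ ω₂ : X.Modules} (hω₁ : Canon.IsCanonicalVia i₁ g₁ c₁ n₁ ω₁) (hω₂ : Canon.IsCanonicalVia i₂ g₂ c₂ n₂ ω₂) :
    Nonempty (ω₁ ≅ ω₂) := by
  rcases isEmpty_or_nonempty X with hX | ⟨⟨x⟩⟩
  · exact ⟨@asIso _ _ _ _ (0 : _ ⟶ _) ((isIso_iff_stalk _).2 fun x => hX.elim x)⟩
  obtain ⟨C₁, D₁, hC₁, hD₁, ⟨e₁⟩⟩ := hω₁
  obtain ⟨C₂, D₂, hC₂, hD₂, ⟨e₂⟩⟩ := hω₂
  haveI := hi₁.1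
  haveI := hi₂.1
  let p₁ := pullback.fst g₁ g₂
  let p₂ := pullback.snd g₁ g₂
  let k := pullback.lift i₁ i₂ h
  haveI := smoothOfRelativeDimension_isStableUnderBaseChange (n := n₁)
  haveI := smoothOfRelativeDimension_isStableUnderBaseChange (n := n₂)
  haveI : SmoothOfRelativeDimension n₂ p₁ := MorphismProperty.pullback_fst _ _ hg₂
  haveI : SmoothOfRelativeDimension n₁ p₂ := MorphismProperty.pullback_snd _ _ hg₁
  have hk₁ : k ≫ p₁ = i₁ := pullback.lift_fst ..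
  have hk₂ : k ≫ p₂ = i₂ := pullback.lift_snd ..
  haveI : IsImmersion (k ≫ p₁) := by rw [hk₁]; exact hi₁.1
  haveI : IsImmersion k := IsImmersion.of_comp k p₁
  haveI : QuasiCompact (k ≫ p₁) := by rw [hk₁]; infer_instance
  haveI : QuasiCompact k := QuasiCompact.of_comp k p₁
  obtain ⟨ea⟩ := GrpOmega.omega_baseChange (f := g₂) (f' := p₁) (g' := p₂) (g := g₁) (IsPullback.of_hasPullback g₁ g₂).flip
  obtain ⟨eb⟩ := GrpOmega.omega_baseChange (f := g₁) (f' := p₂) (g' := p₁) (g := g₂) (IsPullback.of_hasPullback g₁ g₂)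
  haveI := (isQCoh_and_isFP_of_isFinLocFree _ (hasFrames_omega g₁ n₁).1).1
  haveI := (isQCoh_and_isFP_of_isFinLocFree _ (hasFrames_omega g₂ n₂).1).1
  have hP₁ : ExtPow.IsExtPow n₂ (Omega.sheaf p₁) ((Scheme.Modules.pullback p₂).obj D₂) :=
    KVb.isExtPow_iso ea (Iso.refl _) (KVb.isExtPow_pullback p₂ hD₂)
  have hP₂ : ExtPow.IsExtPow n₁ (Omega.sheaf p₂) ((Scheme.Modules.pullback p₁).obj D₁) :=
    KVb.isExtPow_iso eb (Iso.refl _) (KVb.isExtPow_pullback p₁ hD₁)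
  obtain ⟨hF, hdet₁⟩ := exists_det_smooth p₁ n₂ k i₁ hk₁ hi₁ hC₁ hP₁
  obtain ⟨hF', hdet₂⟩ := exists_det_smooth p₂ n₁ k i₂ hk₂ hi₂ hC₂ hP₂
  obtain ⟨U, s, hxU, hs⟩ := hF.2 x
  obtain ⟨U', s', hxU', hs'⟩ := hF'.2 x
  have hrank : c₁ + n₂ = c₂ + n₁ :=
    freeAt_unique _ (SeesawVB.freeAt_of_frame hs hxU) (SeesawVB.freeAt_of_frame hs' hxU')
  obtain ⟨DK, -, hDK⟩ := ExtPowLib.exists_isExtPow (Omega.conormal k) (c₁ + n₂)
  have hd1 := hdet₁ DK hDK
  have hd2 := hdet₂ DK (hrank ▸ hDK)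
  have hq1 : pullCls k (mk ((Scheme.Modules.pullback p₂).obj D₂)) = mk ω₂ * mk C₂ :=
    ((mk_congr ((Scheme.Modules.pullbackComp k p₂).app D₂ ≪≫ (Scheme.Modules.pullbackCongr hk₂).app D₂)).trans
      (mk_congr e₂.symm))
  have hq2 : pullCls k (mk ((Scheme.Modules.pullback p₁).obj D₁)) = mk ω₁ * mk C₁ :=
    ((mk_congr ((Scheme.Modules.pullbackComp k p₁).app D₁ ≪≫ (Scheme.Modules.pullbackCongr hk₁).app D₁)).trans
      (mk_congr e₁.symm))
  rw [hq1] at hd1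
  rw [hq2] at hd2
  have hC : PicF.IsInvertible (CohB1.tensorMod C₁ C₂) :=
    AmpleLib.isInvertible_tensor ((hasFrames_conormal i₁ hi₁).isInvertible hC₁)
      ((hasFrames_conormal i₂ hi₂).isInvertible hC₂)
  refine mk_eq_mk.1 (mul_mk_cancel hC ?_)
  rw [mk_tensor]
  calc mk C₁ * mk C₂ * mk ω₁ = mk C₂ * (mk ω₁ * mk C₁) := by rw [mul_comm (mk ω₁), ← mul_assoc, mul_comm (mk C₂)]
    _ = mk C₁ * (mk ω₂ * mk C₂) := by rw [← hd2, ← hd1]
    _ = mk C₁ * mk C₂ * mk ω₂ := by rw [mul_comm (mk ω₂), mul_assoc]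

end Groth.Agent.CanonFac
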