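import Groth.Agent.CanonFacLib.Adj
import Groth.Agent.CanonFacLib.Restrict
import Groth.Agent.CastLib.ContractUnique
import Groth.Agent.CastLib.ContractPic
import Groth.Agent.CastLib.BlowPic
import Groth.Agent.CastLib.GGContract
import Groth.Agent.CastLib.NegDef
import Groth.Agent.CastLib.PicTors

/-!
# Contractions of curves of canonical degree zero are crepant
-/

set_option autoImplicit false
set_option backward.isDefEq.respectTransparency false
set_option linter.style.haveILetI false
set_option linter.unusedSectionVars false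
set_option maxHeartbeats 1000000
set_option synthInstance.maxHeartbeats 200000

universe u

open CategoryTheory CategoryTheory.Limits AlgebraicGeometry TopologicalSpace IsLocalRing IntMult
open Groth.Agent.IntLib (mk pullCls mk_congr mk_tensor mk_eq_mk pullCls_mk)

noncomputable section

namespace Groth.Agent.CanonFac

open Groth.Agent.CastLib Groth.Agent.SurfPtBlow Groth.Agent.DivisorialLib

variable {R : Type u} [CommRing R] [IsDomain R] [IsDiscreteValuationRing R] {X : Over (Spec (CommRingCat.of R))}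

/-- Invertible modules trivial off some vertical curves are combinations of them. -/
theorem exists_eq_prod_off (hX : ArSurf.IsArithSurface R X) {r : ℕ} (Γ : Fin r → ArSurf.VertComp R X)
    (hΓ : Function.Injective fun i => Set.range ((Γ i).ι.base : (Γ i).curve.left → X.left))
    (L : Fin r → X.left.Modules) (hL : ∀ j, ClSub.IsInverseOf (L j) (ClSub.idealMod (Γ j).ι.ker))
    {M : X.left.Modules} (hM : PicF.IsInvertible M) (U : X.left.Opens)
    (hU : (U : Set X.left) = (⋃ i, Set.range (Γ i).ι)ᶜ)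
    (htriv : pullCls U.ι (mk M) = 1) :
    ∃ a b : Fin r → ℕ, mk M * ∏ i, mk (L i) ^ a i = ∏ i, mk (L i) ^ b i := by
  classical
  have hV := VSurf.of_arith hX
  haveI := hV.int
  haveI := hV.noeth
  have hC : ∀ j, BlowUp.IsEffCartierIdeal (Γ j).ι.ker := fun j => hV.isEffCartier_ker (Γ j)
  let I : X.left.IdealSheafData := ∏ j, (Γ j).ι.ker ^ 1
  have hI : BlowUp.IsEffCartierIdeal I := (mk_idealMod_prod _ hC (fun _ => 1) Finset.univ).1
  have hco : ∀ i, Order.coheight (Models.genPtOf R X (Γ i)) = 1 := fun i => hV.coheight_genPtOf (Γ i)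
  have hinj : Function.Injective fun i => Models.genPtOf R X (Γ i) := fun i i' h => hΓ (by
    show Set.range (Γ i).ι = Set.range (Γ i').ι
    rw [← support_ker, ← support_ker, ker_vertComp, ker_vertComp, show Models.genPtOf R X (Γ i) = Models.genPtOf R X (Γ i') from h])
  have hsupp : ∀ x, x ∈ I.support ↔ x ∉ U := fun x => by
    rw [← SetLike.mem_coe (p := U), hU, Set.mem_compl_iff, not_not, Set.mem_iUnion]
    constructor
    · intro hx
      by_contra hne
      push Not at hne
      have h1 := IdealStalkLib.stalkIdeal_le_maximal I hx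
      rw [stalkIdeal_prod', Finset.prod_eq_one fun i _ => ?_] at h1
      · exact (maximalIdeal.isMaximal _).ne_top (top_le_iff.1 (Ideal.one_eq_top.symm.le.trans h1))
      · rw [pow_one, Ideal.one_eq_top]
        refine (SurfPtBlow.stalkIdeal_eq_top_iff _ x).2 fun h => hne i ?_
        rw [← SetLike.mem_coe, support_ker] at h
        exact h
    · rintro ⟨i, hi⟩
      refine mem_support_of_ne_top fun h => ?_
      rw [stalkIdeal_prod'] at h
      have h2 := (le_of_eq h.symm).trans (Ideal.prod_le_inf.trans (Finset.inf_le (Finset.mem_univ i)))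
      rw [pow_one] at h2
      have hxi : x ∈ (Γ i).ι.ker.support := by
        rw [← SetLike.mem_coe, support_ker]; exact hi
      exact (maximalIdeal.isMaximal _).ne_top (top_le_iff.1 (h2.trans (IdealStalkLib.stalkIdeal_le_maximal _ hxi)))
  obtain ⟨N, hNI⟩ := exists_inverse_idealMod hI
  have hN := isInvertible_inverse_ideal hNI
  obtain ⟨u, hu⟩ := AVLib.exists_section_genLocus_compl hI hN hNI
  have hUI : U = I.support.compl := Opens.ext (Set.ext fun x => by
    show x ∈ U ↔ x ∉ I.support
    rw [hsupp, not_not])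
  obtain ⟨e⟩ := BlowPic.mk_eq_one.1 ((BlowPic.mk_restrict U M).trans htriv)
  obtain ⟨t, ht⟩ : ∃ t : Coh.structureModule (CohB1.genLocus N u : Scheme.{u}) ⟶ M.restrict (CohB1.genLocus N u).ι,
      CohB1.genLocus _ t = ⊤ := by
    rw [hu, ← hUI]
    exact ⟨e.inv, eq_top_iff.2 fun z _ => (AVLib.mem_genLocus_iff_stalkLin (ParaFLib.isInvertible_restrict _ hM)).2
      ((PullbackMod.isIso_iff_stalk e.inv).1 inferInstance z)⟩
  obtain ⟨K₀, hK⟩ := AmpleEmb.exists_section_genLocus hM hN u t
  obtain ⟨Ξ, hΞ⟩ := hK K₀ le_rfl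
  rw [ht, Scheme.Opens.ι_image_top, hu] at hΞ
  have hLK : PicF.IsInvertible (CohB1.tensorMod (CohB1.tensorMod M (CohB1.tensorPow N K₀)) N) :=
    AmpleLib.isInvertible_tensor (AmpleLib.isInvertible_tensor hM (AmpleLib.isInvertible_tensorPow hN K₀)) hN
  choose W hW hxW _ using fun x : X.left => exists_isAffineOpen_mem_and_subset (U := (⊤ : X.left.Opens)) (x := x) trivial
  have hη : genericPoint X.left ∈ CohB1.genLocus _ Ξ := by
    rw [hΞ]
    show genericPoint X.left ∉ I.support
    rw [hsupp, not_not]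
    show genericPoint X.left ∈ (U : Set X.left)
    rw [hU]
    rintro hη
    obtain ⟨i, c, hc⟩ := Set.mem_iUnion.1 hη
    exact hV.genPt_not_fibre (hc ▸ vertComp_vertical (Γ i) c)
  obtain ⟨D, hD, hDs, ⟨eD⟩⟩ := S1658.exists_effCartier_of_section hLK W hW (fun x => ⟨x, hxW x⟩) Ξ fun i p hp => by
    haveI : Nonempty ↥(W i) := ⟨⟨i, hxW i⟩⟩
    haveI : IsDomain Γ(X.left, W i) := @IsIntegral.component_integral X.left _ (W i) ⟨⟨i, hxW i⟩⟩
    have hp0 : p.asIdeal = ⊥ := by
      obtain ⟨hpr, z, hz⟩ := hp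
      rcases eq_or_ne z 0 with rfl | hz0
      · exact absurd (by rw [hz]; simp) hpr.ne_top
      · rw [eq_bot_iff, hz]
        intro a ha
        exact (by simpa [Ideal.mem_radical_iff, mul_eq_zero, hz0] using ha : a = 0 ∧ _).1
    have hgen : (hW i).fromSpec p = genericPoint X.left := by
      have hp' : p = genericPoint (Spec Γ(X.left, W i)) := by
        rw [genericPoint_eq_bot_of_affine]; exact PrimeSpectrum.ext hp0
      rw [hp']
      exact genericPoint_eq_of_isOpenImmersion (hW i).fromSpec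
    rw [hgen]
    exact hη
  rw [hΞ] at hDs
  have hexp : ∀ i, ∃ m, stalkIdeal D (Models.genPtOf R X (Γ i)) =
      maximalIdeal (X.left.presheaf.stalk (Models.genPtOf R X (Γ i))) ^ m := fun i => by
    haveI : IsDiscreteValuationRing (X.left.presheaf.stalk (Models.genPtOf R X (Γ i))) :=
      CDivLib.isDVR_stalk (fun x => by haveI := hV.reg x; exact PurityLib.isIntegrallyClosed_of_regular _) (hco i)
    obtain ⟨ϖ, hϖ⟩ := IsDiscreteValuationRing.exists_irreducible (X.left.presheaf.stalk (Models.genPtOf R X (Γ i)))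
    obtain ⟨f, hf, hfI⟩ := exists_gen hD (Models.genPtOf R X (Γ i))
    refine S8909.exists_eq_pow hϖ.maximalIdeal_eq fun hbot => nonZeroDivisors.ne_zero hf ?_
    exact Ideal.span_singleton_eq_bot.1 (hfI.symm.trans hbot)
  choose a ha using hexp
  have hprod : D = ∏ i, cl (Models.genPtOf R X (Γ i)) ^ a i := by
    refine eq_prod_cl hV.reg _ hco hinj _ a rfl D hD (fun η hη' h1 => ?_) ha
    have hηI : η ∈ I.support := by
      have h' : η ∈ (D.support : Set X.left) := hη'
      rw [hDs] at h'
      exact (compl_compl (I.support : Set X.left)).le h'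
    have hηE : η ∈ ⋃ i, Set.range (Γ i).ι := by
      have h' : η ∉ (U : Set X.left) := (hsupp η).1 hηI
      rwa [hU, Set.mem_compl_iff, not_not] at h'
    obtain ⟨i, hi⟩ := Set.mem_iUnion.1 hηE
    refine ⟨i, ?_⟩
    have hsp : Models.genPtOf R X (Γ i) ⤳ η := by
      rw [← support_ker, ker_vertComp, SetLike.mem_coe, mem_support_cl] at hi
      exact hi
    by_contra hne
    have h3 := S8909.succ_le hsp hne
    rw [hco i, h1] at h3
    exact absurd h3 (by decide)
  have hker : ∀ i, cl (Models.genPtOf R X (Γ i)) = (Γ i).ι.ker := fun i => (ker_vertComp (Γ i)).symm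
  simp only [hker] at hprod
  have h1 := (IntLib.mk_congr eD).trans IntLib.mk_structureModule
  rw [hprod] at h1
  simp only [IntLib.mk_tensor, IntLib.mk_tensorPow, (mk_idealMod_prod _ hC a Finset.univ).2] at h1
  have hLI : ∀ i, mk (L i) * mk (ClSub.idealMod (Γ i).ι.ker) = 1 := fun i => mk_mul_of_isInverseOf (hL i)
  have hNeq : mk N = ∏ i, mk (L i) := by
    have h2 := mk_mul_of_isInverseOf hNI
    rw [show I = ∏ j, (Γ j).ι.ker ^ (fun _ : Fin r => 1) j from rfl, (mk_idealMod_prod _ hC (fun _ => 1) Finset.univ).2] at h2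
    simp only [pow_one] at h2
    calc mk N = mk N * ∏ i, (mk (L i) * mk (ClSub.idealMod (Γ i).ι.ker)) := by
          simp only [hLI, Finset.prod_const_one, mul_one]
      _ = (mk N * ∏ i, mk (ClSub.idealMod (Γ i).ι.ker)) * ∏ i, mk (L i) := by
          rw [Finset.prod_mul_distrib]; ac_rfl
      _ = _ := by rw [h2, one_mul]
  refine ⟨fun _ => K₀ + 1, a, ?_⟩
  calc mk M * ∏ i, mk (L i) ^ (K₀ + 1)
      = mk M * mk N ^ K₀ * mk N * ∏ i, (mk (L i) * mk (ClSub.idealMod (Γ i).ι.ker)) ^ a i := by
        simp only [hLI, one_pow, Finset.prod_const_one, mul_one]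
        rw [mul_assoc, ← pow_succ, hNeq, ← Finset.prod_pow]
    _ = (mk M * mk N ^ K₀ * mk N * ∏ i, mk (ClSub.idealMod (Γ i).ι.ker) ^ a i) * ∏ i, mk (L i) ^ a i := by
        simp only [mul_pow, Finset.prod_mul_distrib]; ac_rfl
    _ = _ := by rw [h1, one_mul]

/-- A contraction of curves of canonical degree zero pulls the canonical sheaf back to the canonical sheaf. -/
theorem pullCls_canonical_of_contr (hX : ArSurf.IsArithSurface R X) {r : ℕ} {Γ : Fin r → ArSurf.VertComp R X}
    (hΓ : Function.Injective fun i => Set.range ((Γ i).ι.base : (Γ i).curve.left → X.left))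
    {L : Fin r → X.left.Modules} (hL : ∀ j, ClSub.IsInverseOf (L j) (ClSub.idealMod (Γ j).ι.ker))
    (hneg : ∀ c : Fin r → ℤ, c ≠ 0 →
      (Finset.univ : Finset (Fin r × Fin r)).sum (fun p => c p.1 * c p.2 * ArSurf.inter R X (L p.2) (Γ p.1)) < 0)
    {ωX : X.left.Modules} (hωX : Canon.IsCanonical X.hom ωX) (hK : ∀ i, ArSurf.inter R X ωX (Γ i) = 0)
    {Y : Over (Spec (CommRingCat.of R))} {f : X ⟶ Y} (hf : CastLib.IsContr Γ f)
    {ωY : Y.left.Modules} (hωY : Canon.IsCanonical Y.hom ωY) :
    pullCls f.left (mk ωY) = mk ωX := by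
  classical
  haveI := hX.2.1
  haveI : IsProper X.hom := (arSurf_facts hX).1
  haveI := (arSurf_facts hX).2
  obtain ⟨hp, hs, hb⟩ := hf.facts (arSurf_facts hX).1
  haveI := hp
  haveI := hs
  obtain ⟨hint, hn, hdim, hflat, hproj, hpt, hsat, hiso⟩ := hf
  haveI := isProper_of_projective hproj
  haveI : IsLocallyNoetherian Y.left := LocallyOfFiniteType.isLocallyNoetherian Y.hom
  have hωYi := isInvertible_of_isCanonical hωY
  obtain ⟨ωY', hωY', hinv⟩ := exists_inverse_of_isInvertible hωYi
  let E : Set X.left := ⋃ i, Set.range (Γ i).ι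
  have hE : IsClosed (f.left '' E) := f.left.isClosedMap _
    (isClosed_iUnion_of_finite fun i => (Γ i).ι.isClosedEmbedding.isClosed_range)
  let V : Y.left.Opens := ⟨(f.left '' E)ᶜ, hE.isOpen_compl⟩
  haveI := hiso V (Set.compl_inter_self _)
  let U : X.left.Opens := f.left ⁻¹ᵁ V
  have hU : (U : Set X.left) = Eᶜ := by
    show f.left ⁻¹' (f.left '' E)ᶜ = _
    rw [Set.preimage_compl, hsat]
  let M : X.left.Modules := CohB1.tensorMod ωX ((Scheme.Modules.pullback f.left).obj ωY')
  have hMi : PicF.IsInvertible M :=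
    AmpleLib.isInvertible_tensor (isInvertible_of_isCanonical hωX) (AmpleLib.isInvertible_pullback f.left hωY')
  have htriv : pullCls U.ι (mk M) = 1 := by
    obtain ⟨e⟩ := nonempty_iso_open U.ι ((f.left ∣_ V) ≫ V.ι) X.hom Y.hom
      (by rw [morphismRestrict_ι, Category.assoc, Over.w f]) hωX hωY
    rw [mk_tensor, map_mul, ← pullCls_mk, BlowPic.pullCls_comp, pullCls_mk U.ι ωX, mk_congr e, ← pullCls_mk,
      ← morphismRestrict_ι, ← map_mul, hinv, map_one]
  obtain ⟨a, b, hab⟩ := exists_eq_prod_off hX Γ hΓ L hL hMi U hU htriv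
  have hpull : ∀ (i : Fin r) (N : Y.left.Modules), PicF.IsInvertible N →
      ArSurf.inter R X ((Scheme.Modules.pullback f.left).obj N) (Γ i) = 0 := fun i N hN => by
    obtain ⟨y, hy⟩ := hpt i
    have h1 := CastLib.GGContract.pullCls_eq_one_of_collapsed f.left hN (Γ i).ι y fun z => hy.le ⟨z, Scheme.Hom.comp_apply _ _ _⟩
    haveI := isProper_vertComp (Γ i)
    obtain ⟨e⟩ := BlowPic.mk_eq_one.1 ((pullCls_mk (Γ i).ι _).symm.trans (by rw [← pullCls_mk f.left]; exact h1))
    rw [ArSurf.inter, curveDeg_iso (k := IsLocalRing.ResidueField R) (dim_vertComp (Γ i)) e, curveDeg_one]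
  have hdeg : ∀ i, ArSurf.inter R X M (Γ i) = 0 := fun i => by
    rw [inter_tensor (Γ i) (isInvertible_of_isCanonical hωX) (AmpleLib.isInvertible_pullback f.left hωY'), hK i,
      hpull i ωY' hωY', add_zero]
  let c : Fin r → ℤ := fun j => (b j : ℤ) - a j
  have hc : c = 0 := by
    by_contra hc
    have h1 := hneg c hc
    have h2 : ∀ i, ∑ j, c j * ArSurf.inter R X (L j) (Γ i) = 0 := fun i => by
      have hLi : ∀ j, PicF.IsInvertible (L j) := fun j => isInvertible_inverse_ideal (hL j)
      obtain ⟨ha, ha'⟩ := inter_multiTwist L hLi a (Γ i)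
      obtain ⟨hb, hb'⟩ := inter_multiTwist L hLi b (Γ i)
      obtain ⟨e⟩ := mk_eq_mk.1 (show mk (CohB1.tensorMod M (FGA.multiTwist L a)) = mk (FGA.multiTwist L b) by
        rw [mk_tensor, mk_multiTwist, mk_multiTwist]; exact hab)
      have h3 := inter_congr (Γ i) e
      rw [inter_tensor (Γ i) hMi ha, ha', hb', hdeg i, zero_add] at h3
      simp only [c, sub_mul, Finset.sum_sub_distrib, h3, sub_self]
    rw [Fintype.sum_prod_type] at h1
    simp only [mul_assoc, ← Finset.mul_sum, h2, mul_zero, Finset.sum_const_zero, lt_self_iff_false] at h1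
  have hab' : a = b := funext fun j => by
    have := congrFun hc j
    simp only [c, Pi.zero_apply] at this
    omega
  subst hab'
  obtain ⟨L', hL', hLL'⟩ : ∃ Q : X.left.Modules, PicF.IsInvertible Q ∧ (∏ i, mk (L i) ^ a i) * mk Q = 1 := by
    obtain ⟨P, hP, hPe⟩ := exists_module_of_pcls (fun i => isInvertible_inverse_ideal (hL i)) a
    obtain ⟨Q, hQ, hQe⟩ := exists_inverse_of_isInvertible hP
    exact ⟨Q, hQ, (congrArg (· * mk Q) hPe).symm.trans hQe⟩
  have hM1 : mk M = 1 := by
    have h := congrArg (· * mk L') hab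
    simp only [mul_assoc, hLL', mul_one] at h
    exact h
  calc pullCls f.left (mk ωY) = mk M * pullCls f.left (mk ωY) := by rw [hM1, one_mul]
    _ = mk ωX * pullCls f.left (mk ωY' * mk ωY) := by rw [mk_tensor, ← pullCls_mk, map_mul, mul_assoc]
    _ = mk ωX := by rw [mul_comm (mk ωY'), hinv, map_one, mul_one]

/-- Powers of the canonical sheaves correspond under a crepant contraction. -/
theorem nonempty_iso_pow_of_contr {Y : Over (Spec (CommRingCat.of R))} {f : X ⟶ Y}
    (hb : RigidLib.BijApp f.left) {A : Y.left.Modules} (hA : PicF.IsInvertible A) {B : X.left.Modules}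
    (h : pullCls f.left (mk A) = mk B) (q : ℕ) :
    Nonempty ((Scheme.Modules.pullback f.left).obj (CohB1.tensorPow A q) ≅ CohB1.tensorPow B q) ∧
      Nonempty ((Scheme.Modules.pushforward f.left).obj (CohB1.tensorPow B q) ≅ CohB1.tensorPow A q) := by
  obtain ⟨e⟩ : Nonempty ((Scheme.Modules.pullback f.left).obj (CohB1.tensorPow A q) ≅ CohB1.tensorPow B q) := by
    refine mk_eq_mk.1 ?_
    rw [← pullCls_mk, IntLib.mk_tensorPow, IntLib.mk_tensorPow, map_pow, h]
  haveI := SeesawVB.isIso_unit f.left hb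
    (CurveLib.isFinLocFree_of_isInvertible (AmpleLib.isInvertible_tensorPow hA q))
  exact ⟨⟨e⟩, ⟨(Scheme.Modules.pushforward f.left).mapIso e.symm ≪≫
    (asIso ((Scheme.Modules.pullbackPushforwardAdjunction f.left).unit.app (CohB1.tensorPow A q))).symm⟩⟩

end Groth.Agent.CanonFac
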