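import Groth.Agent.CanonFacLib.Pic0
import Groth.Agent.CastLib.PicKernel
import Groth.Agent.CastLib.InterSymm

/-!
# Divisors supported on a configuration
-/

set_option autoImplicit false
set_option backward.isDefEq.respectTransparency false
set_option backward.isDefEq.respectTransparency.types false
set_option linter.style.haveILetI false
set_option linter.unusedSectionVars false
set_option maxHeartbeats 1000000

universe u

open CategoryTheory CategoryTheory.Limits AlgebraicGeometry TopologicalSpace IsLocalRing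

noncomputable section

namespace Groth.Agent.CanonFac

variable {R : Type u} [CommRing R] [IsDomain R] [IsDiscreteValuationRing R] {X : Over (Spec (CommRingCat.of R))} {r : ℕ}

/-- An effective Cartier divisor on the configuration is a combination of its curves. -/
theorem exists_eq_divIdeal (hX : ArSurf.IsArithSurface R X) (Γ : Fin r → ArSurf.VertComp R X)
    (hΓ : Function.Injective fun i => Set.range ((Γ i).ι.base : (Γ i).curve.left → X.left))
    {I : X.left.IdealSheafData} (hI : BlowUp.IsEffCartierIdeal I)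
    (hs : (I.support : Set X.left) ⊆ ⋃ i, Set.range (Γ i).ι.base) : ∃ a : Fin r → ℕ, I = divIdeal Γ a := by
  have h := CastLib.VSurf.of_arith hX
  haveI := h.int
  haveI := h.noeth
  let ξ := fun i => Models.genPtOf R X (Γ i)
  have hco : ∀ i, Order.coheight (ξ i) = 1 := fun i => h.coheight_genPtOf (Γ i)
  have hinj : Function.Injective ξ := fun i j e => hΓ (by
    show Set.range (Γ i).ι = Set.range (Γ j).ι
    rw [CastLib.range_vertComp, CastLib.range_vertComp, show Models.genPtOf R X (Γ i) = _ from e])
  have hexp : ∀ i, ∃ m, IntMult.stalkIdeal I (ξ i) = maximalIdeal (X.left.presheaf.stalk (ξ i)) ^ m := fun i => by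
    haveI : IsDiscreteValuationRing (X.left.presheaf.stalk (ξ i)) :=
      CDivLib.isDVR_stalk (fun x => by haveI := h.reg x; exact PurityLib.isIntegrallyClosed_of_regular _) (hco i)
    obtain ⟨ϖ, hϖ⟩ := IsDiscreteValuationRing.exists_irreducible (X.left.presheaf.stalk (ξ i))
    obtain ⟨f, hf, hfI⟩ := DivisorialLib.exists_gen hI (ξ i)
    refine S8909.exists_eq_pow hϖ.maximalIdeal_eq fun hbot => nonZeroDivisors.ne_zero hf ?_
    exact Ideal.span_singleton_eq_bot.1 (hfI.symm.trans hbot)
  choose a ha using hexp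
  refine ⟨a, ?_⟩
  have hker : ∀ i, CastLib.cl (ξ i) = (Γ i).ι.ker := fun i => (CastLib.ker_vertComp (Γ i)).symm
  have hp := CastLib.eq_prod_cl h.reg ξ hco hinj _ a rfl I hI (fun η hη h1 => by
    obtain ⟨i, hi⟩ := Set.mem_iUnion.1 (hs hη)
    refine ⟨i, ?_⟩
    have hsp : ξ i ⤳ η := by
      rw [CastLib.range_vertComp] at hi
      exact specializes_iff_mem_closure.2 hi
    by_contra hne
    have hlt : η < ξ i := lt_of_le_not_ge (Scheme.le_iff_specializes.2 hsp)
      fun hge => hne ((hsp.antisymm (Scheme.le_iff_specializes.1 hge)).eq)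
    have hfin : Order.coheight (ξ i) < Order.coheight η := Order.coheight_strictAnti hlt (by rw [hco]; exact WithTop.coe_lt_top 1)
    rw [h1, hco] at hfin
    exact lt_irrefl _ hfin) ha
  simp only [hker] at hp
  exact hp

/-- Trivial `Pic⁰` on every divisor of the configuration. -/
theorem pic0_supported (hX : ArSurf.IsArithSurface R X) {ω : X.left.Modules} (hω : Canon.IsCanonical X.hom ω)
    (Γ : Fin r → ArSurf.VertComp R X)
    (hΓ : Function.Injective fun i => Set.range ((Γ i).ι.base : (Γ i).curve.left → X.left))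
    {L : Fin r → X.left.Modules} (hL : ∀ j, ClSub.IsInverseOf (L j) (ClSub.idealMod (Γ j).ι.ker))
    (hpa : ∀ a : Fin r → ℕ, a ≠ 0 →
      ∑ i, (a i : ℤ) * (∑ j, (a j : ℤ) * ArSurf.inter R X (L j) (Γ i) + ArSurf.inter R X ω (Γ i)) < 0)
    (Z : Scheme.{u}) (z : Z ⟶ X.left) [IsClosedImmersion z] (hz : BlowUp.IsEffCartierIdeal z.ker)
    (hs : Set.range z.base ⊆ (⋃ i, Set.range (Γ i).ι.base))
    (N : Z.Modules) (hN : PicF.IsInvertible N)
    (h0 : ∀ (i : Fin r) (g : (Γ i).curve.left ⟶ Z), g ≫ z = (Γ i).ι →
      ArSurf.curveDeg (IsLocalRing.ResidueField R) (Γ i).curve.left ((Scheme.Modules.pullback g).obj N) = 0) :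
    Nonempty (N ≅ Coh.structureModule Z) := by
  haveI := (SurfPtBlow.arSurf_facts hX).1
  obtain ⟨a, ha⟩ := exists_eq_divIdeal hX Γ hΓ hz (by
    rw [Scheme.Hom.support_ker, IsClosed.closure_eq z.isClosedEmbedding.isClosed_range]
    exact hs)
  have key : ∀ I : X.left.IdealSheafData, I = divIdeal Γ a → ∀ N : I.subscheme.Modules, PicF.IsInvertible N →
      (∀ (i : Fin r) (g : (Γ i).curve.left ⟶ I.subscheme), g ≫ I.subschemeι = (Γ i).ι →
        ArSurf.curveDeg (IsLocalRing.ResidueField R) (Γ i).curve.left ((Scheme.Modules.pullback g).obj N) = 0) →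
      Nonempty (N ≅ Coh.structureModule I.subscheme) := by
    rintro I rfl
    exact (h1_pic0 hX hω Γ hL a fun a' _ h => hpa a' h).2
  obtain ⟨φ⟩ := key z.ker ha ((Scheme.Modules.pullback (inv z.toImage)).obj N)
    (AmpleLib.isInvertible_pullback _ hN) fun i g hg => by
      haveI := CastLib.isProper_vertComp (Γ i)
      refine (CastLib.curveDeg_iso (k := IsLocalRing.ResidueField R) (CastLib.dim_vertComp (Γ i))
        ((Scheme.Modules.pullbackComp g (inv z.toImage)).app N)).trans (h0 i _ ?_)
      rw [Category.assoc, ← hg]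
      congr 1
      exact (IsIso.inv_comp_eq _).2 (Scheme.Hom.toImage_imageι z).symm
  exact ⟨((Scheme.Modules.pullbackId Z).app N).symm ≪≫
    (Scheme.Modules.pullbackCongr (IsIso.hom_inv_id z.toImage)).symm.app N ≪≫
    ((Scheme.Modules.pullbackComp z.toImage (inv z.toImage)).app N).symm ≪≫
    (Scheme.Modules.pullback z.toImage).mapIso φ ≪≫ AmpleLib.pullO z.toImage⟩

end Groth.Agent.CanonFac
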