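import Groth.Agent.CanonFacLib.CanonAmple
import Groth.Agent.CanonFacLib.Supported
import Groth.Agent.CastLib.ArtinTrivial
import Groth.Agent.CastLib.ContractPic
import Groth.Agent.GGDescLib.Main

/-!
# Descent to a contraction of curves of canonical degree zero
-/

set_option autoImplicit false
set_option backward.isDefEq.respectTransparency false
set_option linter.style.haveILetI false
set_option linter.unusedSectionVars false
set_option maxHeartbeats 1000000
set_option synthInstance.maxHeartbeats 200000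

universe u

open CategoryTheory CategoryTheory.Limits AlgebraicGeometry TopologicalSpace
open Groth.Agent.IntLib (mk pullCls mk_congr mk_tensor mk_eq_mk pullCls_mk)

noncomputable section

namespace Groth.Agent.CanonFac

open Groth.Agent.CastLib

variable {R : Type u} [CommRing R] [IsDomain R] [IsDiscreteValuationRing R] {X Y : Over (Spec (CommRingCat.of R))}

/-- The map on generic fibres is a base change. -/
theorem isPullback_genericFibre_map (f : X ⟶ Y) :
    IsPullback ((Neron.genericFibre R).map f).left (pullback.fst X.hom (Neron.genPt R))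
      (pullback.fst Y.hom (Neron.genPt R)) f.left := by
  refine (IsPullback.of_bot (v₂₁ := pullback.snd Y.hom (Neron.genPt R)) (v₂₂ := Y.hom) (h₃₁ := Neron.genPt R)
    ?_ (SurfPtBlow.genMap_fst f).symm (IsPullback.of_hasPullback Y.hom (Neron.genPt R))).flip
  have h : ((Neron.genericFibre R).map f).left ≫ pullback.snd Y.hom (Neron.genPt R) =
      pullback.snd X.hom (Neron.genPt R) := by simp
  rw [h, Over.w f]
  exact IsPullback.of_hasPullback X.hom (Neron.genPt R)

/-- The generic fibre does not meet the image of vertical curves. -/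
theorem genSet_not_mem_image {r : ℕ} (Γ : Fin r → ArSurf.VertComp R X) (f : X ⟶ Y) {b : Y.left}
    (hb : b ∈ SurfPtBlow.genSet Y) : b ∉ f.left '' ⋃ i, Set.range (Γ i).ι := by
  rintro ⟨a, ha, rfl⟩
  obtain ⟨i, c, rfl⟩ := Set.mem_iUnion.1 ha
  have h : X.hom ((Γ i).ι c) = genericPoint (Spec (CommRingCat.of R)) :=
    (SurfPtBlow.genSet_preimage f _).1 hb
  rw [vertComp_vertical (Γ i) c] at h
  exact IsDiscreteValuationRing.not_a_field R
    ((congrArg PrimeSpectrum.asIdeal h).trans CastLib.asIdeal_genericPoint)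

/-- A contraction of vertical curves is an isomorphism on generic fibres. -/
theorem isIso_generic_of_contr [IsProper X.hom] [IsIntegral X.left] {r : ℕ} {Γ : Fin r → ArSurf.VertComp R X}
    {f : X ⟶ Y} (hf : IsContr Γ f) : IsIso ((Neron.genericFibre R).map f) := by
  obtain ⟨hp, -, -⟩ := hf.facts ‹IsProper X.hom›
  haveI := hp
  obtain ⟨-, -, -, -, -, -, -, hiso⟩ := hf
  let V : Y.left.Opens := ⟨(f.left '' ⋃ i, Set.range (Γ i).ι)ᶜ, (f.left.isClosedMap _
    (isClosed_iUnion_of_finite fun i => (Γ i).ι.isClosedEmbedding.isClosed_range)).isOpen_compl⟩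
  haveI := hiso V (Set.compl_inter_self _)
  let q := pullback.fst Y.hom (Neron.genPt R)
  let lY := IsOpenImmersion.lift V.ι q (by
    rw [Scheme.Opens.range_ι, SurfPtBlow.range_fst]
    exact fun b hb => genSet_not_mem_image Γ f hb)
  have hlY : lY ≫ V.ι = q := IsOpenImmersion.lift_fac _ _ _
  have hU := isPullback_morphismRestrict f.left V
  have hP := isPullback_genericFibre_map f
  let lX := hU.lift (((Neron.genericFibre R).map f).left ≫ lY) (pullback.fst X.hom (Neron.genPt R))
    (by rw [Category.assoc, hlY]; exact hP.w)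
  have hl1 : lX ≫ (f.left ∣_ V) = ((Neron.genericFibre R).map f).left ≫ lY := hU.lift_fst _ _ _
  have hl2 : lX ≫ (f.left ⁻¹ᵁ V).ι = pullback.fst X.hom (Neron.genPt R) := hU.lift_snd _ _ _
  have hpb : IsPullback lX ((Neron.genericFibre R).map f).left (f.left ∣_ V) lY := by
    refine IsPullback.of_right (h₁₂ := (f.left ⁻¹ᵁ V).ι) (h₂₂ := V.ι) (v₁₃ := f.left) ?_ hl1 hU.flip
    rw [hl2, hlY]
    exact hP.flip
  haveI : IsIso ((Neron.genericFibre R).map f).left := hpb.isIso_snd_of_isIso
  haveI : IsIso ((Over.forget _).map ((Neron.genericFibre R).map f)) := this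
  exact isIso_of_reflects_iso ((Neron.genericFibre R).map f) (Over.forget _)

/-- Invertible modules of degree zero on the contracted curves descend. -/
theorem exists_descend_of_contr (hX : ArSurf.IsArithSurface R X) {r : ℕ} {Γ : Fin r → ArSurf.VertComp R X}
    (hΓ : Function.Injective fun i => Set.range ((Γ i).ι.base : (Γ i).curve.left → X.left))
    {L : Fin r → X.left.Modules} (hL : ∀ j, ClSub.IsInverseOf (L j) (ClSub.idealMod (Γ j).ι.ker))
    (hneg : ∀ c : Fin r → ℤ, c ≠ 0 →
      (Finset.univ : Finset (Fin r × Fin r)).sum (fun p => c p.1 * c p.2 * ArSurf.inter R X (L p.2) (Γ p.1)) < 0)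
    {ω : X.left.Modules} (hω : Canon.IsCanonical X.hom ω) (hK : ∀ i, ArSurf.inter R X ω (Γ i) = 0)
    {f : X ⟶ Y} (hf : IsContr Γ f)
    {M : X.left.Modules} (hM : PicF.IsInvertible M) (hM0 : ∀ i, ArSurf.inter R X M (Γ i) = 0) :
    ∃ A : Y.left.Modules, PicF.IsInvertible A ∧ Nonempty ((Scheme.Modules.pullback f.left).obj A ≅ M) := by
  haveI := hX.2.1
  haveI : IsProper X.hom := (SurfPtBlow.arSurf_facts hX).1
  obtain ⟨W, hEW, ⟨eW⟩⟩ := ArtinContract.exists_trivializing_open hX Γ hΓ L hL hneg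
    (fun Z z _ hz _ hs N hN h0 => pic0_supported hX hω Γ hΓ hL (fun a ha => by
      refine lt_of_eq_of_lt ?_ (hneg (fun i => (a i : ℤ)) fun h => ha (funext fun i => by simpa using congrFun h i))
      rw [Fintype.sum_prod_type]
      exact Finset.sum_congr rfl fun i _ => by
        rw [hK i, add_zero, Finset.mul_sum]
        exact Finset.sum_congr rfl fun j _ => by ring) Z z hz hs N hN h0) M hM hM0
  obtain ⟨hp, hs, hb⟩ := hf.facts ‹IsProper X.hom›
  haveI := hp
  obtain ⟨-, -, -, -, -, -, hsat, hiso⟩ := hf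
  refine ContractPic.exists_descend f.left hb M fun y => ?_
  obtain ⟨U, hyU, ⟨eU⟩⟩ : ∃ U : X.left.Opens, (∀ a, f.left a = y → a ∈ U) ∧
      Nonempty (M.restrict U.ι ≅ Coh.structureModule (U : Scheme.{u})) := by
    by_cases hy : y ∈ f.left '' ⋃ i, Set.range (Γ i).ι
    · refine ⟨W, fun a ha => ?_, ⟨eW⟩⟩
      have ha' : a ∈ f.left.base ⁻¹' (f.left.base '' ⋃ i, Set.range (Γ i).ι.base) := show f.left a ∈ _ by
        rw [ha]; exact hy
      rw [hsat] at ha'
      obtain ⟨i, hi⟩ := Set.mem_iUnion.1 ha'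
      exact hEW i hi
    · obtain ⟨ξ, hξ⟩ := hs.surj y
      let V : Y.left.Opens := ⟨(f.left '' ⋃ i, Set.range (Γ i).ι)ᶜ, (f.left.isClosedMap _
        (isClosed_iUnion_of_finite fun i => (Γ i).ι.isClosedEmbedding.isClosed_range)).isOpen_compl⟩
      haveI := hiso V (Set.compl_inter_self _)
      obtain ⟨U, hξU, hU⟩ := hM ξ
      refine ⟨U, fun a ha => ?_, hU⟩
      have ha' : a ∈ f.left ⁻¹ᵁ V := show f.left a ∈ V by rw [ha]; exact hy
      have hξ' : ξ ∈ f.left ⁻¹ᵁ V := show f.left ξ ∈ V by rw [hξ]; exact hy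
      have h1 : (⟨a, ha'⟩ : (f.left ⁻¹ᵁ V).toScheme) = ⟨ξ, hξ'⟩ := (f.left ∣_ V).isOpenEmbedding.injective (by
        apply Subtype.ext
        show V.ι ((f.left ∣_ V) _) = V.ι ((f.left ∣_ V) _)
        rw [← Scheme.Hom.comp_apply, morphismRestrict_ι, ← Scheme.Hom.comp_apply, morphismRestrict_ι]
        exact ha.trans hξ.symm)
      have h2 : a = ξ := congrArg Subtype.val h1
      rw [h2]
      exact hξU
  obtain ⟨s, hs⟩ := ParaFLib.exists_gen_of_iso eU
  have hcl : IsClosed (f.left '' (U : Set X.left)ᶜ) := f.left.isClosedMap _ U.2.isClosed_compl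
  refine ⟨⟨(f.left '' (U : Set X.left)ᶜ)ᶜ, hcl.isOpen_compl⟩, fun ⟨a, ha, hay⟩ => ha (hyU a hay), ?_⟩
  have hle : f.left ⁻¹ᵁ ⟨(f.left '' (U : Set X.left)ᶜ)ᶜ, hcl.isOpen_compl⟩ ≤ U.ι ''ᵁ ⊤ := fun a ha => by
    rw [U.ι_image_top]
    by_contra h
    exact ha ⟨a, h, rfl⟩
  exact ⟨_, hs.res hle⟩

/-- The canonical sheaf of a model of genus at least two is semi-ample. -/
theorem exists_gg_canonical_pow (hX : ArSurf.IsArithSurface R X) {r : ℕ} {Γ : Fin r → ArSurf.VertComp R X}
    (hΓ : Function.Injective fun i => Set.range ((Γ i).ι.base : (Γ i).curve.left → X.left))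
    {L : Fin r → X.left.Modules} (hL : ∀ j, ClSub.IsInverseOf (L j) (ClSub.idealMod (Γ j).ι.ker))
    {ω : X.left.Modules} (hω : Canon.IsCanonical X.hom ω)
    (hnef : ∀ C : ArSurf.VertComp R X, 0 ≤ ArSurf.inter R X ω C)
    (hK : ∀ i, ArSurf.inter R X ω (Γ i) = 0)
    (hall : ∀ C : ArSurf.VertComp R X, ArSurf.inter R X ω C = 0 →
      ∃ i, Set.range (C.ι.base : C.curve.left → X.left) = Set.range ((Γ i).ι.base : (Γ i).curve.left → X.left))
    (hneg : ∀ c : Fin r → ℤ, c ≠ 0 →
      (Finset.univ : Finset (Fin r × Fin r)).sum (fun p => c p.1 * c p.2 * ArSurf.inter R X (L p.2) (Γ p.1)) < 0)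
    {f : X ⟶ Y} (hf : IsContr Γ f) :
    ∃ m : ℕ, 1 ≤ m ∧ Curv2.IsGloballyGenerated (CohB1.tensorPow ω m) := by
  haveI := hX.2.1
  haveI := hX.2.2.2.1
  haveI : IsProper X.hom := (SurfPtBlow.arSurf_facts hX).1
  obtain ⟨A, hA, ⟨eA⟩⟩ := exists_descend_of_contr hX hΓ hL hneg hω hK hf (isInvertible_of_isCanonical hω) hK
  haveI : IsIso ((Neron.genericFibre R).map f) := isIso_generic_of_contr hf
  haveI : IsIso ((Neron.genericFibre R).map f).left := inferInstance
  have hdG : topologicalKrullDim ((Neron.genericFibre R).obj Y).left = 1 :=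
    (IsHomeomorph.topologicalKrullDim_eq _
      ((Neron.genericFibre R).map f).left.homeomorph.isHomeomorph).symm.trans
      (euler_generic_canonical hX.2.2.2.2 hX.2.2.1 hω).1
  have hamp : CohB1.IsAmple A := isAmple_of_contr hX hf hA hdG fun C hC => by
    rw [CastLib.inter_congr C eA]
    refine lt_of_le_of_ne (hnef C) fun h0 => ?_
    obtain ⟨i, hi⟩ := hall C h0.symm
    exact hC i hi
  obtain ⟨-, -, hb⟩ := hf.facts ‹IsProper X.hom›
  obtain ⟨-, -, -, -, hproj, -⟩ := hf
  haveI := CastLib.isProper_of_projective hproj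
  haveI : CompactSpace Y.left := QuasiCompact.compactSpace_of_compactSpace Y.hom
  obtain ⟨d, hd, k₀, hk⟩ := AmpleLib.exists_twist_globallyGenerated hamp (Coh.structureModule Y.left)
    (fun W _ => inferInstanceAs (Module.Finite Γ(Y.left, W) Γ(Y.left, W)))
  obtain ⟨e⟩ : Nonempty (CohB1.tensorMod (Coh.structureModule Y.left) (CohB1.tensorPow A (d * (k₀ + 1))) ≅
      CohB1.tensorPow A (d * (k₀ + 1))) := mk_eq_mk.1 (by
    rw [mk_tensor, IntLib.mk_structureModule, one_mul])
  have hgY := AmpleLib.isGloballyGenerated_of_iso e (hk _ (Nat.le_succ k₀))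
  haveI : Coh.IsQCoh (CohB1.tensorPow A (d * (k₀ + 1))) :=
    InvExt.isQCoh_of_isInvertible (AmpleLib.isInvertible_tensorPow hA _)
  obtain ⟨e'⟩ := (nonempty_iso_pow_of_contr hb hA ((pullCls_mk f.left A).trans (mk_congr eA))
    (d * (k₀ + 1))).1
  exact ⟨_, Nat.mul_pos hd (Nat.succ_pos k₀), AmpleLib.isGloballyGenerated_of_iso e'
    (GGDescLib.isGloballyGenerated_pullback f.left _ hgY)⟩

end Groth.Agent.CanonFac
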