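import Groth.Agent.CanonFacLib.Conormal
import Groth.Agent.CanonFacLib.Codim
import Groth.Agent.S8905
import Groth.Agent.KVbLib.Lam

/-!
# Regular immersions of codimension one and composites
-/

set_option autoImplicit false
set_option backward.isDefEq.respectTransparency false
set_option linter.style.haveILetI false
set_option linter.unusedSectionVars false
set_option maxHeartbeats 1000000

universe u

open CategoryTheory CategoryTheory.Limits AlgebraicGeometry TopologicalSpace Opposite
open Groth.Agent.PullbackMod Groth.Agent.DCohLib Groth.Agent.ParaFLib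
open Groth.Agent.IntLib (mk pullCls mk_congr mk_tensor mk_eq_mk)

noncomputable section

namespace Groth.Agent.CanonFac

variable {X Y Z : Scheme.{u}}

theorem isRegularImmersion_of_codim {i : Z ⟶ X} {c : ℕ}
    (hi : RegImm.IsRegularImmersionOfCodim RegImm.Kind.regular c i) :
    RegImm.IsRegularImmersion RegImm.Kind.regular i :=
  ⟨hi.1, fun z => by
    obtain ⟨U, hz, hc, rs, -, hrs, hk⟩ := hi.2 z
    exact ⟨U, hz, hc, rs, hrs, hk⟩⟩

/-- An effective Cartier divisor is a regular immersion of codimension one. -/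
theorem codim_one_of_cartier (i : Z ⟶ X) [IsClosedImmersion i] (h : BlowUp.IsEffCartierIdeal i.ker) :
    RegImm.IsRegularImmersionOfCodim RegImm.Kind.regular 1 i := by
  refine ⟨inferInstance, fun z => ?_⟩
  obtain ⟨U, hzU, f, hf, hI⟩ := h (i z)
  have hk : RingHom.ker (i.app U.1).hom = Ideal.ofList [f] := by
    rw [← Scheme.Hom.ker_apply, hI, Ideal.ofList_singleton]
  refine ⟨U, hzU, IsZariskiLocalAtTarget.restrict (P := @IsClosedImmersion) inferInstance U.1, [f], rfl, ⟨?_, ?_⟩, hk⟩
  · rw [RingTheory.Sequence.isWeaklyRegular_singleton_iff]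
    exact (isSMulRegular_iff_right_eq_zero_of_smul).2 fun x hx =>
      (mem_nonZeroDivisors_iff.1 hf).1 x hx
  · rw [smul_eq_mul, Ideal.mul_top, ← hk]
    haveI : Nontrivial Γ(Z, i ⁻¹ᵁ U.1) :=
      haveI : Nonempty (i ⁻¹ᵁ U.1 : Z.Opens) := ⟨⟨z, hzU⟩⟩
      inferInstance
    exact (RingHom.ker_ne_top _).symm

/-- On an irreducible regular scheme the codimension of a regular immersion is constant. -/
theorem exists_codim_irreducible [IrreducibleSpace Z] [IsLocallyNoetherian X] [IsLocallyNoetherian Z] (i : Z ⟶ X)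
    (hi : RegImm.IsRegularImmersion RegImm.Kind.regular i) :
    ∃ c : ℕ, RegImm.IsRegularImmersionOfCodim RegImm.Kind.regular c i := by
  let η := genericPoint Z
  haveI := hi.1
  have key : ∀ (z : Z) (U : X.affineOpens), i z ∈ U.1 → IsClosedImmersion (i ∣_ U.1) →
      ∀ rs : List Γ(X, U.1), RingTheory.Sequence.IsRegular Γ(X, U.1) rs →
        RingHom.ker (i.app U.1).hom = Ideal.ofList rs →
        ringKrullDim (Z.presheaf.stalk η) + rs.length = ringKrullDim (X.presheaf.stalk (i η)) := by
    intro z U hz hc rs hrs hk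
    have hη : i η ∈ U.1 := ((genericPoint_specializes z).map i.continuous).mem_open U.1.2 hz
    let A := X.presheaf.stalk (i η)
    letI : Algebra Γ(X, U.1) A := TopCat.Presheaf.algebra_section_stalk X.presheaf ⟨i η, hη⟩
    haveI := U.2.isLocalization_stalk ⟨i η, hη⟩
    haveI : Module.Flat Γ(X, U.1) A := IsLocalization.flat _ (U.2.primeIdealOf ⟨i η, hη⟩).asIdeal.primeCompl
    have hker : RingHom.ker (i.stalkMap η).hom = Ideal.ofList (rs.map (algebraMap Γ(X, U.1) A)) := by
      rw [RegIdealLib.ker_stalkMap i U.2 hc η hη, hk, Ideal.map_ofList]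
      rfl
    have hts' : RingTheory.Sequence.IsRegular A (rs.map (algebraMap Γ(X, U.1) A)) := by
      refine ⟨RingTheory.Sequence.IsWeaklyRegular.of_flat (S := A) hrs.toIsWeaklyRegular, ?_⟩
      intro htop
      rw [← hker, smul_eq_mul, Ideal.mul_top] at htop
      exact RingHom.ker_ne_top (i.stalkMap η).hom htop.symm
    have h := ringKrullDim_add_length_eq_ringKrullDim_of_isRegular _ hts'
    rw [List.length_map, ← hker,
      ringKrullDim_eq_of_ringEquiv (RingHom.quotientKerEquivOfSurjective (i.stalkMap_surjective η))] at h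
    exact h
  obtain ⟨U₀, h₀, hc₀, rs₀, hrs₀, hk₀⟩ := hi.2 η
  refine ⟨rs₀.length, hi.1, fun z => ?_⟩
  obtain ⟨U, hz, hc, rs, hrs, hk⟩ := hi.2 z
  exact ⟨U, hz, hc, rs, eq_of_add_natCast_eq ringKrullDim_ne_bot ringKrullDim_ne_top
    (key z U hz hc rs hrs hk) (key η U₀ h₀ hc₀ rs₀ hrs₀ hk₀), hrs, hk⟩

/-- Top exterior powers of the conormal sheaf of a composite of regular closed immersions. -/
theorem mk_det_comp (i : Y ⟶ X) [IsClosedImmersion i] (j : Z ⟶ Y) [IsClosedImmersion j] {a c : ℕ}
    (hi : RegImm.IsRegularImmersionOfCodim RegImm.Kind.regular a i)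
    (hj : RegImm.IsRegularImmersionOfCodim RegImm.Kind.regular c j)
    {DI : Y.Modules} (hDI : ExtPow.IsExtPow a (Omega.conormal i) DI)
    {DJ : Z.Modules} (hDJ : ExtPow.IsExtPow c (Omega.conormal j) DJ)
    {DK : Z.Modules} (hDK : ExtPow.IsExtPow (a + c) (Omega.conormal (j ≫ i)) DK) :
    mk DK = pullCls j (mk DI) * mk DJ := by
  have hj1 : RegImm.IsRegularImmersion RegImm.Kind.h1 j :=
    (Groth.Agent.S8905.result j).2.1 ((Groth.Agent.S8905.result j).1 (isRegularImmersion_of_codim hj))
  obtain ⟨φ₁, hφ₁, -⟩ := ConormalLib.existsUnique_conormalMap (j ≫ i) i (𝟙 X) j (Category.comp_id _).symm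
  obtain ⟨φ₂, hφ₂, -⟩ := ConormalLib.existsUnique_conormalMap j (j ≫ i) i (𝟙 Z) (Category.id_comp _)
  obtain ⟨w, hS, -⟩ := ConormalLib.transitivity_of_h1 hφ₁ hφ₂ hj1
  have hI := hasFrames_conormal i hi
  haveI := (isQCoh_and_isFP_of_isFinLocFree _ hI.1).1
  exact mk_det (hS w) (hI.pullback j) (hasFrames_conormal j hj)
    (A := (Scheme.Modules.pullback j).obj DI) (C := DJ) (KVb.isExtPow_pullback j hDI) hDK hDJ

end Groth.Agent.CanonFac
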