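import Groth.Agent.CanonFacLib.Model
import Groth.Agent.TwistShriek.SurfRR
import Groth.Agent.CILib.Regular
import Groth.Agent.CMCat.Polynomial

/-!
# Duality on a curve with a canonical sheaf through projective space
-/

set_option autoImplicit false
set_option backward.isDefEq.respectTransparency false
set_option linter.style.haveILetI false
set_option linter.unusedSectionVars false
set_option maxHeartbeats 1000000

universe u

open CategoryTheory CategoryTheory.Limits AlgebraicGeometry TopologicalSpace Opposite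
open Groth.Agent.PullbackMod Groth.Agent.DCohLib Groth.Agent.ParaFLib
open Groth.Agent.IntLib (mk pullCls mk_congr mk_tensor mk_eq_mk pullCls_mk)

noncomputable section

namespace Groth.Agent.CanonFac

variable {k : Type u} [Field k] {N : ℕ} {Z : Scheme.{u}} [Z.Over (Spec (CommRingCat.of k))]

/-- A scheme with one-dimensional stalks at closed points has one-dimensional components. -/
theorem dim_component_one [CompactSpace Z] (hdim : ∀ x : Z, IsClosed ({x} : Set Z) → ringKrullDim (Z.presheaf.stalk x) = 1)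
    (hle : topologicalKrullDim Z ≤ 1) (C : Set Z) (hC : C ∈ irreducibleComponents Z) :
    topologicalKrullDim C = 1 := by
  refine le_antisymm (Topology.IsInducing.subtypeVal.topologicalKrullDim_le.trans hle) ?_
  by_contra hlt
  rw [not_le] at hlt
  obtain ⟨g, hg⟩ := QuasiSober.sober hC.1 (isClosed_of_mem_irreducibleComponents C hC)
  obtain ⟨x, hxC, hx⟩ := IsClosed.exists_closed_singleton (isClosed_of_mem_irreducibleComponents C hC) hC.1.nonempty
  have hgx : g ⤳ x := hg.specializes hxC
  by_cases h : g = x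
  · subst h
    have h0 : ringKrullDim (Z.presheaf.stalk g) = 0 := by
      rw [ringKrullDim_stalk_eq_coheight]
      have : Order.coheight g = 0 := by
        rw [Order.coheight_eq_zero]
        intro y hy
        have hyC : closure ({y} : Set Z) ∈ irreducibleComponents Z → True := fun _ => trivial
        have h1 : C ⊆ closure ({y} : Set Z) := by
          rw [← hg.def]
          exact closure_minimal (Set.singleton_subset_iff.2 (specializes_iff_mem_closure.1 hy)) isClosed_closure
        have h2 := hC.2 (isIrreducible_singleton.closure) h1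
        exact (specializes_iff_mem_closure.2 (hg.def ▸ h2 (subset_closure rfl)) : g ⤳ y)
      rw [this]
      rfl
    rw [hdim g hx] at h0
    exact one_ne_zero h0
  · obtain ⟨hgC⟩ : Nonempty (g ∈ C) := ⟨hg.mem⟩
    have h1 : (1 : WithBot ℕ∞) ≤ topologicalKrullDim C := by
      let P : IrreducibleCloseds C := ⟨closure {⟨x, hxC⟩}, isIrreducible_singleton.closure, isClosed_closure⟩
      let Q : IrreducibleCloseds C := ⟨closure {⟨g, hgC⟩}, isIrreducible_singleton.closure, isClosed_closure⟩
      have hle' : P ≤ Q := closure_minimal (Set.singleton_subset_iff.2 (specializes_iff_mem_closure.1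
        ((subtype_specializes_iff _ _).2 hgx))) isClosed_closure
      have hlt' : P < Q := lt_of_le_not_ge hle' fun hh => h (by
        have h3 : (⟨x, hxC⟩ : C) ⤳ ⟨g, hgC⟩ := specializes_iff_mem_closure.2 (hh (subset_closure rfl))
        exact hgx.antisymm ((subtype_specializes_iff _ _).1 h3) |>.eq)
      have h3 := Order.LTSeries.length_le_krullDim
        (⟨1, ![P, Q], fun i => by fin_cases i; exact hlt'⟩ : LTSeries (IrreducibleCloseds C))
      exact_mod_cast h3
    exact absurd h1 (not_le.2 hlt)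

/-- Serre duality on a curve, in dimensions. -/
theorem finrank_dual (e : Z ⟶ CohB1.ProjSpace N k) [IsClosedImmersion e]
    (he : e ≫ CohB1.ProjSpace.toSpec N k = Z ↘ Spec (CommRingCat.of k)) (hN : 1 ≤ N)
    (hdim : ∀ x : Z, IsClosed ({x} : Set Z) → ringKrullDim (Z.presheaf.stalk x) = 1)
    (hle : topologicalKrullDim Z ≤ 1)
    (hec : RegImm.IsRegularImmersionOfCodim RegImm.Kind.regular (N - 1) e)
    {ω : Z.Modules} (hω : Canon.IsCanonicalVia e (CohB1.ProjSpace.toSpec N k) (N - 1) N ω) :
    PicF.IsInvertible ω ∧ ∀ L L' : Z.Modules, PicF.IsInvertible L →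
      Nonempty (CohB1.tensorMod L L' ≅ Coh.structureModule Z) → ∀ j, j ≤ 1 →
        Module.finrank k (Coh.HH Z (CohB1.tensorMod ω L') j) = Module.finrank k (Coh.HH Z L (1 - j)) := by
  haveI := ProjSerreLib.isProper_over e he
  haveI := EulerIneqLib.isNoetherian_proper (X := Z) k
  haveI := CMRegLib.isNoetherian_projSpace (k := k) (n := N)
  obtain ⟨C, DΩ, hC, hDΩ, ⟨eω⟩⟩ := hω
  haveI : DCoh.HasSheafHom C := DefExtLib.hasSheafHom C
  haveI : ModSite.HasSheafHom (O := Z.sheaf) C := ModTensor.hasSheafHom (O := Z.sheaf) C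
  have hN1 : N - (N - 1) = 1 := by omega
  obtain ⟨t, ht⟩ := Groth.Agent.FundLocIsoLib.exists_trace_lci e he (Nat.sub_le N 1)
    (fun S hS => by rw [hN1]; exact dim_component_one hdim hle S hS)
    (fun x => by
      obtain ⟨U, hU, -, rs, hlen, -, hk⟩ := hec.2 x
      refine ⟨U, hU, fun i => rs.get (Fin.cast hlen.symm i), ?_⟩
      rw [Scheme.Hom.ker_apply, hk]
      show Ideal.span {a | a ∈ rs} = _
      rw [← Set.range_list_get]
      congr 1
      ext a
      constructor
      · rintro ⟨i, rfl⟩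
        exact ⟨Fin.cast hlen i, congrArg rs.get (Fin.ext rfl)⟩
      · rintro ⟨i, rfl⟩
        exact ⟨_, rfl⟩) hC
  have hCi : PicF.IsInvertible C := (hasFrames_conormal e hec).isInvertible hC
  obtain ⟨D, hD, ⟨eD⟩⟩ := AmpleEmb.exists_isInverseOf hCi
  obtain ⟨b⟩ := FundLocIsoLib.nonempty_hF_invertible hCi eD (Coh.structureModule Z)
  obtain ⟨ψ⟩ := ProjSerreLib.nonempty_sheafHom_iso C (Coh.structureModule Z)
  obtain ⟨eT⟩ := FundLocIsoLib.nonempty_topForms_iso_twist (n := N) (k := k) hDΩ
  set W := CohB1.tensorMod ((Scheme.Modules.pullback e).obj (Twist.twistProjSpace N k (-((N : ℤ) + 1))))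
    ((DCoh.sheafHom C).obj (Coh.structureModule Z)) with hW
  have hsh : mk ((DCoh.sheafHom C).obj (Coh.structureModule Z)) = mk D := by
    rw [mk_congr (ψ.symm ≪≫ b ≪≫ CurveLib.tmodComm _ _ ≪≫ DCohLib.tensorStructureIso D)]
  have hG : pullCls e (mk DΩ) = mk ((Scheme.Modules.pullback e).obj (Twist.twistProjSpace N k (-((N : ℤ) + 1)))) := by
    rw [mk_congr eT]
    rfl
  have hu : mk C * mk D = 1 := (mk_tensor _ _).symm.trans ((mk_congr eD).trans IntLib.mk_structureModule)
  have hωW : mk ω = mk W := by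
    rw [hW, mk_tensor, hsh, ← hG, show pullCls e (mk DΩ) = mk ω * mk C from (mk_congr eω).symm, mul_assoc, hu, mul_one]
  obtain ⟨eW⟩ := mk_eq_mk.1 hωW
  have hDΩi : PicF.IsInvertible DΩ := (hasFrames_omega (CohB1.ProjSpace.toSpec N k) N).isInvertible hDΩ
  have hωi : PicF.IsInvertible ω := by
    obtain ⟨e2⟩ := mk_eq_mk.1 (show mk (CohB1.tensorMod ((Scheme.Modules.pullback e).obj DΩ) D) = mk ω by
      rw [mk_tensor, mk_congr eω.symm, mk_tensor, mul_assoc, hu, mul_one])
    exact isInvertible_of_iso e2 (AmpleLib.isInvertible_tensor (AmpleLib.isInvertible_pullback e hDΩi) hD)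
  have hWc : Coh.IsCoh W := CurveLib.isCoh_of_isFinLocFree
    (CurveLib.isFinLocFree_of_isInvertible (isInvertible_of_iso eW hωi))
  have hCM : ∀ x : Z, IsClosed ({x} : Set ↥Z) →
      LocCoh.IsCohenMacaulayLocalRing (Z.presheaf.stalk x) ∧ ringKrullDim (Z.presheaf.stalk x) = (1 : ℕ) := fun x hx => by
    refine ⟨?_, by rw [hdim x hx, Nat.cast_one]⟩
    obtain ⟨⟨rs, hrs, hk⟩, hd⟩ := dim_eq_of_regularImmersion e hec x
    haveI := ProjSerreLib.regular_stalk (k := k) (n := N) (e x)
    haveI : LocCoh.IsCohenMacaulayLocalRing ((CohB1.ProjSpace N k).presheaf.stalk (e x)) :=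
      Groth.Agent.S10881.cm_of_regular _
    have hq := (CILib.isRegular_of_ringKrullDim_quotient_add_le rs (fun a ha =>
      IsLocalRing.le_maximalIdeal (RingHom.ker_ne_top (e.stalkMap x).hom) (hk ▸ Ideal.subset_span ha)) (by
      rw [← hk, ringKrullDim_eq_of_ringEquiv (RingHom.quotientKerEquivOfSurjective (e.stalkMap_surjective x)), hrs,
        hd inferInstance])).2
    rw [← hk] at hq
    haveI := hq
    exact Groth.Agent.CMCat.isCohenMacaulayLocalRing_of_ringEquiv (RingHom.quotientKerEquivOfSurjective (e.stalkMap_surjective x))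
  have key : ∀ (m : ℕ), m = 1 → (∃ t : Coh.HH Z W m →ₗ[k] k, ∀ F : Z.Modules, Coh.IsCoh F →
      ∀ ψ : Coh.HH Z F m →ₗ[k] k, ∃! φ : F ⟶ W, ∀ x : Coh.HH Z F m,
        ψ x = t (Sheaf.H.map ((SheafOfModules.toSheaf Z.ringCatSheaf).map φ) m x)) →
      ∃ t : Coh.HH Z W 1 →ₗ[k] k, ∀ F : Z.Modules, Coh.IsCoh F → ∀ ψ : Coh.HH Z F 1 →ₗ[k] k,
        ∃! φ : F ⟶ W, ∀ x : Coh.HH Z F 1, ψ x = t (Sheaf.H.map ((SheafOfModules.toSheaf Z.ringCatSheaf).map φ) 1 x) := by
    rintro m rfl h
    exact h
  have hT := key (N - (N - 1)) hN1 ⟨_, ht⟩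
  obtain ⟨t', ht'⟩ := hT
  refine ⟨hωi, fun L L' hL he' j hj => ?_⟩
  haveI : ModSite.HasSheafHom (O := Z.sheaf) L := ModTensor.hasSheafHom (O := Z.sheaf) L
  obtain ⟨f⟩ := FundLocIsoLib.nonempty_hF_invertible hL he'.some W
  rw [← ProjSerreLib.finrank_hF_gen e hWc (ProjSerreLib.vanish_of_cm e hCM) t' hle ht' j hj L
    (CurveLib.isFinLocFree_of_isInvertible hL)]
  exact ((LinearEquiv.ofBijective _ (CurveLib.hMap_bijective_iso (k := k)
    (f ≪≫ AmpleLib.tIso eW.symm (Iso.refl L')) j)).finrank_eq).symm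

end Groth.Agent.CanonFac
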