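import Groth.Agent.CanonFacLib.Nef
import Groth.Agent.GenIrredLib.Near
import Groth.Agent.S7602
import Groth.Agent.S14401
import Groth.Agent.RegParaLib.Strict
import Groth.Agent.CastLib.DedekindExt
import Groth.Agent.TwistShriek.PointExc
import Groth.Agent.CastLib.GGContract
import Groth.Agent.CastLib.StrictPoint

/-!
# Only finitely many fibres contain exceptional curves
-/

set_option autoImplicit false
set_option backward.isDefEq.respectTransparency false
set_option linter.style.haveILetI false
set_option linter.unusedSectionVars false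
set_option maxHeartbeats 1000000
set_option synthInstance.maxHeartbeats 200000

universe u

open CategoryTheory CategoryTheory.Limits AlgebraicGeometry TopologicalSpace
open Groth.Agent.IntLib (mk pullCls mk_congr mk_tensor mk_eq_mk pullCls_mk)

noncomputable section

namespace Groth.Agent.CanonFac

/-- The connected component of an irreducible component. -/
def compMap (T : Type*) [TopologicalSpace T] (Z : irreducibleComponents T) : ConnectedComponents T :=
  ConnectedComponents.mk Z.2.1.nonempty.some

theorem compMap_eq {T : Type*} [TopologicalSpace T] (Z : irreducibleComponents T) {x : T} (hx : x ∈ Z.1) :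
    compMap T Z = ConnectedComponents.mk x :=
  ConnectedComponents.coe_eq_coe'.2 (Z.2.1.isConnected.subset_connectedComponent hx Z.2.1.nonempty.some_mem)

theorem surjective_compMap (T : Type*) [TopologicalSpace T] : Function.Surjective (compMap T) := fun c => by
  obtain ⟨x, rfl⟩ := ConnectedComponents.surjective_coe c
  exact ⟨⟨_, irreducibleComponent_mem_irreducibleComponents x⟩, compMap_eq _ mem_irreducibleComponent⟩

theorem counts_eq_of_isOpen {T : Type*} [TopologicalSpace T] (h : ∀ Z ∈ irreducibleComponents T, IsOpen Z)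
    (hu : ∀ x : T, ∃! Z, Z ∈ irreducibleComponents T ∧ x ∈ Z) :
    (irreducibleComponents T).encard = ENat.card (_root_.ConnectedComponents T) := by
  refine ENat.card_congr (Equiv.ofBijective _ ⟨fun Z Z' he => ?_, surjective_compMap T⟩)
  let x := Z'.2.1.nonempty.some
  have hmk : ConnectedComponents.mk Z.2.1.nonempty.some = ConnectedComponents.mk x := he
  have hcl : IsClopen Z.1 := ⟨isClosed_of_mem_irreducibleComponents _ Z.2, h _ Z.2⟩
  have hx : x ∈ Z.1 := hcl.connectedComponent_subset Z.2.1.nonempty.some_mem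
    (ConnectedComponents.coe_eq_coe'.1 hmk.symm)
  exact Subtype.ext ((hu x).unique ⟨Z.2, hx⟩ ⟨Z'.2, Z'.2.1.nonempty.some_mem⟩)

/-- Irreducible components as numerous as connected components are disjoint. -/
theorem component_unique {T : Type*} [TopologicalSpace T] [NoetherianSpace T]
    (h : (irreducibleComponents T).encard = ENat.card (_root_.ConnectedComponents T)) {Z Z' : Set T}
    (hZ : Z ∈ irreducibleComponents T) (hZ' : Z' ∈ irreducibleComponents T) {x : T} (hx : x ∈ Z) (hx' : x ∈ Z') :
    Z = Z' := by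
  haveI : Finite (irreducibleComponents T) := (NoetherianSpace.finite_irreducibleComponents (α := T)).to_subtype
  haveI : Finite (ConnectedComponents T) := Finite.of_surjective _ (surjective_compMap T)
  have hc : Nat.card (irreducibleComponents T) = Nat.card (ConnectedComponents T) := by
    have h' : ENat.card (irreducibleComponents T) = ENat.card (_root_.ConnectedComponents T) := h
    exact congrArg ENat.toNat h'
  exact congrArg Subtype.val (((Nat.bijective_iff_surjective_and_card _).2 ⟨surjective_compMap T, hc⟩).1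
    (a₁ := ⟨Z, hZ⟩) (a₂ := ⟨Z', hZ'⟩) ((compMap_eq _ hx).trans (compMap_eq _ hx').symm))

variable {R : Type u} [CommRing R] [IsDedekindDomain R] {X : Over (Spec (CommRingCat.of R))}

/-- The points of the spectrum containing a nonzero element are finite. -/
theorem finite_zeroLocus {t : R} (ht : t ≠ 0) :
    {s : PrimeSpectrum R | t ∈ s.asIdeal}.Finite := by
  refine ((Ideal.span {t}).finite_minimalPrimes_of_isNoetherianRing R).preimage
    (f := PrimeSpectrum.asIdeal) (Set.injOn_of_injective fun _ _ h => PrimeSpectrum.ext h) |>.subset fun s hs => ?_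
  refine ⟨⟨s.2, (Ideal.span_singleton_le_iff_mem _).2 hs⟩, fun q hq hqs => ?_⟩
  haveI := hq.1
  haveI : q.IsMaximal := hq.1.isMaximal fun h0 => ht (by
    simpa [h0, Ideal.span_singleton_eq_bot] using hq.2)
  exact (Ideal.IsMaximal.eq_of_le ‹_› s.2.ne_top hqs).ge

/-- Near the generic point the components of the fibres are disjoint. -/
theorem exists_open_fibre_unique (hX : ArSurf.IsArithSurface R X) :
    ∃ V : (Spec (CommRingCat.of R)).Opens, genericPoint (Spec (CommRingCat.of R)) ∈ V ∧
      ∀ s ∈ V, ∀ a b z : X.left, X.hom a = s → X.hom b = s → X.hom z = s →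
        (∀ w, X.hom w = s → w ⤳ a → w = a) → (∀ w, X.hom w = s → w ⤳ b → w = b) →
        a ⤳ z → b ⤳ z → a = b := by
  haveI := hX.2.1
  haveI := (SurfPtBlow.arSurf_facts hX).1
  haveI : IsLocallyNoetherian X.left := LocallyOfFiniteType.isLocallyNoetherian X.hom
  let η := genericPoint (Spec (CommRingCat.of R))
  obtain ⟨V, hηV, hV⟩ := GenIrredLib.exists_nGeom_const_near X.hom η
  let j := Neron.genPt R
  let L := SeparableClosure (FractionRing R)
  let t := Spec.map (CommRingCat.ofHom (algebraMap (FractionRing R) L))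
  have hz : (t ≫ j) (IsLocalRing.closedPoint L) = η := by
    have : (t ≫ j) (IsLocalRing.closedPoint L) ∈ Set.range j := ⟨_, (Scheme.Hom.comp_apply _ _ _).symm⟩
    rwa [SurfPtBlow.range_genPt] at this
  have hc := GenIrredLib.counts_eq_nGeom X.hom L (t ≫ j) η hz
  let P := pullback X.hom j
  letI : P.Over (Spec (CommRingCat.of (FractionRing R))) := ⟨pullback.snd X.hom j⟩
  have hP : Pi1.IsNormalScheme P := fun a => by
    haveI := SurfPtBlow.isIso_stalkMap_fst X a
    haveI := hX.1 (pullback.fst X.hom j a)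
    let e := (asIso ((pullback.fst X.hom j).stalkMap a)).commRingCatIsoToRingEquiv
    haveI := IsRegularLocalRing.of_ringEquiv e
    exact PurityLib.isIntegrallyClosed_of_regular _
  haveI : GeometricallyReduced t := by
    refine (NearGen.geometricallyReduced_Spec_iff (FractionRing R) L).2 fun F _ _ =>
      (S9635.result (k := FractionRing R) (k' := L) (A := L)).2 (fun F' _ _ => ?_) F
    exact isReduced_of_injective (Algebra.TensorProduct.rid L L F').toRingEquiv
      (Algebra.TensorProduct.rid L L F').toRingEquiv.injective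
  have hQ := S7602.result (FractionRing R) P hP L
  let Q := pullback (pullback.snd X.hom j) t
  haveI : IsLocallyNoetherian Q := LocallyOfFiniteType.isLocallyNoetherian (pullback.snd (pullback.snd X.hom j) t)
  haveI : CompactSpace Q := QuasiCompact.compactSpace_of_compactSpace (pullback.snd (pullback.snd X.hom j) t)
  haveI : AlgebraicGeometry.IsNoetherian Q := { }
  obtain ⟨hop, huniq⟩ := S14401.result Q fun x => (hQ x).1
  have heq := counts_eq_of_isOpen hop huniq
  rw [← GenIrredLib.counts_congr (pullbackLeftPullbackSndIso X.hom j t).hom.homeomorph] at hc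
  have hη : MoreMor.nGeomIrredComp X.hom η = MoreMor.nGeomConnComp X.hom η := by
    exact ((congrArg Prod.fst hc).symm.trans heq).trans (congrArg Prod.snd hc)
  refine ⟨V, hηV, fun s hs a b z ha hb hz' hamax hbmax haz hbz => ?_⟩
  have hs' := hV s hs (genericPoint_specializes _)
  simp only [GenIrredLib.nGeom, Prod.mk.injEq] at hs'
  let G := MoreMor.geomFiber X.hom s
  let q : G ⟶ X.hom.fiber s := pullback.fst _ _
  haveI : LocallyOfFiniteType (X.hom.fiberToSpecResidueField s) := MorphismProperty.pullback_snd _ _ inferInstance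
  haveI : QuasiCompact (X.hom.fiberToSpecResidueField s) := MorphismProperty.pullback_snd _ _ inferInstance
  haveI : IsLocallyNoetherian G := LocallyOfFiniteType.isLocallyNoetherian (pullback.snd (X.hom.fiberToSpecResidueField s)
    (Spec.map (CommRingCat.ofHom (algebraMap ((Spec (CommRingCat.of R)).residueField s)
      (SeparableClosure ((Spec (CommRingCat.of R)).residueField s))))))
  haveI : CompactSpace G := QuasiCompact.compactSpace_of_compactSpace (pullback.snd (X.hom.fiberToSpecResidueField s)
    (Spec.map (CommRingCat.ofHom (algebraMap ((Spec (CommRingCat.of R)).residueField s)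
      (SeparableClosure ((Spec (CommRingCat.of R)).residueField s))))))
  haveI : AlgebraicGeometry.IsNoetherian G := { }
  have hG : (irreducibleComponents G).encard = ENat.card (_root_.ConnectedComponents G) :=
    hs'.1.trans (hη.trans hs'.2.symm)
  haveI : Flat (Spec.map (CommRingCat.ofHom (algebraMap ((Spec (CommRingCat.of R)).residueField s)
      (SeparableClosure ((Spec (CommRingCat.of R)).residueField s))))) := inferInstance
  haveI : Flat q := MorphismProperty.pullback_fst _ _ inferInstance
  haveI : Surjective q := MorphismProperty.pullback_fst _ _ inferInstance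
  let e := X.hom.fiberHomeo s
  have hmax : ∀ c : X.hom ⁻¹' {s}, (∀ w, X.hom w = s → w ⤳ (c : X.left) → w = c) →
      ∀ u, u ⤳ e.symm c → u = e.symm c := fun c hc u hu => by
    rw [e.eq_symm_apply]
    refine Subtype.ext (hc _ (e u).2 ?_)
    have := (hu.map e.continuous).map continuous_subtype_val
    rwa [e.apply_symm_apply] at this
  let a' : X.hom ⁻¹' {s} := ⟨a, ha⟩
  let b' : X.hom ⁻¹' {s} := ⟨b, hb⟩
  let z' : X.hom ⁻¹' {s} := ⟨z, hz'⟩
  have h1 : e.symm a' ⤳ e.symm z' :=
    ((subtype_specializes_iff _ _).2 (show (a' : X.left) ⤳ z' from haz)).map e.symm.continuous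
  have h2 : e.symm b' ⤳ e.symm z' :=
    ((subtype_specializes_iff _ _).2 (show (b' : X.left) ⤳ z' from hbz)).map e.symm.continuous
  obtain ⟨g, hg⟩ := q.surjective (e.symm z')
  obtain ⟨g₁, hg₁, hq₁⟩ := Flat.generalizingMap q (hg ▸ h1)
  obtain ⟨g₂, hg₂, hq₂⟩ := Flat.generalizingMap q (hg ▸ h2)
  let W := fun c : G => irreducibleComponent c
  have hW : ∀ c, W c ∈ irreducibleComponents G := fun c => irreducibleComponent_mem_irreducibleComponents c
  have hgW : ∀ c, c ⤳ g → g ∈ W c := fun c hc =>
    hc.mem_closed (isClosed_of_mem_irreducibleComponents _ (hW c)) mem_irreducibleComponent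
  have hWeq : W g₁ = W g₂ := component_unique hG (hW g₁) (hW g₂) (hgW _ hg₁) (hgW _ hg₂)
  obtain ⟨w, hw⟩ := QuasiSober.sober (hW g₁).1 (isClosed_of_mem_irreducibleComponents _ (hW g₁))
  have e1 := hmax a' hamax _ (hq₁ ▸ (hw.specializes mem_irreducibleComponent).map q.continuous)
  have e2 := hmax b' hbmax _ (hq₂ ▸ (hw.specializes (show g₂ ∈ W g₁ from hWeq.symm ▸ mem_irreducibleComponent)).map q.continuous)
  exact congrArg Subtype.val (e.symm.injective (e1.symm.trans e2))

/-- **Only finitely many fibres contain exceptional curves.** -/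
theorem finite_exc_fibres (hX : ArSurf.IsArithSurface R X) :
    Set.Finite {s : (Spec (CommRingCat.of R) : Scheme.{u}) |
      ∃ (E : Scheme.{u}) (ι : E ⟶ X.left), IsClosedImmersion ι ∧ Models.IsExcCurve ι ∧
        Set.range ((ι ≫ X.hom).base : E → Spec (CommRingCat.of R)) = {s}} := by
  haveI := hX.2.1
  haveI := (SurfPtBlow.arSurf_facts hX).1
  haveI := (SurfPtBlow.arSurf_facts hX).2
  haveI := hX.2.2.2.1
  obtain ⟨V, hηV, hV⟩ := exists_open_fibre_unique hX
  let η := genericPoint (Spec (CommRingCat.of R))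
  obtain ⟨_, ⟨r, rfl⟩, hηr, hrV⟩ :=
    PrimeSpectrum.isTopologicalBasis_basic_opens.exists_subset_of_mem_open hηV V.2
  have hr : r ≠ 0 := fun h => hηr (by rw [h]; exact Submodule.zero_mem _)
  refine ((finite_zeroLocus hr).union (Set.finite_singleton η)).subset ?_
  rintro s ⟨E, ι, hι, hexc, hrange⟩
  by_contra hs
  simp only [Set.mem_union, Set.mem_setOf_eq, Set.mem_singleton_iff, not_or] at hs
  obtain ⟨hsr, hsη⟩ := hs
  have hsV : s ∈ V := hrV hsr
  haveI := hι
  obtain ⟨hC, k, _, e, ⟨tw⟩⟩ := id hexc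
  haveI := SurfPtBlow.isIntegral_P1 (k := k)
  haveI : Nonempty E := ⟨e.hom (Classical.arbitrary _)⟩
  haveI : IsIntegral E := isIntegral_of_isOpenImmersion e.inv
  let ξ := ι (genericPoint E)
  have hvert : ∀ c, X.hom (ι c) = s := fun c => hrange.le ⟨c, Scheme.Hom.comp_apply _ _ _⟩
  have hker := ker_eq_cl ι
  have hrangeι : ∀ x, x ∈ Set.range ι ↔ ξ ⤳ x := fun x => by
    rw [← CastLib.mem_support_cl, ← hker, ← SetLike.mem_coe, Scheme.Hom.support_ker,
      ι.isClosedEmbedding.isClosed_range.closure_eq]
  have hξs : X.hom ξ = s := hvert _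
  have hξmax : ∀ w, X.hom w = s → w ⤳ ξ → w = ξ := fun w hw hwξ => by
    by_contra hne
    have h1 : Order.coheight ξ = 1 := CastLib.coheight_eq_one_of_maximal (I := ι.ker) hC
      (by rw [hker, CastLib.mem_support_cl]) fun ζ hζ hsp => by
        rw [hker, CastLib.mem_support_cl] at hζ
        exact (hsp.antisymm hζ).eq
    have hwη : w ≠ genericPoint X.left := fun h => hsη (by
      rw [← hw, h]; exact CastLib.apply_genericPoint hX)
    have e1 := Order.coheight_add_one_le (CastLib.GGContract.lt_of_spec hwξ (Ne.symm hne))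
    have e2 := Order.coheight_add_one_le (CastLib.GGContract.lt_of_spec (genericPoint_specializes w) hwη)
    rw [h1] at e1
    have hw0 : Order.coheight w = 0 := by
      rcases eq_or_ne (Order.coheight w) 0 with h | h
      · exact h
      · exact absurd (le_trans (add_le_add (Order.one_le_iff_pos.2 (pos_iff_ne_zero.2 h)) le_rfl) e1) (by decide)
    rw [hw0] at e2
    exact absurd e2 (by simp)
  -- a function cutting out the fibre
  obtain ⟨t, hts, ht⟩ : ∃ t ∈ (s : PrimeSpectrum R).asIdeal, t ≠ 0 := Submodule.exists_mem_ne_zero_of_ne_bot fun h0 =>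
    hsη (PrimeSpectrum.ext (h0.trans CastLib.asIdeal_genericPoint.symm))
  let T : Set (Spec (CommRingCat.of R)) := {s' : PrimeSpectrum R | t ∈ s'.asIdeal} \ {s}
  have hTc : IsClosed T := by
    have hT : T = ⋃ s' ∈ T, {s'} := (Set.biUnion_of_singleton T).symm
    rw [hT]
    refine ((finite_zeroLocus ht).subset Set.sdiff_subset).isClosed_biUnion fun s' hs' => ?_
    refine (PrimeSpectrum.isClosed_singleton_iff_isMaximal s').2 (s'.2.isMaximal fun h0 => ht ?_)
    simpa [h0] using hs'.1
  let F : Set X.left := X.hom ⁻¹' {s}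
  have hFc : IsClosed F := (((PrimeSpectrum.isClosed_singleton_iff_isMaximal s).2
    (s.2.isMaximal fun h0 => hsη (PrimeSpectrum.ext (h0.trans CastLib.asIdeal_genericPoint.symm))))).preimage X.hom.continuous
  haveI : QuasiSober F := hFc.isClosedEmbedding_subtypeVal.quasiSober
  haveI : NoetherianSpace F := inferInstance
  let M : Set F := {c | closure {c} ∈ irreducibleComponents F ∧ (c : X.left) ≠ ξ}
  have hMf : M.Finite := by
    refine Set.Finite.of_finite_image (f := fun c : F => closure ({c} : Set F)) ?_ fun c _ c' _ h => ?_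
    · exact (NoetherianSpace.finite_irreducibleComponents (α := F)).subset fun _ ⟨c, hc, he⟩ => he ▸ hc.1
    · exact (inseparable_iff_closure_eq.2 h).eq
  let C : Set X.left := ⋃ c ∈ M, closure {(c : X.left)}
  have hCc : IsClosed C := hMf.isClosed_biUnion fun _ _ => isClosed_closure
  have hCE : ∀ x, ξ ⤳ x → x ∉ C := fun x hx hxC => by
    obtain ⟨c, hcM, hcx⟩ := Set.mem_iUnion₂.1 hxC
    have hxs : X.hom x = s := by
      obtain ⟨d, rfl⟩ := (hrangeι x).2 hx
      exact hvert d
    refine hcM.2 ((hV s hsV ξ c x hξs c.2 hxs hξmax (fun w hw hwc => ?_) hx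
      (specializes_iff_mem_closure.2 hcx)).symm)
    let w' : F := ⟨w, hw⟩
    have hwc' : w' ⤳ c := (subtype_specializes_iff _ _).2 hwc
    have hle : closure {c} ⊆ closure {w'} := specializes_iff_closure_subset.1 hwc'
    have := hcM.1.2 isIrreducible_singleton.closure hle
    exact congrArg Subtype.val
      (inseparable_iff_closure_eq.2 (le_antisymm this hle)).eq
  have hcover : ∀ x, X.hom x = s → ξ ⤳ x ∨ x ∈ C := fun x hx => by
    let x' : F := ⟨x, hx⟩
    have hZ := irreducibleComponent_mem_irreducibleComponents x'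
    obtain ⟨c, hc⟩ := QuasiSober.sober hZ.1 (isClosed_of_mem_irreducibleComponents _ hZ)
    have hcx : (c : X.left) ⤳ x := (hc.specializes (mem_irreducibleComponent (x := x'))).map continuous_subtype_val
    by_cases h : (c : X.left) = ξ
    · exact Or.inl (h ▸ hcx)
    · exact Or.inr (Set.mem_iUnion₂.2 ⟨c, ⟨hc.def.symm ▸ hZ, h⟩, specializes_iff_mem_closure.1 hcx⟩)
  let W : X.left.Opens := ⟨(X.hom ⁻¹' T ∪ C)ᶜ, ((hTc.preimage X.hom.continuous).union hCc).isOpen_compl⟩
  have hξW : ∀ x, ξ ⤳ x → x ∈ W := fun x hx h => h.elim (fun h => by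
      obtain ⟨d, rfl⟩ := (hrangeι x).2 hx
      exact h.2 (hvert d)) (hCE x hx)
  haveI : Nonempty W := ⟨⟨ξ, hξW ξ specializes_rfl⟩⟩
  haveI : IsIntegral W.toScheme := isIntegral_of_isOpenImmersion W.ι
  haveI : CompactSpace W := isCompact_iff_compactSpace.1 (NoetherianSpace.isCompact _)
  haveI : IsLocallyNoetherian W.toScheme := LocallyOfFiniteType.isLocallyNoetherian W.ι
  haveI : AlgebraicGeometry.IsNoetherian W.toScheme := { }
  have hreg : ∀ w : W.toScheme, IsRegularLocalRing (W.toScheme.presheaf.stalk w) := fun w =>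
    BlowChartLib.regular_stalk_of_smooth W.ι w (hX.1 _)
  let ξW : W.toScheme := ⟨ξ, hξW ξ specializes_rfl⟩
  have hspecW : ∀ w : W.toScheme, ξW ⤳ w ↔ ξ ⤳ W.ι w := fun w =>
    (W.ι.isOpenEmbedding.isInducing.specializes_iff).symm
  let IW := ι.ker.comap W.ι
  have hIW : BlowUp.IsEffCartierIdeal IW := BlowCompLib.isEffCartier_comap_openImmersion hC W.ι
  have hIsupp : ∀ w, w ∈ IW.support ↔ ξ ⤳ W.ι w := fun w => by
    rw [Scheme.IdealSheafData.support_comap, ← CastLib.mem_support_cl, ← hker]
    rfl
  let J := Curv2.idealSheaf R (Ideal.span {t})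
  let D := J.comap (W.ι ≫ X.hom)
  have hJ := CastLib.StrictPoint.isEffCartier_span ht
  have hD : BlowUp.IsEffCartierIdeal D := BlowCompLib.isEffCartier_comap_flat hJ _
  have hDsupp : ∀ w, w ∈ D.support ↔ ξ ⤳ W.ι w := fun w => by
    rw [Scheme.IdealSheafData.support_comap]
    show (W.ι ≫ X.hom) w ∈ J.support ↔ _
    have hJs : ∀ s' : Spec (CommRingCat.of R), s' ∈ J.support ↔ t ∈ s'.asIdeal := fun s' =>
      (CastLib.StrictPoint.mem_support_idealSheaf (Ideal.span {t}) s').trans (Ideal.span_singleton_le_iff_mem _)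
    rw [hJs, Scheme.Hom.comp_apply]
    refine ⟨fun h => ?_, fun h => ?_⟩
    · have hw : W.ι w ∉ X.hom ⁻¹' T ∪ C := w.2
      have hs : X.hom (W.ι w) = s := by_contra fun hne => hw (Or.inl ⟨h, hne⟩)
      exact (hcover _ hs).resolve_right fun h' => hw (Or.inr h')
    · obtain ⟨d, hd⟩ := (hrangeι _).2 h
      rw [← hd, hvert]
      exact hts
  have h1W : Order.coheight ξW = 1 := by
    refine CastLib.coheight_eq_one_of_maximal hIW ((hIsupp _).2 specializes_rfl) fun ζ hζ hsp => ?_
    exact (hsp.antisymm ((hspecW ζ).2 ((hIsupp ζ).1 hζ))).eq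
  have hsingle : ∀ {I : W.toScheme.IdealSheafData}, (∀ w, w ∈ I.support ↔ ξ ⤳ W.ι w) →
      ∀ η' ∈ I.support, Order.coheight η' = 1 → ∃ i : Fin 1, (fun _ => ξW) i = η' := fun hI η' hη' h1 => by
    refine ⟨0, by_contra fun hne => ?_⟩
    have h3 := S8909.succ_le ((hspecW η').2 ((hI η').1 hη')) hne
    rw [h1W, h1] at h3
    exact absurd h3 (by decide)
  haveI : IsDiscreteValuationRing (W.toScheme.presheaf.stalk ξW) :=
    CDivLib.isDVR_stalk (fun x => by haveI := hreg x; exact PurityLib.isIntegrallyClosed_of_regular _) h1W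
  obtain ⟨ϖ, hϖ⟩ := IsDiscreteValuationRing.exists_irreducible (W.toScheme.presheaf.stalk ξW)
  have hIst : IntMult.stalkIdeal IW ξW = IsLocalRing.maximalIdeal _ := by
    rw [IdealStalkLib.stalkIdeal_comap, hker]
    haveI : IsIso (W.ι.stalkMap ξW) := inferInstance
    let e' := (asIso (W.ι.stalkMap ξW)).commRingCatIsoToRingEquiv
    show Ideal.map e'.toRingHom (IntMult.stalkIdeal (CastLib.cl ξ) ξ) = _
    rw [CastLib.stalkIdeal_cl_self]
    exact IsLocalRing.eq_maximalIdeal (Ideal.map_isMaximal_of_equiv e' (hp := IsLocalRing.maximalIdeal.isMaximal _))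
  obtain ⟨f, hf, hfI⟩ := DivisorialLib.exists_gen hD ξW
  obtain ⟨m, hm⟩ := S8909.exists_eq_pow hϖ.maximalIdeal_eq (J := IntMult.stalkIdeal D ξW) fun hbot =>
    nonZeroDivisors.ne_zero hf (Ideal.span_singleton_eq_bot.1 (hfI.symm.trans hbot))
  have hm0 : m ≠ 0 := fun h0 => by
    rw [h0, pow_zero, Ideal.one_eq_top] at hm
    have := IdealStalkLib.stalkIdeal_le_maximal D ((hDsupp ξW).2 specializes_rfl)
    rw [hm] at this
    exact (IsLocalRing.maximalIdeal.isMaximal _).ne_top (top_le_iff.1 this)
  have hDeq : D = ∏ i : Fin 1, CastLib.cl ((fun _ => ξW) i) ^ m :=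
    CastLib.eq_prod_cl hreg _ (fun _ => h1W) (Function.injective_of_subsingleton _) _ (fun _ => m) rfl D hD
      (hsingle hDsupp) fun _ => hm
  have hIeq : IW = ∏ i : Fin 1, CastLib.cl ((fun _ => ξW) i) ^ 1 :=
    CastLib.eq_prod_cl hreg _ (fun _ => h1W) (Function.injective_of_subsingleton _) _ (fun _ => 1) rfl IW hIW
      (hsingle hIsupp) fun _ => by rw [pow_one]; exact hIst
  simp only [Fin.prod_univ_one, pow_one] at hDeq hIeq
  rw [← hIeq] at hDeq
  -- the fibre has trivial ideal module
  have hDtriv : mk (ClSub.idealMod D) = 1 := by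
    obtain ⟨eD⟩ := JacLib.nonempty_iso_pullback_idealMod (W.ι ≫ X.hom) J hJ hD
    rw [← mk_congr eD, ← pullCls_mk, TwistShriek.PointBlow.mk_idealMod_principal (mem_nonZeroDivisors_of_ne_zero ht),
      map_one]
  have hpow : mk (ClSub.idealMod IW) ^ m = 1 := by
    have h := (CastLib.mk_idealMod_prod (fun _ : Fin 1 => IW) (fun _ => hIW) (fun _ => m) Finset.univ).2
    simp only [Fin.prod_univ_one] at h
    rw [← h, ← hDeq, hDtriv]
  let g : CohB1.ProjSpace 1 k ⟶ W.toScheme := IsOpenImmersion.lift W.ι (e.hom ≫ ι) fun x hx => by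
    obtain ⟨c, rfl⟩ := hx
    rw [Scheme.Opens.range_ι, Scheme.Hom.comp_apply]
    exact hξW _ ((hrangeι _).1 ⟨_, rfl⟩)
  obtain ⟨eI⟩ := JacLib.nonempty_iso_pullback_idealMod W.ι ι.ker hC hIW
  have h := congrArg (pullCls g) hpow
  rw [map_pow, map_one, ← mk_congr eI, ← pullCls_mk, ← pullCls_comp, IsOpenImmersion.lift_fac, pullCls_mk,
    mk_congr tw] at h
  have h2 : SurfPtBlow.degP k (CohB1.tensorPow (Twist.twistProjSpace 1 k 1) m) =
      SurfPtBlow.degP k (Coh.structureModule (CohB1.ProjSpace 1 k)) :=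
    SurfPtBlow.degP_congr (by rw [IntLib.mk_tensorPow, IntLib.mk_structureModule]; exact h)
  have hpowdeg : ∀ i : ℕ, SurfPtBlow.degP k (CohB1.tensorPow (Twist.twistProjSpace 1 k 1) i) = i := fun i => by
    induction i with
    | zero => simpa [CohB1.tensorPow] using SurfPtBlow.degP_one (k := k)
    | succ i ih =>
      show SurfPtBlow.degP k (CohB1.tensorMod (CohB1.tensorPow (Twist.twistProjSpace 1 k 1) i) _) = _
      rw [SurfPtBlow.degP_tensor (AmpleLib.isInvertible_tensorPow (AmpleEmb.isInvertible_twistOne 1 k) i)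
        (AmpleEmb.isInvertible_twistOne 1 k), ih]
      have h1 := CastLib.degP_twist_nat (k := k) 1
      push_cast at h1 ⊢
      rw [h1]
  rw [hpowdeg, SurfPtBlow.degP_one] at h2
  exact hm0 (by exact_mod_cast h2)

end Groth.Agent.CanonFac
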