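import Groth.Agent.CanonFacLib.Model

/-!
# Canonical sheaves of arithmetic surfaces exist
-/

set_option autoImplicit false
set_option backward.isDefEq.respectTransparency false
set_option linter.style.haveILetI false
set_option linter.unusedSectionVars false
set_option maxHeartbeats 1000000

universe u

open CategoryTheory CategoryTheory.Limits AlgebraicGeometry TopologicalSpace Opposite
open Groth.Agent.PullbackMod Groth.Agent.DCohLib
open Groth.Agent.IntLib (mk pullCls mk_congr mk_tensor mk_eq_mk)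

noncomputable section

namespace Groth.Agent.CanonFac

variable {R : Type u} [CommRing R] [IsDomain R] [IsDiscreteValuationRing R]

theorem exists_canonical {X : Over (Spec (CommRingCat.of R))} (hX : ArSurf.IsArithSurface R X) :
    ∃ ω : X.left.Modules, Canon.IsCanonical X.hom ω := by
  obtain ⟨hproper, hnoeth⟩ := SurfPtBlow.arSurf_facts hX
  haveI := hproper
  haveI := hnoeth
  haveI := (CastLib.VSurf.of_arith hX).int
  obtain ⟨N, i₀, hi₀, hi₀X⟩ := hX.2.2.2.2
  haveI := hi₀
  obtain ⟨e₀, he₀⟩ := ProjOverLib.exists_iso_polyProj N R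
  let j : X.left ⟶ CohB1.ProjSpace N R := i₀ ≫ e₀.hom
  haveI : IsClosedImmersion j := inferInstanceAs (IsClosedImmersion (i₀ ≫ e₀.hom))
  have hj : j ≫ CohB1.ProjSpace.toSpec N R = X.hom := by
    rw [Category.assoc]
    erw [he₀]
    exact hi₀X
  haveI : Smooth (CohB1.ProjSpace.toSpec N R) := SmoothOfRelativeDimension.smooth N _
  haveI : IsLocallyNoetherian (CohB1.ProjSpace N R) :=
    LocallyOfFiniteType.isLocallyNoetherian (CohB1.ProjSpace.toSpec N R)
  have hregP : ∀ p : CohB1.ProjSpace N R, IsRegularLocalRing ((CohB1.ProjSpace N R).presheaf.stalk p) := fun p =>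
    BlowChartLib.regular_stalk_of_smooth (CohB1.ProjSpace.toSpec N R) p (regular_stalk_spec R _)
  obtain ⟨c, hjc⟩ := exists_codim_irreducible j (RegIdealLib.isRegularImmersion_of_regular j hregP hX.1)
  haveI := (isQCoh_and_isFP_of_isFinLocFree _ (hasFrames_omega (CohB1.ProjSpace.toSpec N R) N).1).1
  haveI := (isQCoh_and_isFP_of_isFinLocFree _ (hasFrames_conormal j hjc).1).1
  obtain ⟨DP, -, hDP⟩ := ExtPowLib.exists_isExtPow (Omega.sheaf (CohB1.ProjSpace.toSpec N R)) N
  obtain ⟨Dj, -, hDj⟩ := ExtPowLib.exists_isExtPow (Omega.conormal j) c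
  obtain ⟨Dinv, -, ⟨eu⟩⟩ := AmpleEmb.exists_isInverseOf ((hasFrames_conormal j hjc).isInvertible hDj)
  let ω₀ := CohB1.tensorMod ((Scheme.Modules.pullback j).obj DP) Dinv
  have h0 : mk ω₀ * mk Dj = pullCls j (mk DP) := by
    rw [mk_tensor, mul_assoc, mul_comm (mk Dinv), ← mk_tensor Dj, mk_congr eu, IntLib.mk_structureModule, mul_one]
    rfl
  exact ⟨ω₀, _, j, CohB1.ProjSpace.toSpec N R, c, N, hj, hjc, inferInstance, inferInstance, inferInstance,
    Dj, DP, hDj, hDP, mk_eq_mk.1 ((mk_tensor _ _).trans h0)⟩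

end Groth.Agent.CanonFac
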