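import Groth.Agent.CastLib.ArtinSec
import Groth.Agent.TwistShriek.SurfPeel
import Groth.Agent.CliffCurveLib.DegBound
import Groth.Agent.CurveLib.Deg
import Groth.Agent.CurveLib.Sections
import Groth.Agent.IntLib.Push

/-!
# Peeling an integral curve off a one-dimensional scheme
-/

set_option autoImplicit false
set_option backward.isDefEq.respectTransparency false
set_option backward.isDefEq.respectTransparency.types false
set_option linter.style.haveILetI false
set_option linter.unusedSectionVars false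
set_option maxHeartbeats 1000000

universe u

open CategoryTheory CategoryTheory.Limits AlgebraicGeometry TopologicalSpace Opposite
open Groth.Agent.PullbackMod Groth.Agent.DCohLib Groth.Agent.CurveLib Groth.Agent.H1ZeroLib Groth.Agent.TwistShriek
open scoped TensorProduct

noncomputable section

namespace Groth.Agent.CanonFac

variable {W : Scheme.{u}}

theorem killed_ideal_tensor {C B : W.IdealSheafData} (hCB : C * B = ⊥) (N : W.Modules) :
    Killed C (tmod (ClSub.idealMod B) N) := by
  have h0 : ∀ x, ∀ r ∈ IntMult.stalkIdeal C x, ∀ m : (ClSub.idealMod B).presheaf.stalk x, r • m = 0 := by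
    intro x r hr m
    obtain ⟨b, hb⟩ := (ParaFLib.bijective_oneG x).2 (stalkLin (ClSub.idealModι B) x m)
    have hbB : b ∈ IntMult.stalkIdeal B x := (HilbObsLib.mem_range_idealModι B x b).1 ⟨m, hb.symm⟩
    refine (mono_iff_stalk (ClSub.idealModι B)).1 (inferInstanceAs (Mono (kernel.ι _))) x ?_
    have h : r * b ∈ IntMult.stalkIdeal (C * B) x := by
      rw [DivisorialLib.stalkIdeal_mul]
      exact Ideal.mul_mem_mul hr hbB
    rw [hCB, CliffCurveLib.stalkIdeal_bot', Ideal.mem_bot] at h
    rw [map_smul, map_zero, ← hb, smul_smul, h, zero_smul]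
  intro x r hr n
  obtain ⟨n, rfl⟩ := (stalkTensor x (ClSub.idealMod B) N).surjective n
  induction n with
  | zero => rw [map_zero, smul_zero]
  | tmul m l => rw [← map_smul, TensorProduct.smul_tmul', h0 x r hr m, TensorProduct.zero_tmul, map_zero]
  | add a b ha hb => rw [map_add, smul_add, ha, hb, add_zero]

theorem isIso_toSubscheme_bot : IsIso (ClSub.toSubscheme (⊥ : W.IdealSheafData)) := by
  refine (isIso_iff_stalk _).2 fun x => ⟨(injective_iff_map_eq_zero _).2 fun v hv => ?_, fun z => ?_⟩
  · obtain ⟨r, rfl⟩ := (ParaFLib.bijective_oneG x).2 v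
    have hr : r ∈ IntMult.stalkIdeal (⊥ : W.IdealSheafData) x := (qv_eq_zero_iff ⊥ x r).1 hv
    rw [CliffCurveLib.stalkIdeal_bot', Ideal.mem_bot] at hr
    rw [hr]
    exact zero_smul _ _
  · obtain ⟨r, rfl⟩ := qv_surjective (⊥ : W.IdealSheafData) x z
    exact ⟨_, rfl⟩

/-- `O/C ⊗ L` lives on the subscheme. -/
def ljPush (C : W.IdealSheafData) (L : W.Modules) [Coh.IsQCoh (Coh.structureModule C.subscheme)] :
    LJ C L ≅ (Scheme.Modules.pushforward C.subschemeι).obj ((Scheme.Modules.pullback C.subschemeι).obj L) :=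
  projIso C.subschemeι (Coh.structureModule C.subscheme) L ≪≫
    (Scheme.Modules.pushforward C.subschemeι).mapIso (tmodUnit ((Scheme.Modules.pullback C.subschemeι).obj L))

theorem mem_genLocus_of_surjective {L : W.Modules} (hL : PicF.IsInvertible L) {s : Coh.structureModule W ⟶ L} {y : W}
    (h : Function.Surjective (stalkLin s y)) : y ∈ CohB1.genLocus L s := by
  rw [AmpleLib.mem_genLocus_iff hL]
  obtain ⟨e, he⟩ := ParaFLib.exists_stalk_gen hL y
  obtain ⟨v, hv⟩ := h e
  obtain ⟨b, rfl⟩ := (ParaFLib.bijective_oneG y).2 v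
  obtain ⟨a, ha⟩ := he.2 (stalkLin s y (ParaFLib.oneG y))
  dsimp only at ha
  have hg : L.presheaf.germ ⊤ y trivial (AmpleLib.sec s) = a • e :=
    ((stalkLin_germ s (U := ⊤) y trivial _).symm.trans ha.symm)
  rw [hg]
  refine (AmpleLib.bijective_smul_iff he a).2 (IsUnit.of_mul_eq_one b ?_)
  apply he.1
  show (a * b) • e = (1 : W.presheaf.stalk y) • e
  rw [one_smul, mul_comm, mul_smul, ha, ← map_smul]
  exact hv

theorem bijective_of_mem_genLocus {L : W.Modules} (hL : PicF.IsInvertible L) {s : Coh.structureModule W ⟶ L} {y : W}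
    (h : y ∈ CohB1.genLocus L s) : Function.Bijective (stalkLin s y) := by
  rw [AmpleLib.mem_genLocus_iff hL] at h
  have e : (fun r : W.presheaf.stalk y => r • L.presheaf.germ ⊤ y trivial (AmpleLib.sec s)) =
      stalkLin s y ∘ fun r => r • ParaFLib.oneG y := by
    funext r
    show _ = stalkLin s y (r • ParaFLib.oneG y)
    rw [map_smul]
    exact congrArg (r • ·) (stalkLin_germ s (U := ⊤) y trivial _).symm
  rw [e] at h
  exact (Function.Bijective.of_comp_iff _ (ParaFLib.bijective_oneG y)).1 h

theorem mem_genLocus_add {L : W.Modules} (hL : PicF.IsInvertible L) {s t : Coh.structureModule W ⟶ L} {y : W}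
    (hs : y ∈ CohB1.genLocus L s) (ht : y ∉ CohB1.genLocus L t) : y ∈ CohB1.genLocus L (s + t) := by
  refine mem_genLocus_of_surjective hL fun z => ?_
  obtain ⟨v, hv⟩ := (bijective_of_mem_genLocus hL hs).2 (stalkLin t y (ParaFLib.oneG y))
  obtain ⟨c, rfl⟩ := (ParaFLib.bijective_oneG y).2 v
  have hc : ¬IsUnit c := fun hu => ht (mem_genLocus_of_surjective hL fun z => by
    obtain ⟨w, hw⟩ := (bijective_of_mem_genLocus hL hs).2 z
    obtain ⟨r, rfl⟩ := (ParaFLib.bijective_oneG y).2 w
    obtain ⟨d, hd⟩ := hu.exists_left_inv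
    refine ⟨(r * d) • ParaFLib.oneG y, ?_⟩
    rw [map_smul, ← hv, ← map_smul, smul_smul, mul_assoc, hd, mul_one]
    exact hw)
  have h1 : IsUnit (1 + c) := by
    by_contra hn
    refine (IsLocalRing.maximalIdeal.isMaximal (W.presheaf.stalk y)).ne_top ((Ideal.eq_top_iff_one _).2 ?_)
    simpa using sub_mem ((IsLocalRing.mem_maximalIdeal _).2 hn) ((IsLocalRing.mem_maximalIdeal _).2 hc)
  obtain ⟨w, hw⟩ := (bijective_of_mem_genLocus hL hs).2 z
  obtain ⟨r, rfl⟩ := (ParaFLib.bijective_oneG y).2 w
  obtain ⟨d, hd⟩ := h1.exists_left_inv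
  refine ⟨(r * d) • ParaFLib.oneG y, ?_⟩
  have key : stalkLin (s + t) y (ParaFLib.oneG y) = (1 + c) • stalkLin s y (ParaFLib.oneG y) := by
    rw [DevLib.stalkLin_add, LinearMap.add_apply, add_smul, one_smul, ← hv, map_smul]
  rw [map_smul, key, smul_smul, mul_assoc, hd, mul_one, ← map_smul]
  exact hw

variable [IsNoetherian W]

/-- Cohomology of a twist on a subscheme. -/
theorem subsingleton_LJ (C : W.IdealSheafData) {L : W.Modules} (hL : PicF.IsInvertible L)
    (h : Subsingleton (Coh.HH C.subscheme ((Scheme.Modules.pullback C.subschemeι).obj L) 1)) :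
    Subsingleton (Coh.HH W (LJ C L) 1) := by
  haveI : IsLocallyNoetherian C.subscheme := LocallyOfFiniteType.isLocallyNoetherian C.subschemeι
  haveI : Coh.IsQCoh (Coh.structureModule C.subscheme) :=
    InvExt.isQCoh_of_isInvertible ParaFLib.isInvertible_structureModule
  haveI : Coh.IsQCoh ((Scheme.Modules.pullback C.subschemeι).obj L) :=
    InvExt.isQCoh_of_isInvertible (AmpleLib.isInvertible_pullback _ hL)
  obtain ⟨e, -⟩ := ProperFin.exists_pushEquiv C.subschemeι (M := (Scheme.Modules.pullback C.subschemeι).obj L)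
    (fun _ hV m => CohBase.affine_vanishing _ (hV.preimage C.subschemeι) m) 1
  exact subsingleton_HH_iso (ljPush C L).symm 1 (by haveI := h; exact e.toEquiv.symm.subsingleton)

variable {C B : W.IdealSheafData} (hdim : topologicalKrullDim W ≤ 1) (hCB : C * B = ⊥)
  {M : W.Modules} (hM : PicF.IsInvertible M) (p : M ⟶ ClSub.idealMod B)
  (hp : ∀ x, Function.Surjective (stalkLin p x))

include hdim hCB hM hp in
/-- The cohomology of the ideal part. -/
theorem h1_ideal_tensor {N : W.Modules} (hN : PicF.IsInvertible N)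
    (h : Subsingleton (Coh.HH C.subscheme ((Scheme.Modules.pullback C.subschemeι).obj (tmod M N)) 1)) :
    Subsingleton (Coh.HH W (tmod (ClSub.idealMod B) N) 1) := by
  have h1 := subsingleton_LJ C (AmpleLib.isInvertible_tensor hM hN) h
  let φ : LJ C (tmod M N) ⟶ LJ C (tmod (ClSub.idealMod B) N) :=
    ((DCoh.tensorBi (X := W)).obj (ClSub.quotMod C)).map (tmap p N)
  have hφ : ∀ x, Function.Surjective (stalkLin φ x) := fun x z => by
    obtain ⟨z, rfl⟩ := (stalkTensor x (ClSub.quotMod C) (tmod (ClSub.idealMod B) N)).surjective z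
    induction z with
    | zero => exact ⟨0, by rw [map_zero, map_zero]⟩
    | tmul a l =>
      obtain ⟨l', rfl⟩ := (stalkTensor x (ClSub.idealMod B) N).surjective l
      induction l' with
      | zero => exact ⟨0, by rw [map_zero, map_zero, TensorProduct.tmul_zero, map_zero]⟩
      | tmul b n =>
        obtain ⟨m, rfl⟩ := hp x b
        refine ⟨stalkTensor x (ClSub.quotMod C) (tmod M N) (a ⊗ₜ[W.presheaf.stalk x] stalkTensor x M N (m ⊗ₜ[W.presheaf.stalk x] n)), ?_⟩
        rw [stalkTensor_natural_right, LinearMap.lTensor_tmul, stalkTensor_natural_left, LinearMap.rTensor_tmul]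
      | add u v hu hv =>
        obtain ⟨u', hu'⟩ := hu
        obtain ⟨v', hv'⟩ := hv
        exact ⟨u' + v', by rw [map_add, hu', hv', map_add, TensorProduct.tmul_add, map_add]⟩
    | add u v hu hv =>
      obtain ⟨u', hu'⟩ := hu
      obtain ⟨v', hv'⟩ := hv
      exact ⟨u' + v', by rw [map_add, hu', hv', map_add]⟩
  have hS := kerSeq_shortExact φ hφ
  have h2 : Subsingleton (Coh.HH W (kerSeq φ).X₁ (1 + 1)) :=
    CurveLib.subsingleton_HH_of_dim _ (d := 1) (by exact_mod_cast hdim) (by omega)
  exact subsingleton_HH_iso (CliffCurveLib.killedIso (killed_ideal_tensor hCB N)) 1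
    (CMRegLib.subsingleton_right (S := kerSeq φ) hS 1 h1 h2)

include hdim hCB hM hp in
/-- Vanishing spreads over a peeled component. -/
theorem h1_extend {N : W.Modules} (hN : PicF.IsInvertible N)
    (hC1 : Subsingleton (Coh.HH C.subscheme ((Scheme.Modules.pullback C.subschemeι).obj (tmod M N)) 1))
    (hB1 : Subsingleton (Coh.HH B.subscheme ((Scheme.Modules.pullback B.subschemeι).obj N) 1)) :
    Subsingleton (Coh.HH W N 1) := by
  have hI := h1_ideal_tensor hdim hCB hM p hp hN hC1
  have hQ := subsingleton_LJ B hN hB1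
  let φ := qmapL (mul_le_right' C B) N
  have hφ : ∀ x, Function.Surjective (stalkLin φ x) := fun x => by
    obtain ⟨e, he⟩ := ParaFLib.exists_stalk_gen hN x
    exact surjective_qmapL he _
  have hS := kerSeq_shortExact φ hφ
  haveI : Subsingleton (Coh.HH W (kerSeq φ).X₁ 1) :=
    subsingleton_HH_iso (((CliffCurveLib.killedIso (killed_ideal_tensor hCB N)).symm) ≪≫ peelIso hN) 1 hI
  haveI : Subsingleton (Coh.HH W (kerSeq φ).X₃ 1) := hQ
  have hmid : Subsingleton (Coh.HH W (LJ (C * B) N) 1) := CurveLib.subsingleton_mid hS 1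
  haveI := isIso_toSubscheme_bot (W := W)
  refine subsingleton_HH_iso ?_ 1 hmid
  rw [hCB]
  exact AmpleLib.tIso (asIso (ClSub.toSubscheme (⊥ : W.IdealSheafData))).symm (Iso.refl N) ≪≫ AmpleLib.unitL N

/-- When the two parts are disjoint the ideal of one is the structure sheaf of the other. -/
theorem isIso_ideal_quot (hCB : C * B = ⊥) (hdisj : Disjoint (C.support : Set W) (B.support : Set W)) :
    IsIso (ClSub.idealModι B ≫ ClSub.toSubscheme C) := by
  refine (isIso_iff_stalk _).2 fun x => ?_
  by_cases hx : x ∈ C.support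
  · have hB : IntMult.stalkIdeal B x = ⊤ := by
      by_contra hB
      exact Set.disjoint_left.1 hdisj hx ((mem_support_iff_stalk B x).2 hB)
    have hC0 : IntMult.stalkIdeal C x = ⊥ := by
      have h : IntMult.stalkIdeal (C * B) x = ⊥ := by rw [hCB, CliffCurveLib.stalkIdeal_bot']
      rwa [DivisorialLib.stalkIdeal_mul, hB, Ideal.mul_top] at h
    rw [stalkLin_comp]
    refine ⟨(injective_iff_map_eq_zero _).2 fun m hm => ?_, fun z => ?_⟩
    · obtain ⟨r, hr⟩ := (ParaFLib.bijective_oneG x).2 (stalkLin (ClSub.idealModι B) x m)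
      rw [LinearMap.comp_apply, ← hr] at hm
      have hr0 : r ∈ IntMult.stalkIdeal C x := (qv_eq_zero_iff C x r).1 hm
      rw [hC0, Ideal.mem_bot] at hr0
      refine (mono_iff_stalk (ClSub.idealModι B)).1 (inferInstanceAs (Mono (kernel.ι _))) x ?_
      rw [← hr, hr0, map_zero]
      exact zero_smul _ _
    · obtain ⟨r, rfl⟩ := qv_surjective C x z
      obtain ⟨m, hm⟩ := (HilbObsLib.mem_range_idealModι B x r).2 (hB ▸ Submodule.mem_top)
      exact ⟨m, by rw [LinearMap.comp_apply, hm]; rfl⟩
  · have hC : IntMult.stalkIdeal C x = ⊤ := by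
      by_contra hC
      exact hx ((mem_support_iff_stalk C x).2 hC)
    have hB0 : IntMult.stalkIdeal B x = ⊥ := by
      have h : IntMult.stalkIdeal (C * B) x = ⊥ := by rw [hCB, CliffCurveLib.stalkIdeal_bot']
      rwa [DivisorialLib.stalkIdeal_mul, hC, Ideal.top_mul] at h
    have hz : ∀ z : (ClSub.quotMod C).presheaf.stalk x, z = 0 := fun z => by
      obtain ⟨r, rfl⟩ := qv_surjective C x z
      exact (qv_eq_zero_iff C x r).2 (hC ▸ Submodule.mem_top)
    refine ⟨fun m m' _ => ?_, fun z => ⟨0, (map_zero _).trans (hz z).symm⟩⟩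
    refine (mono_iff_stalk (ClSub.idealModι B)).1 (inferInstanceAs (Mono (kernel.ι _))) x ?_
    obtain ⟨r, hr⟩ := (ParaFLib.bijective_oneG x).2 (stalkLin (ClSub.idealModι B) x m)
    obtain ⟨r', hr'⟩ := (ParaFLib.bijective_oneG x).2 (stalkLin (ClSub.idealModι B) x m')
    have h1 := (HilbObsLib.mem_range_idealModι B x r).1 ⟨m, hr.symm⟩
    have h2 := (HilbObsLib.mem_range_idealModι B x r').1 ⟨m', hr'.symm⟩
    rw [hB0, Ideal.mem_bot] at h1 h2
    rw [← hr, ← hr', h1, h2]

include hdim hCB hM hp in
/-- Triviality spreads over a peeled component. -/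
theorem iso_extend {N : W.Modules} (hN : PicF.IsInvertible N)
    (hend : ∀ φ : Coh.structureModule C.subscheme ⟶ Coh.structureModule C.subscheme, φ ≠ 0 → IsIso φ)
    (hC1 : Subsingleton (Coh.HH C.subscheme ((Scheme.Modules.pullback C.subschemeι).obj (tmod M N)) 1))
    (eB : (Scheme.Modules.pullback B.subschemeι).obj N ≅ Coh.structureModule B.subscheme)
    (hCtriv : Nonempty ((Scheme.Modules.pullback C.subschemeι).obj N ≅ Coh.structureModule C.subscheme)) :
    Nonempty (N ≅ Coh.structureModule W) := by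
  haveI : IsLocallyNoetherian C.subscheme := LocallyOfFiniteType.isLocallyNoetherian C.subschemeι
  haveI : Coh.IsQCoh (Coh.structureModule C.subscheme) :=
    InvExt.isQCoh_of_isInvertible ParaFLib.isInvertible_structureModule
  obtain ⟨eC⟩ := hCtriv
  have hI := h1_ideal_tensor hdim hCB hM p hp hN hC1
  obtain ⟨τ, hτ⟩ := CastLib.ArtinSec.exists_lift_generating B hN hI eB
  have hcov : ∀ y : W, y ∈ C.support ∨ y ∈ B.support := fun y => by
    rw [or_iff_not_imp_left]
    intro hy
    rw [mem_support_iff_stalk]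
    intro hB
    have hC : IntMult.stalkIdeal C y = ⊤ := by
      by_contra hC
      exact hy ((mem_support_iff_stalk C y).2 hC)
    have h : IntMult.stalkIdeal (C * B) y = ⊥ := by rw [hCB, CliffCurveLib.stalkIdeal_bot']
    rw [DivisorialLib.stalkIdeal_mul, hC, hB, Ideal.top_mul] at h
    exact bot_ne_top h.symm
  suffices ∃ s : Coh.structureModule W ⟶ N, ∀ y, y ∈ CohB1.genLocus N s by
    obtain ⟨s, hs⟩ := this
    haveI : IsIso s := (isIso_iff_stalk s).2 fun y => bijective_of_mem_genLocus hN (hs y)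
    exact ⟨(asIso s).symm⟩
  have hN' := AmpleLib.isInvertible_pullback C.subschemeι hN
  by_cases hz : AmpleLib.pullS C.subschemeι τ ≫ eC.hom = 0
  swap
  · have hu := hend _ hz
    haveI := hu
    haveI : IsIso (AmpleLib.pullS C.subschemeι τ) := IsIso.of_isIso_comp_right (AmpleLib.pullS C.subschemeι τ) eC.hom
    refine ⟨τ, fun y => (hcov y).elim (fun hy => ?_) (hτ y)⟩
    obtain ⟨w, rfl⟩ : ∃ w, C.subschemeι w = y := by
      rw [← Set.mem_range, Scheme.IdealSheafData.range_subschemeι]; exact hy
    have : w ∈ CohB1.genLocus _ (AmpleLib.pullS C.subschemeι τ) := mem_genLocus_of_surjective hN'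
      ((isIso_iff_stalk (AmpleLib.pullS C.subschemeι τ)).1 inferInstance w).2
    rwa [AmpleLib.genLocus_pullS _ hN] at this
  have hng : ∀ y ∈ C.support, y ∉ CohB1.genLocus N τ := fun y hy hg => by
    obtain ⟨w, rfl⟩ : ∃ w, C.subschemeι w = y := by
      rw [← Set.mem_range, Scheme.IdealSheafData.range_subschemeι]; exact hy
    have h2 : w ∈ CohB1.genLocus _ (AmpleLib.pullS C.subschemeι τ) := by
      rw [AmpleLib.genLocus_pullS _ hN]; exact hg
    have h3 := bijective_of_mem_genLocus hN' h2
    rw [(cancel_mono eC.hom).1 (hz.trans (zero_comp (f := eC.hom)).symm), DevLib.stalkLin_zero] at h3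
    exact one_ne_zero ((ParaFLib.bijective_oneG w).1 (h3.1 (a₁ := (1 : C.subscheme.presheaf.stalk w) • ParaFLib.oneG w)
      (a₂ := (0 : C.subscheme.presheaf.stalk w) • ParaFLib.oneG w) rfl))
  have hdisj : Disjoint (C.support : Set W) (B.support : Set W) :=
    Set.disjoint_left.2 fun y hy hy' => hng y hy (hτ y hy')
  haveI := isIso_ideal_quot hCB hdisj
  let u : tmod (ClSub.idealMod B) N ≅ LJ C N :=
    AmpleLib.tIso (asIso (ClSub.idealModι B ≫ ClSub.toSubscheme C)) (Iso.refl N)
  let v : ClSub.quotMod C ≅ LJ C N :=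
    (Scheme.Modules.pushforward C.subschemeι).mapIso eC.symm ≪≫ (ljPush C N).symm
  let σ : Coh.structureModule W ⟶ N :=
    ClSub.toSubscheme C ≫ v.hom ≫ u.inv ≫ tmap (ClSub.idealModι B) N ≫ (AmpleLib.unitL N).hom
  refine ⟨τ + σ, fun y => ?_⟩
  by_cases hy : y ∈ C.support
  · rw [add_comm]
    refine mem_genLocus_add hN (mem_genLocus_of_surjective hN ?_) (hng y hy)
    have hB : IntMult.stalkIdeal B y = ⊤ := by
      by_contra hB
      exact Set.disjoint_left.1 hdisj hy ((mem_support_iff_stalk B y).2 hB)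
    have h1 : Function.Surjective (stalkLin (ClSub.toSubscheme C) y) := fun z => by
      obtain ⟨r, rfl⟩ := qv_surjective C y z
      exact ⟨_, rfl⟩
    have h4 : Function.Surjective (stalkLin (tmap (ClSub.idealModι B) N) y) := fun z => by
      obtain ⟨z, rfl⟩ := (stalkTensor y (Coh.structureModule W) N).surjective z
      induction z with
      | zero => exact ⟨0, by rw [map_zero, map_zero]⟩
      | tmul a n =>
        obtain ⟨r, rfl⟩ := (ParaFLib.bijective_oneG y).2 a
        obtain ⟨m, hm⟩ := (HilbObsLib.mem_range_idealModι B y r).2 (hB ▸ Submodule.mem_top)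
        exact ⟨stalkTensor y (ClSub.idealMod B) N (m ⊗ₜ[W.presheaf.stalk y] n), by
          rw [stalkTensor_natural_left, LinearMap.rTensor_tmul, hm]⟩
      | add a b ha hb =>
        obtain ⟨a', ha'⟩ := ha
        obtain ⟨b', hb'⟩ := hb
        exact ⟨a' + b', by rw [map_add, ha', hb', map_add]⟩
    simp only [σ, stalkLin_comp, LinearMap.coe_comp]
    exact ((((isIso_iff_stalk _).1 inferInstance y).2.comp h4).comp
      ((isIso_iff_stalk u.inv).1 inferInstance y).2).comp (((isIso_iff_stalk v.hom).1 inferInstance y).2) |>.comp h1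
  · refine mem_genLocus_add hN (hτ y ((hcov y).resolve_left hy)) fun hg => ?_
    have hC : IntMult.stalkIdeal C y = ⊤ := by
      by_contra hC
      exact hy ((mem_support_iff_stalk C y).2 hC)
    have h0 : stalkLin σ y (ParaFLib.oneG y) = 0 := by
      simp only [σ, stalkLin_comp, LinearMap.coe_comp, Function.comp_apply]
      have : stalkLin (ClSub.toSubscheme C) y (ParaFLib.oneG y) = 0 := by
        have := (qv_eq_zero_iff C y 1).2 (hC ▸ Submodule.mem_top)
        rwa [qv, one_smul] at this
      rw [this, map_zero, map_zero, map_zero, map_zero]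
    have h3 := (bijective_of_mem_genLocus hN hg).1 (h0.trans (map_zero _).symm)
    exact one_ne_zero ((ParaFLib.bijective_oneG y).1 (show (1 : W.presheaf.stalk y) • ParaFLib.oneG y =
      (0 : W.presheaf.stalk y) • ParaFLib.oneG y by rw [one_smul, zero_smul, h3]))

end Groth.Agent.CanonFac
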