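import Mathlib

/-!
# Herbrand quotients of multiplication maps over a one-dimensional finite domain
-/

set_option autoImplicit false

universe u v w

open scoped Pointwise

namespace Groth.Agent.CanonFac.Herbrand

variable {R : Type u} [CommRing R] [IsDomain R] [IsDiscreteValuationRing R] {A : Type v} [CommRing A] [IsDomain A]
  [Algebra R A] [Module.Finite R A]

/-- A finite module killed by a non-zero element has finite length. -/
theorem length_ne_top_of_killed {M : Type w} [AddCommGroup M] [Module A M] [Module R M] [IsScalarTower R A M]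
    [Module.Finite A M] {c : A} (hc : c ≠ 0) (h : ∀ m : M, c • m = 0) : Module.length R M ≠ ⊤ := by
  obtain ⟨r, hr0, b, hb⟩ : ∃ r : R, r ≠ 0 ∧ ∃ b : A, algebraMap R A r = b * c := by
    haveI : Algebra.IsIntegral R A := Algebra.IsIntegral.of_finite R A
    obtain ⟨r, hr, hr0⟩ := (Submodule.ne_bot_iff _).1 (Ideal.comap_ne_bot_of_integral_mem (R := R) (S := A) (I := Ideal.span ({c} : Set A)) hc
      (Ideal.mem_span_singleton_self c) (Algebra.IsIntegral.isIntegral c))
    obtain ⟨b, hb⟩ := Ideal.mem_span_singleton'.1 (Ideal.mem_comap.1 hr)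
    exact ⟨r, hr0, b, hb.symm⟩
  haveI : Module.Finite R M := Module.Finite.trans A M
  obtain ⟨π, hπ⟩ := IsDiscreteValuationRing.exists_irreducible R
  let I : Ideal R := Ideal.span {r}
  have hI : I ≤ Module.annihilator R M := by
    rw [Ideal.span_le, Set.singleton_subset_iff, SetLike.mem_coe, Module.mem_annihilator]
    intro m
    rw [← algebraMap_smul A, hb, mul_smul, h, smul_zero]
  haveI : IsArtinianRing (R ⧸ I) := by
    haveI : Ring.KrullDimLE 0 (R ⧸ I) := by
      refine Ring.KrullDimLE.mk₀ fun P hP => ?_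
      have hP' : (P.comap (Ideal.Quotient.mk I)).IsPrime := Ideal.comap_isPrime _ P
      have hne : P.comap (Ideal.Quotient.mk I) ≠ ⊥ := fun h0 => hr0 (Ideal.mem_bot.1 (h0 ▸ Ideal.mem_comap.2 (by
        rw [Ideal.Quotient.eq_zero_iff_mem.2 (Ideal.mem_span_singleton_self r)]; exact P.zero_mem)))
      have hmax := Ideal.IsPrime.isMaximal hP' hne
      rcases Ideal.map_eq_top_or_isMaximal_of_surjective (Ideal.Quotient.mk I) Ideal.Quotient.mk_surjective hmax with h1 | h1
      · exact absurd ((Ideal.map_comap_of_surjective _ Ideal.Quotient.mk_surjective P).symm.trans h1) hP.ne_top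
      · rwa [Ideal.map_comap_of_surjective _ Ideal.Quotient.mk_surjective P] at h1
    exact IsNoetherianRing.isArtinianRing_of_krullDimLE_zero
  have hT : Module.IsTorsionBySet R M (I : Set R) := fun m i => Module.mem_annihilator.1 (hI i.2) m
  letI : Module (R ⧸ I) M := hT.module
  haveI : IsScalarTower R (R ⧸ I) M := IsScalarTower.of_algebraMap_smul fun r m => hT.mk_smul r m
  haveI : Module.Finite (R ⧸ I) M := Module.Finite.of_restrictScalars_finite R (R ⧸ I) M
  rw [Module.length_eq_of_surjective (R := R ⧸ I) Ideal.Quotient.mk_surjective]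
  exact Module.length_ne_top

theorem length_quot_span_ne_top {a : A} (ha : a ≠ 0) : Module.length R (A ⧸ Ideal.span {a}) ≠ ⊤ :=
  length_ne_top_of_killed ha fun m => by
    obtain ⟨x, rfl⟩ := Ideal.Quotient.mk_surjective m
    exact Ideal.Quotient.eq_zero_iff_mem.2 (Ideal.mul_mem_right _ _ (Ideal.mem_span_singleton_self a))

theorem length_ker_range {M N : Type*} [AddCommGroup M] [Module R M] [AddCommGroup N] [Module R N] (f : M →ₗ[R] N) :
    Module.length R M = Module.length R (LinearMap.ker f) + Module.length R (LinearMap.range f) :=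
  Module.length_eq_add_of_exact (LinearMap.ker f).subtype f.rangeRestrict (Submodule.injective_subtype _)
    f.surjective_rangeRestrict (by
      rw [LinearMap.exact_iff, LinearMap.ker_rangeRestrict, Submodule.range_subtype])

/-- **The Herbrand quotient of a multiplication is proportional to that of the ring.** -/
theorem exists_rank {M : Type w} [AddCommGroup M] [Module A M] [Module R M] [IsScalarTower R A M]
    [Module.Finite A M] :
    ∃ h : ℕ, ∀ a : A, a ≠ 0 →
      Module.length R (M ⧸ LinearMap.range (Algebra.lsmul R R M a)) ≠ ⊤ ∧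
      Module.length R (LinearMap.ker (Algebra.lsmul R R M a)) ≠ ⊤ ∧
      ((Module.length R (M ⧸ LinearMap.range (Algebra.lsmul R R M a))).toNat : ℤ) -
          (Module.length R (LinearMap.ker (Algebra.lsmul R R M a))).toNat =
        (h : ℤ) * (Module.length R (A ⧸ Ideal.span {a})).toNat := by
  classical
  haveI : IsNoetherianRing A := isNoetherian_of_tower R inferInstance
  haveI : IsNoetherian A M := inferInstance
  obtain ⟨s, hs, hmax⟩ := exists_maximal_linearIndepOn A (id : M → M)
  have hsfin : s.Finite := LinearIndependent.set_finite_of_isNoetherian hs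
  haveI := hsfin.fintype
  let N₀ : Submodule A M := Submodule.span A s
  let ψ : (s → A) →ₗ[A] M := Fintype.linearCombination A (fun i : s => (i : M))
  have hψ : Function.Injective ψ := LinearIndependent.fintypeLinearCombination_injective hs
  have hψr : LinearMap.range ψ = N₀ := by
    rw [Fintype.range_linearCombination, Subtype.range_coe]
  -- the quotient has finite length
  have hkill : ∀ m : M, ∃ c : A, c ≠ 0 ∧ c • m ∈ N₀ := fun m => by
    by_cases hm : m ∈ s
    · exact ⟨1, one_ne_zero, by rw [one_smul]; exact Submodule.subset_span hm⟩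
    · obtain ⟨c, hc, hcm⟩ := hmax m hm
      exact ⟨c, hc, by simpa using hcm⟩
  obtain ⟨T, hT⟩ := Module.Finite.fg_top (R := A) (M := M)
  choose c hc hcm using hkill
  let c₀ : A := ∏ m ∈ T, c m
  have hc₀ : c₀ ≠ 0 := Finset.prod_ne_zero_iff.2 fun m _ => hc m
  have hc₀m : ∀ m : M, c₀ • m ∈ N₀ := fun m => by
    have hm : m ∈ Submodule.span A (T : Set M) := hT ▸ Submodule.mem_top
    induction hm using Submodule.span_induction with
    | mem x hx =>
      rw [show c₀ = (∏ y ∈ T.erase x, c y) * c x from (Finset.prod_erase_mul T c hx).symm, mul_smul]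
      exact N₀.smul_mem _ (hcm x)
    | zero => rw [smul_zero]; exact N₀.zero_mem
    | add x y _ _ hx hy => rw [smul_add]; exact N₀.add_mem hx hy
    | smul b x _ hx => rw [smul_comm]; exact N₀.smul_mem _ hx
  have hQ : Module.length R (M ⧸ N₀) ≠ ⊤ := length_ne_top_of_killed hc₀ fun q => by
    obtain ⟨m, rfl⟩ := N₀.mkQ_surjective q
    rw [← map_smul]
    exact (Submodule.Quotient.mk_eq_zero N₀).2 (hc₀m m)
  refine ⟨Fintype.card s, fun a ha => ?_⟩
  let μ : M →ₗ[R] M := Algebra.lsmul R R M a
  let N : Submodule R M := N₀.restrictScalars R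
  let aN : Submodule R M := N.map μ
  have hμ : ∀ m, μ m = a • m := fun m => rfl
  have hKN : ∀ m, μ m = 0 → m ∈ N → m = 0 := fun m hm hmN => by
    obtain ⟨x, rfl⟩ : m ∈ LinearMap.range ψ := hψr.symm ▸ hmN
    rw [hμ, ← map_smul, LinearMap.map_eq_zero_iff ψ hψ] at hm
    rw [(smul_eq_zero.1 hm).resolve_left ha, map_zero]
  have haNN : aN ≤ N := Submodule.map_le_iff_le_comap.2 fun m hm => N₀.smul_mem a hm
  have haNM : aN ≤ LinearMap.range μ := LinearMap.map_le_range
  -- `M ⧸ aN` through `N`
  let ρ : (s → A) →ₗ[R] M ⧸ aN := aN.mkQ ∘ₗ ψ.restrictScalars R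
  have hρk : LinearMap.ker ρ = (Submodule.pi Set.univ fun _ : s => (Ideal.span {a} : Ideal A)).restrictScalars R := by
    ext x
    simp only [ρ, LinearMap.mem_ker, LinearMap.comp_apply, LinearMap.restrictScalars_apply, Submodule.mkQ_apply,
      Submodule.Quotient.mk_eq_zero, Submodule.restrictScalars_mem, Submodule.mem_pi, Set.mem_univ, true_implies]
    constructor
    · rintro ⟨n, hn, he⟩ i
      obtain ⟨y, rfl⟩ : n ∈ LinearMap.range ψ := hψr.symm ▸ hn
      rw [hμ, ← map_smul] at he
      exact Ideal.mem_span_singleton'.2 ⟨y i, by rw [← hψ he, Pi.smul_apply, smul_eq_mul, mul_comm]⟩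
    · intro hx
      choose y hy using fun i => Ideal.mem_span_singleton'.1 (hx i)
      refine ⟨ψ y, (hψr.le (LinearMap.mem_range_self ψ y) : ψ y ∈ N₀), ?_⟩
      rw [hμ, ← map_smul]
      exact congrArg ψ (funext fun i => by rw [Pi.smul_apply, smul_eq_mul, mul_comm, hy])
  have hρlen : Module.length R (LinearMap.range ρ) = (Fintype.card s : ℕ∞) * Module.length R (A ⧸ Ideal.span {a}) := by
    rw [← ρ.quotKerEquivRange.length_eq, (Submodule.quotEquivOfEq _ _ hρk).length_eq]
    rw [(Submodule.Quotient.restrictScalarsEquiv R _).length_eq,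
      ((Submodule.quotientPi fun _ : s => (Ideal.span {a} : Ideal A)).restrictScalars R).length_eq]
    rw [Module.length_pi_of_fintype, Finset.sum_const, Finset.card_univ, nsmul_eq_mul]
  have hρq : Module.length R (M ⧸ aN) = Module.length R (LinearMap.range ρ) + Module.length R (M ⧸ N₀) := by
    refine Module.length_eq_add_of_exact (LinearMap.range ρ).subtype
      ((Submodule.factor haNN : M ⧸ aN →ₗ[R] M ⧸ N)) (Submodule.injective_subtype _)
      (Submodule.factor_surjective haNN) ?_ |>.trans ?_
    · rw [LinearMap.exact_iff, Submodule.range_subtype]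
      ext z
      obtain ⟨m, rfl⟩ := aN.mkQ_surjective z
      simp only [LinearMap.mem_ker, LinearMap.mem_range, ρ, LinearMap.comp_apply, LinearMap.restrictScalars_apply]
      show (Submodule.Quotient.mk m : M ⧸ N) = 0 ↔ _
      rw [Submodule.Quotient.mk_eq_zero]
      constructor
      · intro hm
        obtain ⟨x, hx⟩ : m ∈ LinearMap.range ψ := hψr.symm ▸ hm
        exact ⟨x, by rw [hx]⟩
      · rintro ⟨x, hx⟩
        have h1 : ψ x - m ∈ aN := (Submodule.Quotient.eq aN).1 hx
        have h2 : ψ x ∈ N := (hψr ▸ LinearMap.mem_range_self ψ x : ψ x ∈ N₀)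
        have h3 := N.sub_mem h2 (haNN h1)
        rwa [sub_sub_cancel] at h3
    · rfl
  -- `M ⧸ aN` through `aM`
  let φ : M →ₗ[R] M ⧸ aN := aN.mkQ ∘ₗ μ
  have hφN : N ≤ LinearMap.ker φ := fun m hm => by
    rw [LinearMap.mem_ker, LinearMap.comp_apply, Submodule.mkQ_apply, Submodule.Quotient.mk_eq_zero]
    exact Submodule.mem_map_of_mem hm
  let φ' : (M ⧸ N) →ₗ[R] M ⧸ aN := N.liftQ φ hφN
  let j : LinearMap.ker μ →ₗ[R] LinearMap.ker φ' := LinearMap.codRestrict _ (N.mkQ ∘ₗ (LinearMap.ker μ).subtype)
    fun m => by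
      rw [LinearMap.mem_ker]
      show aN.mkQ (μ m.1) = 0
      rw [LinearMap.mem_ker.1 m.2, map_zero]
  have hj : Function.Bijective j := by
    refine ⟨(injective_iff_map_eq_zero j).2 fun m hm => ?_, fun ⟨z, hz⟩ => ?_⟩
    · have h1 : N.mkQ m.1 = 0 := congrArg Subtype.val hm
      exact Subtype.ext (hKN m.1 (LinearMap.mem_ker.1 m.2) ((Submodule.Quotient.mk_eq_zero N).1 h1))
    · obtain ⟨m, rfl⟩ := N.mkQ_surjective z
      rw [LinearMap.mem_ker] at hz
      obtain ⟨n, hn, hnm⟩ := (Submodule.Quotient.mk_eq_zero aN).1 hz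
      refine ⟨⟨m - n, by rw [LinearMap.mem_ker, map_sub, hnm, sub_self]⟩, Subtype.ext ?_⟩
      show N.mkQ (m - n) = N.mkQ m
      rw [map_sub, Submodule.mkQ_apply, Submodule.mkQ_apply, (Submodule.Quotient.mk_eq_zero N).2 hn, sub_zero]
  have hq1 : Module.length R (M ⧸ N) =
      Module.length R (LinearMap.ker μ) + Module.length R (LinearMap.range φ') := by
    rw [length_ker_range φ', (LinearEquiv.ofBijective j hj).length_eq]
  have hq2 : Module.length R (M ⧸ aN) =
      Module.length R (LinearMap.range φ') + Module.length R (M ⧸ LinearMap.range μ) := by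
    refine Module.length_eq_add_of_exact (LinearMap.range φ').subtype
      (Submodule.factor haNM) (Submodule.injective_subtype _) (Submodule.factor_surjective haNM) ?_
    rw [LinearMap.exact_iff, Submodule.range_subtype]
    ext z
    obtain ⟨m, rfl⟩ := aN.mkQ_surjective z
    rw [show LinearMap.range φ' = LinearMap.range φ from Submodule.range_liftQ N φ hφN]
    show (Submodule.Quotient.mk m : M ⧸ LinearMap.range μ) = 0 ↔ _
    rw [Submodule.Quotient.mk_eq_zero]
    constructor
    · rintro ⟨y, hy⟩
      exact ⟨y, by show aN.mkQ (μ y) = _; rw [hy]⟩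
    · rintro ⟨y, hy⟩
      have h1 := haNM ((Submodule.Quotient.eq aN).1 hy)
      have h2 := Submodule.sub_mem _ (LinearMap.mem_range_self μ y) h1
      rwa [sub_sub_cancel] at h2
  have hA := length_quot_span_ne_top (R := R) ha
  have hQN : Module.length R (M ⧸ N) = Module.length R (M ⧸ N₀) := rfl
  have hk : Module.length R (LinearMap.ker μ) ≠ ⊤ := fun e => hQ (by rw [← hQN, hq1, e, top_add])
  have hr : Module.length R (LinearMap.range φ') ≠ ⊤ := fun e => hQ (by rw [← hQN, hq1, e, add_top])
  have hMaN : Module.length R (M ⧸ aN) ≠ ⊤ := by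
    rw [hρq, hρlen]
    exact WithTop.add_ne_top.2 ⟨WithTop.mul_ne_top (ENat.natCast_ne_top _) hA, hQ⟩
  have hc1 : Module.length R (M ⧸ LinearMap.range μ) ≠ ⊤ := fun e => hMaN (by rw [hq2, e, add_top])
  refine ⟨hc1, hk, ?_⟩
  have e1 := congrArg ENat.toNat (hρq.symm.trans hq2)
  have e2 := congrArg ENat.toNat (hQN.symm.trans hq1)
  rw [hρlen] at e1
  erw [ENat.toNat_add (WithTop.mul_ne_top (ENat.natCast_ne_top _) hA) hQ, ENat.toNat_add hr hc1,
    ENat.toNat_mul, ENat.toNat_natCast] at e1
  rw [ENat.toNat_add hk hr] at e2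
  show ((Module.length R (M ⧸ LinearMap.range μ)).toNat : ℤ) - (Module.length R (LinearMap.ker μ)).toNat = _
  omega

end Groth.Agent.CanonFac.Herbrand
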