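import Groth.Agent.CanonFacLib.Genus
import Groth.Agent.CanonFacLib.Herbrand
import Groth.Agent.CanonFacLib.Supported
import Groth.Agent.CastLib.StrictPoint
import Groth.Agent.CastLib.ToSpec
import Groth.Agent.CastLib.GGContract
import Groth.Agent.H1ZeroLib.Relative

/-!
# Connected components of the closed fibre
-/

set_option autoImplicit false
set_option backward.isDefEq.respectTransparency false
set_option linter.style.haveILetI false
set_option linter.unusedSectionVars false
set_option maxHeartbeats 2000000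

universe u

open CategoryTheory CategoryTheory.Limits AlgebraicGeometry TopologicalSpace IsLocalRing

noncomputable section

namespace Groth.Agent.CanonFac

variable {R : Type u} [CommRing R] [IsDomain R] [IsDiscreteValuationRing R] {X : Over (Spec (CommRingCat.of R))}

local notation "K" => IsLocalRing.ResidueField R

theorem secOf_smul_ring {A : Type u} [CommRing A] {Z : Scheme.{u}} [Z.Over (Spec (CommRingCat.of A))]
    (N : Z.Modules) (r : A) (c : Coh.HH Z N 0) :
    CurveLib.secOf N (r • c) =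
      (show Γ(Z, ⊤) from Coh.toGlobal (Z ↘ Spec (CommRingCat.of A)) r) • CurveLib.secOf N c := by
  show CohBase.H0Equiv (⊤ : Z.Opens) (Coh.toAb N) (CohBase.HEquiv _ 0 (Sheaf.H.map (Coh.smulAb N _) 0 c)) = _
  rw [CohBase.HEquiv_map, CohBase.H0Equiv_hmap, Coh.smulAb_app]
  exact congrArg (fun a : Γ(Z, ⊤) => a • CurveLib.secOf N c) (ConcreteCategory.congr_hom (Z.presheaf.map_id _) _)

theorem finite_globalFun_gen {A : Type u} [CommRing A] {Z : Scheme.{u}} [Z.Over (Spec (CommRingCat.of A))]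
    [Module.Finite A (Coh.HH Z (Coh.structureModule Z) 0)] :
    letI : Algebra A Γ(Z, ⊤) := (Coh.toGlobal (Z ↘ Spec (CommRingCat.of A))).toAlgebra
    Module.Finite A Γ(Z, ⊤) := by
  letI : Algebra A Γ(Z, ⊤) := (Coh.toGlobal (Z ↘ Spec (CommRingCat.of A))).toAlgebra
  let φ : Coh.HH Z (Coh.structureModule Z) 0 →ₗ[A] Γ(Z, ⊤) :=
    { toFun := fun c => (show Γ(Z, ⊤) from CurveLib.secOf (Coh.structureModule Z) c)
      map_add' := fun c d => map_add (CurveLib.secOf (Coh.structureModule Z)) c d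
      map_smul' := fun r c => (secOf_smul_ring (A := A) (Coh.structureModule Z) r c).trans
        (Algebra.smul_def r (show Γ(Z, ⊤) from CurveLib.secOf (Coh.structureModule Z) c)).symm }
  exact Module.Finite.of_surjective φ (CurveLib.secOf (Coh.structureModule Z)).surjective

/-- Global functions of an arithmetic surface are finite over the base. -/
theorem finite_globalFun (hX : ArSurf.IsArithSurface R X) :
    letI : Algebra R Γ(X.left, ⊤) := (Coh.toGlobal X.hom).toAlgebra
    Module.Finite R Γ(X.left, ⊤) := by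
  letI : X.left.Over (Spec (CommRingCat.of R)) := ⟨X.hom⟩
  haveI := (SurfPtBlow.arSurf_facts hX).1
  haveI := (SurfPtBlow.arSurf_facts hX).2
  haveI : IsProper (X.left ↘ Spec (CommRingCat.of R)) := ‹IsProper X.hom›
  haveI : Module.Finite R (Coh.HH X.left (Coh.structureModule X.left) 0) :=
    ProperFin.allFin_of_isCoh (A := R) (X.left ↘ Spec (CommRingCat.of R)) _
      (DevLib.isCoh_structureModule X.left) 0
  exact finite_globalFun_gen (A := R) (Z := X.left)

/-- An isolated vertical divisor is the zero locus of a global function. -/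
theorem exists_param (hX : ArSurf.IsArithSurface R X) (E : ArSurf.VertComp R X)
    (hiso : ∃ U : X.left.Opens, (U : Set X.left) ∩ Models.specialFibreSet R X = Set.range E.ι.base) :
    ∃ a : Γ(X.left, ⊤), a ≠ 0 ∧ ∀ x : X.left, x ∈ X.left.basicOpen a ↔ x ∉ Set.range E.ι.base := by
  classical
  haveI := hX.2.1
  haveI := (SurfPtBlow.arSurf_facts hX).1
  haveI := (SurfPtBlow.arSurf_facts hX).2
  haveI := E.isIntegral
  haveI := CastLib.isProper_vertComp E
  letI : Algebra R Γ(X.left, ⊤) := (Coh.toGlobal X.hom).toAlgebra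
  haveI := finite_globalFun hX
  haveI : IsNoetherianRing Γ(X.left, ⊤) := isNoetherian_of_tower R inferInstance
  haveI : Algebra.IsIntegral R Γ(X.left, ⊤) := Algebra.IsIntegral.of_finite R _
  haveI : IsDomain Γ(X.left, ⊤) := @IsIntegral.component_integral X.left _ ⊤ ⟨⟨genericPoint X.left, trivial⟩⟩
  let σ := X.left.toSpecΓ
  have hσ : σ ≫ Spec.map (CommRingCat.ofHom (algebraMap R Γ(X.left, ⊤))) = X.hom := by
    refine ext_of_isAffine (CommRingCat.hom_ext (RingHom.ext fun x => ?_))
    have e := Iso.hom_inv_id_apply (Scheme.ΓSpecIso (CommRingCat.of R)) x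
    have h := CastLib.toGlobal_comp_specMap (A := R) (B := Γ(X.left, ⊤)) (algebraMap R Γ(X.left, ⊤)) σ
      ((Scheme.ΓSpecIso (CommRingCat.of R)).hom x)
    have h' : Coh.toGlobal σ (algebraMap R Γ(X.left, ⊤) ((Scheme.ΓSpecIso (CommRingCat.of R)).hom x)) =
        Coh.toGlobal X.hom ((Scheme.ΓSpecIso (CommRingCat.of R)).hom x) := by
      show σ.appTop ((Scheme.ΓSpecIso Γ(X.left, ⊤)).inv _) = _
      rw [Scheme.toSpecΓ_appTop, Iso.inv_hom_id_apply]
      rfl
    exact (congrArg _ e).symm.trans ((h.trans h').trans (congrArg X.hom.appTop.hom e))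
  haveI : IsProper (σ ≫ Spec.map (CommRingCat.ofHom (algebraMap R Γ(X.left, ⊤)))) := by rw [hσ]; infer_instance
  haveI : IsProper X.left.toSpecΓ := IsProper.of_comp σ (Spec.map (CommRingCat.ofHom (algebraMap R Γ(X.left, ⊤))))
  have hcomap : ∀ x : X.left, X.hom x = PrimeSpectrum.comap (algebraMap R Γ(X.left, ⊤)) (σ x) := fun x => by
    conv_lhs => rw [← hσ]
    rfl
  have hField : IsField Γ(E.curve.left, ⊤) := (S7639.result K E.curve.left).1
  let η := E.ι (genericPoint E.curve.left)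
  have ht : ∀ c, σ (E.ι c) = σ η := fun c => CastLib.GGContract.apply_eq_of_isField hField (E.ι ≫ σ) c _
  have hvert : ∀ c, X.hom (E.ι c) = closedPoint R := fun c => CastLib.vertComp_vertical E c
  obtain ⟨U, hU⟩ := hiso
  have hfib : ∀ x, σ x = σ η → x ∈ Set.range E.ι.base := fun x hx => by
    have hpre : _root_.IsPreconnected (σ ⁻¹' {σ η}) := CastLib.isPreconnected_fibre_toSpecΓ X.left (σ η)
    have hsub : σ ⁻¹' {σ η} ⊆ Models.specialFibreSet R X := fun y (hy : σ y = σ η) => by
      show X.hom y = closedPoint R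
      rw [hcomap y, hy, ← hcomap η]
      exact hvert _
    by_contra hne
    obtain ⟨y, hy, hy1, hy2⟩ := (isPreconnected_closed_iff.1 hpre) (Set.range E.ι.base)
      (Models.specialFibreSet R X ∩ (U : Set X.left)ᶜ) E.ι.isClosedEmbedding.isClosed_range
      ((Models.isClosed_specialFibreSet R X).inter U.isOpen.isClosed_compl)
      (fun y hy => by
        by_cases hyU : y ∈ (U : Set X.left)
        · exact Or.inl (hU ▸ ⟨hyU, hsub hy⟩)
        · exact Or.inr ⟨hsub hy, hyU⟩)
      ⟨η, rfl, genericPoint E.curve.left, rfl⟩ ⟨x, hx, hsub hx, fun hxU => hne (hU ▸ ⟨hxU, hsub hx⟩)⟩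
    exact hy2.2 ((hU.symm ▸ hy1 : y ∈ (U : Set X.left) ∩ Models.specialFibreSet R X)).1
  -- primes over the closed point
  let m := IsLocalRing.maximalIdeal R
  let t : Ideal Γ(X.left, ⊤) := (σ η).asIdeal
  have htp : t.IsPrime := (σ η).isPrime
  have htc : t.comap (algebraMap R Γ(X.left, ⊤)) = m :=
    congrArg PrimeSpectrum.asIdeal ((hcomap η).symm.trans (hvert _))
  let P₀ : Set (Ideal Γ(X.left, ⊤)) := {P | P.IsPrime ∧ P.comap (algebraMap R Γ(X.left, ⊤)) = m}
  have hP₀ : P₀.Finite := by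
    refine ((Ideal.map (algebraMap R Γ(X.left, ⊤)) m).finite_minimalPrimes_of_isNoetherianRing _).subset fun P hP => ?_
    refine ⟨⟨hP.1, Ideal.map_le_iff_le_comap.2 hP.2.ge⟩, fun Q hQ hQP => ?_⟩
    haveI := hQ.1
    haveI := hP.1
    have hQc : Q.comap (algebraMap R Γ(X.left, ⊤)) = m := le_antisymm
      ((Ideal.comap_mono hQP).trans hP.2.le) (Ideal.map_le_iff_le_comap.1 hQ.2)
    exact ((Ideal.isMaximal_of_isIntegral_of_isMaximal_comap Q (hQc.symm ▸ IsLocalRing.maximalIdeal.isMaximal R : (Q.comap (algebraMap R Γ(X.left, ⊤))).IsMaximal)).eq_of_le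
      hP.1.ne_top hQP).ge
  let s := insert ⊥ (hP₀.toFinset.erase t)
  have hprime : ∀ P ∈ s, P.IsPrime := fun P hP => by
    rcases Finset.mem_insert.1 hP with rfl | hP
    · exact Ideal.isPrime_bot
    · exact ((Set.Finite.mem_toFinset hP₀).1 (Finset.mem_of_mem_erase hP)).1
  obtain ⟨π, hπ⟩ := IsDiscreteValuationRing.exists_irreducible R
  have hinj : Function.Injective (algebraMap R Γ(X.left, ⊤)) := by
    rw [injective_iff_map_eq_zero]
    intro r hr
    by_contra hr0
    have h0 : X.hom (genericPoint X.left) = closedPoint R := by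
      refine PrimeSpectrum.ext (Ideal.ext fun q => ?_)
      rw [hcomap]
      show q ∈ (σ (genericPoint X.left)).asIdeal.comap _ ↔ _
      have hmax : ((σ (genericPoint X.left)).asIdeal.comap (algebraMap R Γ(X.left, ⊤))) = m := by
        refine IsLocalRing.eq_maximalIdeal ?_
        refine Ideal.IsPrime.isMaximal ?_ fun hb => hr0 (Ideal.mem_bot.1 (hb ▸ ?_))
        · exact Ideal.comap_isPrime _ _
        · rw [Ideal.mem_comap, hr]; exact Ideal.zero_mem _
      rw [hmax]; rfl
    exact CastLib.gen_ne_closedPoint hX h0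
  obtain ⟨a, hat, has⟩ : ∃ a ∈ t, ∀ P ∈ s, a ∉ P := by
    by_contra hno
    push Not at hno
    obtain ⟨P, hP, hle⟩ := (Ideal.subset_union_prime (f := id) ⊥ ⊥ (fun P hP _ _ => hprime P hP) (s := s) (I := t)).1
      (fun a ha => by
        obtain ⟨P, hP, haP⟩ := hno a ha
        exact Set.mem_biUnion (Finset.mem_coe.2 hP) haP)
    rcases Finset.mem_insert.1 hP with rfl | hP
    · have hπt : algebraMap R Γ(X.left, ⊤) π ∈ t := Ideal.mem_comap.1 (htc.ge (show π ∈ m by
        rw [show m = _ from hπ.maximalIdeal_eq]; exact Ideal.mem_span_singleton_self π))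
      exact hπ.ne_zero ((map_eq_zero_iff _ hinj).1 (Ideal.mem_bot.1 (hle hπt)))
    · obtain ⟨hne, hP'⟩ := Finset.mem_erase.1 hP
      have hPm : P.IsPrime ∧ P.comap _ = m := (Set.Finite.mem_toFinset hP₀).1 hP'
      haveI := htp
      haveI := hPm.1
      exact hne ((Ideal.isMaximal_of_isIntegral_of_isMaximal_comap t (htc.symm ▸ IsLocalRing.maximalIdeal.isMaximal R : (t.comap (algebraMap R Γ(X.left, ⊤))).IsMaximal)).eq_of_le
        hPm.1.ne_top hle).symm
  have ha0 : a ≠ 0 := fun h => has ⊥ (Finset.mem_insert_self _ _) (h ▸ Ideal.zero_mem _)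
  refine ⟨a, ha0, fun x => ?_⟩
  rw [← Scheme.toSpecΓ_preimage_basicOpen]
  show a ∉ (σ x).asIdeal ↔ _
  constructor
  · rintro hx ⟨c, rfl⟩
    exact hx (by rw [ht c]; exact hat)
  · intro hx hax
    let P : Ideal Γ(X.left, ⊤) := (σ x).asIdeal
    haveI : P.IsPrime := (σ x).isPrime
    have hne : P.comap (algebraMap R Γ(X.left, ⊤)) ≠ ⊥ := fun hb =>
      ha0 (Ideal.mem_bot.1 ((Ideal.eq_bot_of_comap_eq_bot hb).le hax))
    have hPm : P.comap (algebraMap R Γ(X.left, ⊤)) = m :=
      IsLocalRing.eq_maximalIdeal (Ideal.IsPrime.isMaximal (Ideal.comap_isPrime _ P) hne)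
    have hPs : P = t := by
      by_contra hPt
      exact has P (Finset.mem_insert_of_mem (Finset.mem_erase.2 ⟨hPt,
        (Set.Finite.mem_toFinset hP₀).2 ⟨inferInstance, hPm⟩⟩)) hax
    exact hx (hfib x (PrimeSpectrum.ext hPs))

/-- Euler characteristic of the divisor of a global function. -/
theorem chiLen_principal (hX : ArSurf.IsArithSurface R X) :
    letI : X.left.Over (Spec (CommRingCat.of R)) := ⟨X.hom⟩
    letI : Algebra R Γ(X.left, ⊤) := (Coh.toGlobal X.hom).toAlgebra
    ∃ c : ℤ, ∀ a : Γ(X.left, ⊤), a ≠ 0 → ∀ J : X.left.IdealSheafData,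
      (∀ z, IntMult.stalkIdeal J z = Ideal.span {(X.left.presheaf.germ ⊤ z trivial).hom a}) →
      CastLib.chiLen R (ClSub.quotMod J) = c * (Module.length R (Γ(X.left, ⊤) ⧸ Ideal.span {a})).toNat := by
  letI : X.left.Over (Spec (CommRingCat.of R)) := ⟨X.hom⟩
  letI : Algebra R Γ(X.left, ⊤) := (Coh.toGlobal X.hom).toAlgebra
  haveI := hX.2.1
  haveI := (SurfPtBlow.arSurf_facts hX).1
  haveI := (SurfPtBlow.arSurf_facts hX).2
  haveI : IsProper (X.left ↘ Spec (CommRingCat.of R)) := ‹IsProper X.hom›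
  haveI := finite_globalFun hX
  haveI : IsDomain Γ(X.left, ⊤) := @IsIntegral.component_integral X.left _ ⊤ ⟨⟨genericPoint X.left, trivial⟩⟩
  let O := Coh.structureModule X.left
  haveI : Coh.IsQCoh O := (DevLib.isCoh_structureModule X.left).1
  letI : ∀ i, Module Γ(X.left, ⊤) (Coh.HH X.left O i) := fun i => Coh.moduleΓtop O i
  haveI : ∀ i, IsScalarTower R Γ(X.left, ⊤) (Coh.HH X.left O i) := fun i =>
    IsScalarTower.of_algebraMap_smul fun _ _ => rfl
  haveI : ∀ i, Module.Finite Γ(X.left, ⊤) (Coh.HH X.left O i) := fun i => by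
    haveI : Module.Finite R (Coh.HH X.left O i) :=
      ProperFin.allFin_of_isCoh (A := R) (X.left ↘ Spec (CommRingCat.of R)) _
        (DevLib.isCoh_structureModule X.left) i
    exact Module.Finite.of_restrictScalars_finite R _ _
  obtain ⟨h₀, hh₀⟩ := Herbrand.exists_rank (R := R) (A := Γ(X.left, ⊤)) (M := Coh.HH X.left O 0)
  obtain ⟨h₁, hh₁⟩ := Herbrand.exists_rank (R := R) (A := Γ(X.left, ⊤)) (M := Coh.HH X.left O 1)
  refine ⟨(h₀ : ℤ) - h₁, fun a ha J hJ => ?_⟩
  obtain ⟨w, hS⟩ := SurfPtBlow.shortExact_smul ha hJ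
  have hf : ∀ i, CurveLib.hMap (k := R) (Formal.smulModΓ O a) i = Algebra.lsmul R R (Coh.HH X.left O i) a :=
    fun i => LinearMap.ext fun _ => rfl
  have hH2 : Subsingleton (Coh.HH X.left O 2) := H1ZeroLib.subsingleton_H2 X.hom (fun y =>
    CastLib.dim_le_of_fibre (IsDiscreteValuationRing.not_isField R) hX (X.hom.fiberι y) y
      fun z => (X.hom.range_fiberι y).le ⟨z, rfl⟩) O
  let g0 := CurveLib.hMap (k := R) (ClSub.toSubscheme J) 0
  let g1 := CurveLib.hMap (k := R) (ClSub.toSubscheme J) 1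
  let f0 := Algebra.lsmul R R (Coh.HH X.left O 0) a
  let f1 := Algebra.lsmul R R (Coh.HH X.left O 1) a
  obtain ⟨hc0, hk0, he0⟩ := hh₀ a ha
  obtain ⟨hc1, hk1, he1⟩ := hh₁ a ha
  have hk00 : Module.length R (LinearMap.ker f0) = 0 := by
    rw [show f0 = CurveLib.hMap (k := R) (Formal.smulModΓ O a) 0 from (hf 0).symm,
      LinearMap.ker_eq_bot.2 (CurveLib.hMap_f_zero_injective hS)]
    exact Module.length_eq_zero
  have r0 : Module.length R (LinearMap.range g0) = Module.length R (Coh.HH X.left O 0 ⧸ LinearMap.range f0) := by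
    rw [← g0.quotKerEquivRange.length_eq]
    refine (Submodule.quotEquivOfEq _ _ ?_).length_eq
    rw [show f0 = _ from (hf 0).symm]
    exact (CurveLib.range_hMap_f hS 0).symm
  have r1 : Module.length R (LinearMap.range g1) = Module.length R (Coh.HH X.left O 1 ⧸ LinearMap.range f1) := by
    rw [← g1.quotKerEquivRange.length_eq]
    refine (Submodule.quotEquivOfEq _ _ ?_).length_eq
    rw [show f1 = _ from (hf 1).symm]
    exact (CurveLib.range_hMap_f hS 1).symm
  have hsurj : LinearMap.range g1 = ⊤ := by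
    show LinearMap.range (CurveLib.hMap (k := R) (ShortComplex.mk _ (ClSub.toSubscheme J) w).g 1) = ⊤
    rw [CurveLib.range_hMap_g hS 1, LinearMap.ker_eq_top]
    exact LinearMap.ext fun x => Subsingleton.elim _ _
  have a0 := Herbrand.length_ker_range (CurveLib.hδ (k := R) hS 0)
  rw [← CurveLib.range_hMap_g hS 0, CurveLib.range_hδ hS 0] at a0
  change Module.length R (Coh.HH X.left (ClSub.quotMod J) 0) = Module.length R (LinearMap.range g0) +
    Module.length R (LinearMap.ker (CurveLib.hMap (k := R) (Formal.smulModΓ O a) 1)) at a0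
  rw [hf 1, r0] at a0
  have a1 : Module.length R (Coh.HH X.left (ClSub.quotMod J) 1) =
      Module.length R (Coh.HH X.left O 1 ⧸ LinearMap.range f1) := by
    rw [← r1, hsurj, Module.length_top]
  rw [CastLib.chiLen, a0, a1, ENat.toNat_add hc0 hk1]
  rw [show Module.length R (LinearMap.ker (Algebra.lsmul R R (Coh.HH X.left O 0) a)) = 0 from hk00] at he0
  simp only [ENat.toNat_zero, Nat.cast_zero, sub_zero] at he0
  rw [sub_mul, ← he0, ← he1]
  push_cast
  ring

theorem germ_toGlobal_toSpecΓ {Z : Scheme.{u}} (a : Γ(Z, ⊤)) :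
    Coh.toGlobal (A := Γ(Z, ⊤)) Z.toSpecΓ a = a := by
  show Z.toSpecΓ.appTop ((Scheme.ΓSpecIso Γ(Z, ⊤)).inv a) = _
  rw [Scheme.toSpecΓ_appTop, Iso.inv_hom_id_apply]

/-- **The Euler characteristics of an isolated component and of the generic fibre have the same sign.** -/
theorem euler_isolated (hX : ArSurf.IsArithSurface R X) (E : ArSurf.VertComp R X)
    (hiso : ∃ U : X.left.Opens, (U : Set X.left) ∩ Models.specialFibreSet R X = Set.range E.ι.base)
    {L : X.left.Modules} (hL : ClSub.IsInverseOf L (ClSub.idealMod E.ι.ker))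
    (hLE : ArSurf.inter R X L E = 0) :
    ∃ p q : ℕ, 0 < p ∧ 0 < q ∧ (p : ℤ) * ((Models.wdeg R X E : ℤ) - (Models.h1 R X E : ℤ)) =
      (q : ℤ) * FGA.eulerCharLE (FractionRing R) ((Neron.genericFibre R).obj X).left
        (Coh.structureModule ((Neron.genericFibre R).obj X).left) 1 := by
  letI : X.left.Over (Spec (CommRingCat.of R)) := ⟨X.hom⟩
  letI : Algebra R Γ(X.left, ⊤) := (Coh.toGlobal X.hom).toAlgebra
  haveI := hX.2.1
  haveI := (SurfPtBlow.arSurf_facts hX).1
  haveI := (SurfPtBlow.arSurf_facts hX).2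
  haveI := E.isIntegral
  haveI := finite_globalFun hX
  haveI : IsDomain Γ(X.left, ⊤) := @IsIntegral.component_integral X.left _ ⊤ ⟨⟨genericPoint X.left, trivial⟩⟩
  obtain ⟨a, ha, hloc⟩ := exists_param hX E hiso
  obtain ⟨c, hc⟩ := chiLen_principal hX
  let J₀ : (Spec (CommRingCat.of Γ(X.left, ⊤))).IdealSheafData := Curv2.idealSheaf Γ(X.left, ⊤) (Ideal.span {a})
  let J : X.left.IdealSheafData := J₀.comap X.left.toSpecΓ
  have hJ : ∀ z, IntMult.stalkIdeal J z = Ideal.span {(X.left.presheaf.germ ⊤ z trivial).hom a} := fun z => by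
    refine (SurfPtBlow.stalkIdeal_comap_principal (R := Γ(X.left, ⊤)) X.left.toSpecΓ a z).trans ?_
    rw [germ_toGlobal_toSpecΓ]
  have hJsupp : ∀ x, x ∈ J.support ↔ x ∈ Set.range E.ι.base := fun x => by
    rw [H1ZeroLib.mem_support_iff_stalk, hJ, ne_eq, Ideal.span_singleton_eq_top]
    rw [← Scheme.mem_basicOpen _ _ x (Opens.mem_top x), hloc, not_not]
  have hη : genericPoint X.left ∉ Set.range E.ι.base := by
    rintro ⟨w, hw⟩
    exact CastLib.gen_ne_closedPoint hX (hw ▸ CastLib.vertComp_vertical E w)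
  have hJc : BlowUp.IsEffCartierIdeal J := by
    refine CastLib.isEffCartier_comap_integral X.left.toSpecΓ (CastLib.StrictPoint.isEffCartier_span ha) fun h => hη ?_
    rw [← hJsupp, ← SetLike.mem_coe, Scheme.IdealSheafData.support_comap, Closeds.coe_preimage, Set.mem_preimage]
    exact h
  obtain ⟨b, hb⟩ := exists_eq_divIdeal hX (fun _ : Fin 1 => E) (Function.injective_of_subsingleton _) hJc
    (fun x hx => Set.mem_iUnion.2 ⟨0, (hJsupp x).1 hx⟩)
  have hb0 : 0 < b 0 := by
    by_contra hz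
    have h : E.ι (genericPoint E.curve.left) ∈ J.support := (hJsupp _).2 ⟨_, rfl⟩
    rw [H1ZeroLib.mem_support_iff_stalk, hb, CastLib.stalkIdeal_prod', Fin.prod_univ_one,
      show b 0 = 0 by omega, pow_zero, Ideal.one_eq_top] at h
    exact h rfl
  have hχb := CastLib.chiLen_prod (CastLib.VSurf.of_arith hX) (Γ := fun _ : Fin 1 => E)
    (Function.injective_of_subsingleton _) (L := fun _ => L) (fun _ => hL) b
  simp only [Fin.sum_univ_one, hLE, mul_zero, add_zero, sub_zero] at hχb
  rw [show (∏ j : Fin 1, E.ι.ker ^ b j) = J from hb.symm, hc a ha J hJ] at hχb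
  -- the fibre
  obtain ⟨π, hπ⟩ := IsDiscreteValuationRing.exists_irreducible R
  have hF : ∀ z, IntMult.stalkIdeal (SurfPtBlow.fibreIdeal X.hom) z =
      Ideal.span {(X.left.presheaf.germ ⊤ z trivial).hom (algebraMap R Γ(X.left, ⊤) π)} := fun z => by
    rw [SurfPtBlow.fibreIdeal, hπ.maximalIdeal_eq, SurfPtBlow.stalkIdeal_comap_principal]
    rfl
  have hnu : ∀ {c : Γ(X.left, ⊤)}, (∃ z, ¬IsUnit ((X.left.presheaf.germ ⊤ z trivial).hom c)) → c ≠ 0 →
      0 < (Module.length R (Γ(X.left, ⊤) ⧸ Ideal.span {c})).toNat := fun {c} ⟨z, hz⟩ h0 => by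
    haveI : Nontrivial (Γ(X.left, ⊤) ⧸ Ideal.span {c}) := Ideal.Quotient.nontrivial_iff.2 fun h =>
      hz ((Ideal.span_singleton_eq_top.1 h).map _)
    exact ENat.toNat_pos Module.length_pos.ne' (Herbrand.length_quot_span_ne_top h0)
  have hπ0 : algebraMap R Γ(X.left, ⊤) π ≠ 0 := fun h0 => by
    have h : genericPoint X.left ∈ (SurfPtBlow.fibreIdeal X.hom).support := by
      rw [H1ZeroLib.mem_support_iff_stalk, hF, h0, map_zero, ne_eq, Ideal.span_singleton_eq_top]
      exact not_isUnit_zero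
    exact CastLib.gen_ne_closedPoint hX (CastLib.FibreGood.mem_fibre.1 h)
  have hηE : E.ι (genericPoint E.curve.left) ∈ (SurfPtBlow.fibreIdeal X.hom).support :=
    CastLib.FibreGood.mem_fibre.2 (CastLib.vertComp_vertical E _)
  have hna : 0 < (Module.length R (Γ(X.left, ⊤) ⧸ Ideal.span {a})).toNat := hnu ⟨E.ι (genericPoint E.curve.left), fun h => by
    have h' := (hJsupp (E.ι (genericPoint E.curve.left))).2 ⟨_, rfl⟩
    rw [H1ZeroLib.mem_support_iff_stalk, hJ, ne_eq, Ideal.span_singleton_eq_top] at h'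
    exact h' h⟩ ha
  have hnπ : 0 < (Module.length R (Γ(X.left, ⊤) ⧸ Ideal.span {algebraMap R Γ(X.left, ⊤) π})).toNat :=
    hnu ⟨E.ι (genericPoint E.curve.left), fun h => by
      rw [H1ZeroLib.mem_support_iff_stalk, hF, ne_eq, Ideal.span_singleton_eq_top] at hηE
      exact hηE h⟩ hπ0
  refine ⟨b 0 * _, _, Nat.mul_pos hb0 hnπ, hna, ?_⟩
  rw [← chiLen_fibre_arith hX, hc _ hπ0 _ hF]
  push_cast
  have h2 : (b 0 : ℤ) * ((Models.wdeg R X E : ℤ) - (Models.h1 R X E : ℤ)) =
      c * (Module.length R (Γ(X.left, ⊤) ⧸ Ideal.span {a})).toNat := by linarith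
  linear_combination ((Module.length R (Γ(X.left, ⊤) ⧸ Ideal.span {algebraMap R Γ(X.left, ⊤) π})).toNat : ℤ) * h2

end Groth.Agent.CanonFac
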