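import Groth.Agent.CanonFacLib.Det
import Groth.Agent.CastLib.EulerMultiple
import Groth.Agent.FundLocIsoLib.ProjTopForms
import Groth.Agent.FundLocIsoLib.LciDual
import Groth.Agent.ProjOverLib.Affine
import Groth.Agent.BlowChartLib.RegStalk
import Groth.Agent.CompleteCurve.ProjSpace
import Groth.Agent.CastLib.PicKernel

/-!
# The adjunction formula for a divisor in the closed fibre of an arithmetic surface
-/

set_option autoImplicit false
set_option backward.isDefEq.respectTransparency false
set_option linter.style.haveILetI false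
set_option linter.unusedSectionVars false
set_option maxHeartbeats 2000000

universe u

open CategoryTheory CategoryTheory.Limits AlgebraicGeometry TopologicalSpace Opposite
open Groth.Agent.PullbackMod Groth.Agent.DCohLib Groth.Agent.ParaFLib
open Groth.Agent.IntLib (mk pullCls mk_congr mk_tensor mk_eq_mk pullCls_mk)

noncomputable section

namespace Groth.Agent.CanonFac

variable {R : Type u} [CommRing R] [IsDomain R] [IsDiscreteValuationRing R]

local notation "K" => IsLocalRing.ResidueField R

theorem pullCls_comp {X Y Z : Scheme.{u}} (f : X ⟶ Y) (g : Y ⟶ Z) (M : Z.Modules) :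
    pullCls (f ≫ g) (mk M) = pullCls f (pullCls g (mk M)) :=
  mk_congr ((Scheme.Modules.pullbackComp f g).app M).symm

theorem regular_stalk_spec (A : Type u) [CommRing A] [IsRegularRing A] (s : Spec (CommRingCat.of A)) :
    IsRegularLocalRing ((Spec (CommRingCat.of A)).presheaf.stalk s) := by
  haveI : IsRegularLocalRing (Localization.AtPrime s.asIdeal) := inferInstance
  letI : Algebra A ((Spec (CommRingCat.of A)).presheaf.stalk s) := StructureSheaf.stalkAlgebra A s
  haveI : IsLocalization.AtPrime ((Spec (CommRingCat.of A)).presheaf.stalk s) s.asIdeal :=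
    StructureSheaf.IsLocalization.to_stalk A s
  exact IsRegularLocalRing.of_ringEquiv (R := Localization.AtPrime s.asIdeal)
    (IsLocalization.algEquiv s.asIdeal.primeCompl (Localization.AtPrime s.asIdeal)
      ((Spec (CommRingCat.of A)).presheaf.stalk s)).toRingEquiv

/-- The canonical sheaf of a divisor in the closed fibre, through projective space. -/
theorem exists_adjunction {X : Over (Spec (CommRingCat.of R))} (hX : ArSurf.IsArithSurface R X)
    {ω : X.left.Modules} (hω : Canon.IsCanonical X.hom ω)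
    {Z : Scheme.{u}} (z : Z ⟶ X.left) [IsClosedImmersion z] (hZ : BlowUp.IsEffCartierIdeal z.ker)
    (q : Z ⟶ Spec (CommRingCat.of K))
    (hw : z ≫ X.hom = q ≫ Spec.map (CommRingCat.ofHom (IsLocalRing.residue R)))
    (hdim : ∀ x : Z, IsClosed ({x} : Set Z) → ringKrullDim (Z.presheaf.stalk x) = 1) [Nonempty Z]
    {L : X.left.Modules} (hL : ClSub.IsInverseOf L (ClSub.idealMod z.ker)) :
    ∃ (N : ℕ) (e : Z ⟶ CohB1.ProjSpace N K), IsClosedImmersion e ∧ e ≫ CohB1.ProjSpace.toSpec N K = q ∧
      1 ≤ N ∧ RegImm.IsRegularImmersionOfCodim RegImm.Kind.regular (N - 1) e ∧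
      Canon.IsCanonicalVia e (CohB1.ProjSpace.toSpec N K) (N - 1) N
        ((Scheme.Modules.pullback z).obj (CohB1.tensorMod L ω)) := by
  haveI := hX.2.1
  haveI := hX.2.2.2.1
  obtain ⟨hproper, hnoeth⟩ := SurfPtBlow.arSurf_facts hX
  haveI := hproper
  haveI := hnoeth
  -- the ambient projective space
  obtain ⟨N, i₀, hi₀, hi₀X⟩ := hX.2.2.2.2
  haveI := hi₀
  obtain ⟨e₀, he₀⟩ := ProjOverLib.exists_iso_polyProj N R
  let j : X.left ⟶ CohB1.ProjSpace N R := i₀ ≫ e₀.hom
  haveI : IsClosedImmersion j := inferInstanceAs (IsClosedImmersion (i₀ ≫ e₀.hom))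
  have hj : j ≫ CohB1.ProjSpace.toSpec N R = X.hom := by
    rw [Category.assoc]
    erw [he₀]
    exact hi₀X
  obtain ⟨t, hpb⟩ := ProjOverLib.exists_isPullback_polyProj N R K
  let t : CohB1.ProjSpace N K ⟶ CohB1.ProjSpace N R := t
  replace hpb : IsPullback t (CohB1.ProjSpace.toSpec N K) (CohB1.ProjSpace.toSpec N R)
    (Spec.map (CommRingCat.ofHom (IsLocalRing.residue R))) := hpb
  haveI : IsClosedImmersion (Spec.map (CommRingCat.ofHom (IsLocalRing.residue R))) :=
    IsClosedImmersion.spec_of_surjective _ IsLocalRing.residue_surjective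
  haveI : IsClosedImmersion t := MorphismProperty.of_isPullback (P := @IsClosedImmersion) hpb.flip inferInstance
  haveI : Smooth (CohB1.ProjSpace.toSpec N R) := SmoothOfRelativeDimension.smooth N _
  haveI : Smooth (CohB1.ProjSpace.toSpec N K) := SmoothOfRelativeDimension.smooth N _
  haveI : Flat (CohB1.ProjSpace.toSpec N R) := inferInstance
  haveI : IsLocallyNoetherian (CohB1.ProjSpace N R) :=
    LocallyOfFiniteType.isLocallyNoetherian (CohB1.ProjSpace.toSpec N R)
  haveI : IsLocallyNoetherian (CohB1.ProjSpace N K) :=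
    LocallyOfFiniteType.isLocallyNoetherian (CohB1.ProjSpace.toSpec N K)
  haveI : IsLocallyNoetherian Z := LocallyOfFiniteType.isLocallyNoetherian z
  haveI : CompactSpace Z := QuasiCompact.compactSpace_of_compactSpace z
  have hregP : ∀ p : CohB1.ProjSpace N R, IsRegularLocalRing ((CohB1.ProjSpace N R).presheaf.stalk p) := fun p =>
    BlowChartLib.regular_stalk_of_smooth (CohB1.ProjSpace.toSpec N R) p (regular_stalk_spec R _)
  have hregK : ∀ p : CohB1.ProjSpace N K, IsRegularLocalRing ((CohB1.ProjSpace N K).presheaf.stalk p) := fun p =>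
    BlowChartLib.regular_stalk_of_smooth (CohB1.ProjSpace.toSpec N K) p (regular_stalk_spec K _)
  -- the closed fibre of projective space
  have hker : t.ker = SurfPtBlow.fibreIdeal (CohB1.ProjSpace.toSpec N R) := by
    rw [← hpb.isoPullback_hom_fst, Scheme.Hom.ker_comp_of_isIso, SurfPtBlow.fibreIdeal,
      ← IsLocalRing.ker_residue (R := R), ← TwistShriek.ker_specMap]
    exact Scheme.IdealSheafData.ker_fst_of_isClosedImmersion _ _
  obtain ⟨hcart, ⟨etriv⟩⟩ := CastLib.nonempty_idealMod_fibre_of_flat (CohB1.ProjSpace.toSpec N R)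
  have ht1 : RegImm.IsRegularImmersionOfCodim RegImm.Kind.regular 1 t := codim_one_of_cartier t (hker ▸ hcart)
  have hz1 : RegImm.IsRegularImmersionOfCodim RegImm.Kind.regular 1 z := codim_one_of_cartier z hZ
  obtain ⟨c, hjc⟩ := exists_codim_irreducible j (RegIdealLib.isRegularImmersion_of_regular j hregP hX.1)
  -- the embedding of the divisor
  let e : Z ⟶ CohB1.ProjSpace N K := hpb.lift (z ≫ j) q (by rw [Category.assoc, hj, hw])
  have het : e ≫ t = z ≫ j := hpb.lift_fst _ _ _
  have heq : e ≫ CohB1.ProjSpace.toSpec N K = q := hpb.lift_snd _ _ _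
  haveI : IsClosedImmersion (e ≫ t) := by rw [het]; infer_instance
  haveI : IsClosedImmersion e := IsClosedImmersion.of_comp e t
  -- local equations at closed points
  have hcl : ∀ x : Z, IsClosed ({x} : Set Z) →
      c + 1 = N ∧ GenAt e x c ∧ ringKrullDim (Z.presheaf.stalk x) + c =
        ringKrullDim ((CohB1.ProjSpace N K).presheaf.stalk (e x)) := by
    intro x hx
    haveI := hregP (j (z x))
    haveI := hregP (t (e x))
    haveI := hregK (e x)
    haveI := hX.1 (z x)
    obtain ⟨hgz, hdz⟩ := dim_eq_of_regularImmersion z hz1 x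
    obtain ⟨hgj, hdj⟩ := dim_eq_of_regularImmersion j hjc (z x)
    obtain ⟨⟨rt, hrt, hkt⟩, hdt⟩ := dim_eq_of_regularImmersion t ht1 (e x)
    obtain ⟨a, rfl⟩ := List.length_eq_one_iff.1 hrt
    rw [Ideal.ofList_singleton] at hkt
    have hdK : ringKrullDim ((CohB1.ProjSpace N K).presheaf.stalk (e x)) = (N : WithBot ℕ∞) :=
      FundLocIsoLib.ringKrullDim_stalk_projSpace (e x) (by
        rw [← Set.image_singleton]
        exact e.isClosedEmbedding.isClosedMap _ hx)
    have hpt : t (e x) = j (z x) := by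
      rw [← Scheme.Hom.comp_apply, ← Scheme.Hom.comp_apply, het]
    have hNc : c + 1 = N := by
      have h1 := hdz inferInstance
      have h2 := hdj inferInstance
      have h3 := hdt inferInstance
      rw [hdim x hx] at h1
      rw [← h1, ← hpt, ← h3, hdK] at h2
      have : 1 + 1 + c = N + 1 := by exact_mod_cast h2
      omega
    have hg : GenAt (e ≫ t) x (c + 1) := by
      have := genAt_comp z j x hgj hgz
      rwa [← het] at this
    obtain ⟨rs, hrs, hkrs⟩ := hg
    rw [Scheme.Hom.stalkMap_comp, CommRingCat.hom_comp] at hkrs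
    let φ := (t.stalkMap (e x)).hom
    have hφ : Function.Surjective φ := t.stalkMap_surjective (e x)
    have ha2 := notMem_sq φ hφ hkt (by exact_mod_cast hdt inferInstance)
    obtain ⟨ss, hss, hmap⟩ := exists_list_quot φ hφ hkt ha2 (hrs : rs.length = c + 1)
      (hkrs ▸ IsLocalRing.le_maximalIdeal (RingHom.ker_ne_top _))
      (hkrs ▸ by
        rw [← RingHom.comap_ker, Ideal.mem_comap]
        have : φ a = 0 := by rw [← RingHom.mem_ker, hkt]; exact Ideal.mem_span_singleton_self a
        rw [this]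
        exact zero_mem _)
    refine ⟨hNc, ⟨ss, hss, ?_⟩, ?_⟩
    · rw [← hmap]
      show RingHom.ker (e.stalkMap x).hom = Ideal.map φ _
      erw [← hkrs]
      rw [← RingHom.comap_ker]
      exact (Ideal.map_comap_of_surjective _ hφ _).symm
    · rw [hdim x hx, hdK, ← hNc]
      push_cast
      exact add_comm _ _
  obtain ⟨x₀, -, hx₀⟩ := IsClosed.exists_closed_singleton (isClosed_univ (X := Z)) Set.univ_nonempty
  obtain rfl : c = N - 1 := by have := (hcl x₀ hx₀).1; omega
  have hN : 1 ≤ N := by have := (hcl x₀ hx₀).1; omega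
  have hec : RegImm.IsRegularImmersionOfCodim RegImm.Kind.regular (N - 1) e :=
    codim_of_closedPoints e (N - 1) fun x hx => ⟨hregK _, (hcl x hx).2⟩
  refine ⟨N, e, inferInstance, heq, hN, hec, ?_⟩
  -- top forms
  have hΩ := hasFrames_omega (CohB1.ProjSpace.toSpec N R) N
  haveI := (isQCoh_and_isFP_of_isFinLocFree _ hΩ.1).1
  obtain ⟨DP, -, hDP⟩ := ExtPowLib.exists_isExtPow (Omega.sheaf (CohB1.ProjSpace.toSpec N R)) N
  obtain ⟨eΩ⟩ := GrpOmega.omega_baseChange (f := CohB1.ProjSpace.toSpec N R) (f' := CohB1.ProjSpace.toSpec N K) hpb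
  have hDK : ExtPow.IsExtPow N (Omega.sheaf (CohB1.ProjSpace.toSpec N K)) ((Scheme.Modules.pullback t).obj DP) :=
    KVb.isExtPow_iso eΩ (Iso.refl _) (KVb.isExtPow_pullback t hDP)
  obtain ⟨Dj, -, hDj⟩ := ExtPowLib.exists_isExtPow (Omega.conormal j) (N - 1)
  obtain ⟨De, -, hDe⟩ := ExtPowLib.exists_isExtPow (Omega.conormal e) (N - 1)
  have hDji : PicF.IsInvertible Dj := (hasFrames_conormal j hjc).isInvertible hDj
  -- the canonical sheaf on the surface through projective space
  have hωj : mk ω * mk Dj = pullCls j (mk DP) := by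
    obtain ⟨W, i, g, c', n', hig, hi, hg, hiq, hgq, hvia⟩ := hω
    obtain ⟨Dinv, hDinv, ⟨eu⟩⟩ := AmpleEmb.exists_isInverseOf hDji
    let ω₀ := CohB1.tensorMod ((Scheme.Modules.pullback j).obj DP) Dinv
    have h0 : mk ω₀ * mk Dj = pullCls j (mk DP) := by
      rw [mk_tensor, mul_assoc, mul_comm (mk Dinv), ← mk_tensor Dj, mk_congr eu, IntLib.mk_structureModule, mul_one]
      rfl
    have hvia₀ : Canon.IsCanonicalVia j (CohB1.ProjSpace.toSpec N R) (N - 1) N ω₀ :=
      ⟨Dj, DP, hDj, hDP, mk_eq_mk.1 ((mk_tensor _ _).trans h0)⟩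
    haveI := hiq
    haveI := hgq
    obtain ⟨eω⟩ := nonempty_iso_via i g j (CohB1.ProjSpace.toSpec N R) (hig.trans hj.symm) hi hg hjc inferInstance
      hvia hvia₀
    rw [mk_congr eω, h0]
  -- the two determinants
  obtain ⟨DK, -, hDKe⟩ := ExtPowLib.exists_isExtPow (Omega.conormal (z ≫ j)) (N - 1 + 1)
  have hd1 := mk_det_comp j z hjc hz1 hDj (KVb.isExtPow_one _) hDKe
  have hd2 : mk DK = mk De := by
    have hDKt : ExtPow.IsExtPow (1 + (N - 1)) (Omega.conormal (e ≫ t)) DK := by
      rw [het, add_comm]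
      exact hDKe
    rw [mk_det_comp t e ht1 hec (KVb.isExtPow_one _) hDe hDKt]
    have htriv : mk (Omega.conormal t) = 1 := by
      show pullCls t (mk (ClSub.idealMod t.ker)) = 1
      rw [hker, mk_congr etriv, IntLib.mk_structureModule, map_one]
    rw [htriv, map_one, one_mul]
  have hLI : pullCls z (mk L) * mk (Omega.conormal z) = 1 := by
    show pullCls z (mk L) * pullCls z (mk (ClSub.idealMod z.ker)) = 1
    rw [← map_mul, CastLib.mk_mul_of_isInverseOf hL, map_one]
  refine ⟨De, (Scheme.Modules.pullback t).obj DP, hDe, hDK, mk_eq_mk.1 ?_⟩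
  rw [mk_tensor, ← pullCls_mk, ← pullCls_mk e, ← pullCls_mk t, ← pullCls_comp, het, pullCls_comp, ← hωj, ← hd2,
    hd1, mk_tensor, map_mul, map_mul]
  calc pullCls z (mk L) * pullCls z (mk ω) * (pullCls z (mk Dj) * mk (Omega.conormal z))
      = pullCls z (mk L) * mk (Omega.conormal z) * (pullCls z (mk ω) * pullCls z (mk Dj)) := by
        ac_rfl
    _ = pullCls z (mk ω) * pullCls z (mk Dj) := by rw [hLI, one_mul]

end Groth.Agent.CanonFac
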