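import Groth.Agent.CanonFacLib.Exc
import Groth.Agent.CastLib.NegDef
import Groth.Agent.CastLib.Dedekind
import Groth.Agent.CastLib.SmoothMin
import Groth.Agent.S7314

/-!
# Exceptional curves and relative minimality
-/

set_option autoImplicit false
set_option backward.isDefEq.respectTransparency false
set_option linter.style.haveILetI false
set_option linter.unusedSectionVars false
set_option maxHeartbeats 1000000

universe u

open CategoryTheory CategoryTheory.Limits AlgebraicGeometry TopologicalSpace IsLocalRing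

noncomputable section

namespace Groth.Agent.CanonFac

variable {R : Type u} [CommRing R] [IsDomain R] [IsDiscreteValuationRing R] {X : Over (Spec (CommRingCat.of R))}

/-- The kernel of an integral closed subscheme is the ideal of its generic point. -/
theorem ker_eq_cl {E Y : Scheme.{u}} [IsIntegral E] (ι : E ⟶ Y) [IsClosedImmersion ι] :
    ι.ker = CastLib.cl (ι (genericPoint E)) := by
  have h1 : ι.ker = Scheme.IdealSheafData.vanishingIdeal ι.ker.support := by
    rw [Scheme.IdealSheafData.vanishingIdeal_support]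
    refine le_antisymm (Scheme.IdealSheafData.le_radical _) fun U a ha ↦ ?_
    rw [Scheme.Hom.ker_apply, RingHom.mem_ker]
    obtain ⟨n, hn⟩ := ha
    rw [Scheme.Hom.ker_apply, RingHom.mem_ker, map_pow] at hn
    exact IsReduced.eq_zero _ ⟨n, hn⟩
  have h3 : Set.range ι = closure {ι (genericPoint E)} := by
    have h := (genericPoint_spec E).image ι.continuous
    rw [Set.image_univ, ι.isClosedEmbedding.isClosed_range.closure_eq] at h
    exact h.def.symm
  have h2 : ι.ker.support = (⟨closure {ι (genericPoint E)}, isClosed_closure⟩ : Closeds Y) := by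
    apply Closeds.ext
    rw [Scheme.Hom.support_ker, h3, closure_closure]
    rfl
  rw [h1, h2]
  rfl

/-- An exceptional curve in the closed fibre is a vertical prime divisor with negative canonical degree. -/
theorem exists_neg_of_excCurve (hX : ArSurf.IsArithSurface R X) {ω : X.left.Modules}
    (hω : Canon.IsCanonical X.hom ω) {E : Scheme.{u}} (ι : E ⟶ X.left) [IsClosedImmersion ι]
    (hE : Models.IsExcCurve ι) (hvert : ∀ c, X.hom (ι c) = closedPoint R) :
    ∃ Γ : ArSurf.VertComp R X, Γ.ι.ker = ι.ker ∧ ArSurf.inter R X ω Γ < 0 := by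
  have hV := CastLib.VSurf.of_arith hX
  haveI := hV.int
  haveI := hV.noeth
  haveI := (SurfPtBlow.arSurf_facts hX).1
  obtain ⟨hC, k', _, e, -⟩ := id hE
  haveI := SurfPtBlow.isIntegral_P1 (k := k')
  haveI : Nonempty E := ⟨e.hom (Classical.arbitrary _)⟩
  haveI : IsIntegral E := isIntegral_of_isOpenImmersion e.inv
  let η := ι (genericPoint E)
  have hker := ker_eq_cl ι
  have h1 : Order.coheight η = 1 := by
    refine CastLib.coheight_eq_one_of_maximal (I := ι.ker) hC ?_ fun ζ hζ hsp => ?_
    · rw [hker, CastLib.mem_support_cl]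
    · rw [hker, CastLib.mem_support_cl] at hζ
      exact (hsp.antisymm hζ).eq
  obtain ⟨n, Γ, hΓ⟩ := hV.exists_componentList' hX.2.2.1
  obtain ⟨-, -, hall⟩ := hV.toFibreGood.componentList hΓ
  obtain ⟨i, hi⟩ := hall η (hvert _) h1
  refine ⟨Γ i, ?_, ?_⟩
  · rw [CastLib.ker_vertComp, hker, hi]
  · have hk : (Γ i).ι.ker = ι.ker := by rw [CastLib.ker_vertComp, hker, hi]
    haveI := (Γ i).isClosedImmersion
    haveI := (Γ i).isIntegral
    haveI := CastLib.isProper_vertComp (Γ i)
    have hexc : Models.IsExcCurve (Γ i).ι := CastLib.isExcCurve_of_ker_eq hk.symm hE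
    obtain ⟨L, hL⟩ := CastLib.exists_inverse_idealMod hexc.1
    obtain ⟨hh1, hself⟩ := (CastLib.isExcCurve_iff (k := IsLocalRing.ResidueField R) (Γ i).dim_eq (Γ i).ι hexc.1 hL).1 hexc
    change Models.h1 R X (Γ i) = 0 at hh1
    change ArSurf.inter R X L (Γ i) = -(Models.wdeg R X (Γ i) : ℤ) at hself
    have hadj := inter_add_inter_eq hX hω (Γ i) hL
    rw [euler_vertComp, hh1, hself] at hadj
    have hw := (CastLib.wdeg_dvd (Γ i)).1
    push_cast at hadj
    omega

/-- A contraction sequence which is not an isomorphism contracts an exceptional curve. -/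
theorem exists_exc_of_seq {A B : Scheme.{u}} {f : A ⟶ B} (h : Models.IsContractionSeq f) :
    IsIso f ∨ ∃ (E : Scheme.{u}) (ι : E ⟶ A), IsClosedImmersion ι ∧ Models.IsExcCurve ι ∧
      ∃ y : B, Set.range (ι ≫ f) = {y} := by
  induction h with
  | iso e => exact Or.inl inferInstance
  | step ι b r hι hE hb hr _ =>
    refine Or.inr ⟨_, ι, hι, hE, ?_⟩
    obtain ⟨-, -, y, -, hy, -⟩ := hb
    refine ⟨r y, ?_⟩
    have h1 : ∀ c, (ι ≫ b ≫ r) c = r ((ι ≫ b) c) := fun c => by
      rw [← Category.assoc, Scheme.Hom.comp_apply]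
    ext z
    constructor
    · rintro ⟨c, rfl⟩
      rw [h1, show (ι ≫ b) c = y from hy.le ⟨c, rfl⟩]
      rfl
    · rintro rfl
      obtain ⟨c, hc⟩ := hy.ge (Set.mem_singleton y)
      exact ⟨c, (h1 c).trans (congrArg r hc)⟩

/-- Without curves of negative canonical degree a surface is relatively minimal. -/
theorem isRelMinimal_of_nef (hX : ArSurf.IsArithSurface R X) {ω : X.left.Modules}
    (hω : Canon.IsCanonical X.hom ω) (hnef : ∀ C : ArSurf.VertComp R X, 0 ≤ ArSurf.inter R X ω C) :
    Neron.IsRelMinimalRegularModel R X := by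
  refine ⟨hX.1, hX.2.2.2.2, hX.2.2.2.1, fun Y hYr hYp hYf g hg => ?_⟩
  obtain ⟨hY, hbir⟩ := SurfPtBlow.arith_of_generic_iso hg hX hYr hYp hYf
  haveI := hX.2.1
  haveI := hY.2.1
  haveI := (SurfPtBlow.arSurf_facts hX).2
  haveI := (SurfPtBlow.arSurf_facts hY).2
  haveI := (SurfPtBlow.arSurf_facts hY).1
  haveI := SurfPtBlow.isProper_hom_left hX hY g
  have hseq := Groth.Agent.S7314.result g.left hbir hX.1 hX.2.2.1 hY.1 hY.2.2.1
  rcases exists_exc_of_seq hseq with hi | ⟨E, ι, hι, hE, y, hy⟩
  · haveI : IsIso ((Over.forget _).map g) := hi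
    exact isIso_of_reflects_iso g (Over.forget _)
  exfalso
  haveI := hι
  have hy' : IsClosed ({y} : Set Y.left) := by
    rw [← hy, Scheme.Hom.comp_base, TopCat.coe_comp, Set.range_comp]
    exact g.left.isClosedMap _ ι.isClosedEmbedding.isClosed_range
  have hy0 : Y.hom y = closedPoint R := by
    have hc : IsClosed ({Y.hom y} : Set (Spec (CommRingCat.of R))) := by
      rw [← Set.image_singleton]
      exact Y.hom.isClosedMap _ hy'
    exact IsLocalRing.eq_maximalIdeal ((PrimeSpectrum.isClosed_singleton_iff_isMaximal _).1 hc) |> PrimeSpectrum.ext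
  obtain ⟨Γ, -, hneg⟩ := exists_neg_of_excCurve hX hω ι hE fun c => by
    rw [← Over.w g, Scheme.Hom.comp_apply, show g.left (ι c) = y from hy.le ⟨c, rfl⟩, hy0]
  exact absurd hneg (not_lt.2 (hnef Γ))

end Groth.Agent.CanonFac
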