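import Groth.Agent.CastLib.SelfInt
import Groth.Agent.CastLib.LineIso
import Groth.Agent.CastLib.InterSymm
import Groth.Agent.CastLib.InterDeg
import Groth.Agent.AmpleLib.Tensor
import Groth.Agent.AmpleLib.FinProd
import Groth.Agent.AmpleEmb.SectionsGe
import Groth.Agent.AVLib.DivSection

/-!
# Twisting by a line of negative self-intersection
-/

set_option autoImplicit false
set_option backward.isDefEq.respectTransparency false
set_option linter.style.haveILetI false
set_option linter.unusedSectionVars false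
set_option maxHeartbeats 1000000
set_option synthInstance.maxHeartbeats 200000

universe u

open CategoryTheory CategoryTheory.Limits AlgebraicGeometry TopologicalSpace
open Groth.Agent.IntLib (mk pullCls mk_congr mk_tensor mk_eq_mk pullCls_mk)

noncomputable section

namespace Groth.Agent.CanonFac

open Groth.Agent.CastLib Groth.Agent.SurfPtBlow

section Line

variable {X : Scheme.{u}} [IsLocallyNoetherian X] {k : Type u} [Field k] (j : CohB1.ProjSpace 1 k ⟶ X) [IsClosedImmersion j]
variable {H L : X.Modules} (hH : PicF.IsInvertible H) (hL : ClSub.IsInverseOf L (ClSub.idealMod j.ker))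

include hH hL in
theorem mk_twist_step (i : ℕ) :
    mk (CohB1.tensorMod (ClSub.idealMod j.ker) (CohB1.tensorMod H (CohB1.tensorPow L (i + 1)))) =
      mk (CohB1.tensorMod H (CohB1.tensorPow L i)) := by
  obtain ⟨e⟩ := hL
  have h1 : mk L * mk (ClSub.idealMod j.ker) = 1 :=
    (mk_tensor _ _).symm.trans ((mk_congr e).trans IntLib.mk_structureModule)
  rw [mk_tensor, mk_tensor, mk_tensor, IntLib.mk_tensorPow, IntLib.mk_tensorPow, pow_succ]
  calc _ = mk H * mk L ^ i * (mk L * mk (ClSub.idealMod j.ker)) := by ac_rfl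
    _ = _ := by rw [h1, mul_one]

include hH hL in
theorem degOn_twist (i : ℕ) :
    degOn j (CohB1.tensorMod H (CohB1.tensorPow L i)) = degOn j H + i * degOn j L := by
  have hLi := isInvertible_inverse_ideal hL
  rw [degOn_tensor j hH (AmpleLib.isInvertible_tensorPow hLi i), degOn_tensorPow j hLi]

include hH hL in
/-- Vanishing after twisting, as long as the degree stays non-negative. -/
theorem subsingleton_H1_twist (h1 : Subsingleton (Coh.HH X H 1)) (hneg : degOn j L < 0) :
    ∀ i : ℕ, (i : ℤ) * (-degOn j L) ≤ degOn j H →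
      Subsingleton (Coh.HH X (CohB1.tensorMod H (CohB1.tensorPow L i)) 1) := by
  have hLi := isInvertible_inverse_ideal hL
  intro i
  induction i with
  | zero =>
    intro _
    obtain ⟨e⟩ := mk_eq_mk.1 (show mk H = mk (CohB1.tensorMod H (CohB1.tensorPow L 0)) by
      rw [mk_tensor, IntLib.mk_tensorPow, pow_zero, mul_one])
    haveI := h1
    exact CurveLib.subsingleton_HH_iso e 1 h1
  | succ i ih =>
    intro hi
    push_cast at hi
    have h0 := ih (by nlinarith)
    obtain ⟨e⟩ := mk_eq_mk.1 (mk_twist_step j hH hL i).symm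
    refine subsingleton_step j (AmpleLib.isInvertible_tensor hH (AmpleLib.isInvertible_tensorPow hLi _)) ?_ ?_
    · haveI := h0
      exact CurveLib.subsingleton_HH_iso e 1 h0
    · rw [degOn_twist j hH hL]
      push_cast
      linarith

include hH hL in
/-- The twist of degree zero is trivial on the line. -/
theorem nonempty_pullback_twist {r : ℕ} (hr : degOn j H = r * (-degOn j L)) :
    Nonempty ((Scheme.Modules.pullback j).obj (CohB1.tensorMod H (CohB1.tensorPow L r)) ≅
      Coh.structureModule (CohB1.ProjSpace 1 k)) := by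
  have hM := AmpleLib.isInvertible_tensor hH (AmpleLib.isInvertible_tensorPow (isInvertible_inverse_ideal hL) r)
  obtain ⟨a⟩ := nonempty_iso_twist_degP (AmpleLib.isInvertible_pullback j hM) (n := 0)
    (show degOn j _ = ((0 : ℕ) : ℤ) by rw [degOn_twist j hH hL, hr]; push_cast; ring)
  obtain ⟨b⟩ := nonempty_iso_twist_degP (k := k) ParaFLib.isInvertible_structureModule (n := 0) degP_one
  exact ⟨a ≪≫ b.symm⟩

include hH hL in
/-- The twist of degree zero is generated by its sections. -/
theorem isGloballyGenerated_twist (hI : BlowUp.IsEffCartierIdeal j.ker) (h1 : Subsingleton (Coh.HH X H 1))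
    (hneg : degOn j L < 0) (hgg : Curv2.IsGloballyGenerated H) {r : ℕ} (hr : degOn j H = r * (-degOn j L)) :
    Curv2.IsGloballyGenerated (CohB1.tensorMod H (CohB1.tensorPow L r)) := by
  have hLi := isInvertible_inverse_ideal hL
  have hM := AmpleLib.isInvertible_tensor hH (AmpleLib.isInvertible_tensorPow hLi r)
  cases r with
  | zero =>
    obtain ⟨e⟩ := mk_eq_mk.1 (show mk H = mk (CohB1.tensorMod H (CohB1.tensorPow L 0)) by
      rw [mk_tensor, IntLib.mk_tensorPow, pow_zero, mul_one])
    exact AmpleLib.isGloballyGenerated_of_iso e hgg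
  | succ r =>
    have hp : ∀ x : X, ∃ τ : Coh.structureModule X ⟶ CohB1.tensorMod H (CohB1.tensorPow L (r + 1)),
        x ∈ CohB1.genLocus _ τ := fun x => by
      by_cases hx : x ∈ Set.range j
      · obtain ⟨z, rfl⟩ := hx
        obtain ⟨θ⟩ := nonempty_pullback_twist j hH hL hr
        obtain ⟨e⟩ := mk_eq_mk.1 (mk_twist_step j hH hL r).symm
        have h0 : Subsingleton (Coh.HH X (CohB1.tensorMod H (CohB1.tensorPow L r)) 1) :=
          subsingleton_H1_twist j hH hL h1 hneg r (by rw [hr]; push_cast; nlinarith)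
        haveI := h0
        obtain ⟨τ, hτ⟩ := exists_lift_gen j hM (CurveLib.subsingleton_HH_iso e 1 h0) θ.inv
        exact ⟨τ, hτ ((AVLib.mem_genLocus_iff_stalkLin (AmpleLib.isInvertible_pullback j hM)).2
          ((PullbackMod.isIso_iff_stalk θ.inv).1 inferInstance z))⟩
      · obtain ⟨s, hs⟩ := AVLib.exists_section_genLocus_compl hI hLi hL
        obtain ⟨t, ht⟩ := AmpleLib.exists_genLocus_of_isGloballyGenerated hH hgg x
        refine ⟨AmpleLib.tensorS t (AmpleLib.powS s (r + 1)), ?_⟩
        rw [AmpleLib.genLocus_tensorS hH (AmpleLib.isInvertible_tensorPow hLi _), AmpleLib.genLocus_powS hLi, hs]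
        refine ⟨ht, fun hx' => hx ?_⟩
        have h2 : x ∈ (j.ker.support : Set X) := hx'
        rwa [Scheme.Hom.support_ker, j.isClosedEmbedding.isClosed_range.closure_eq] at h2
    choose τ hτ using hp
    exact AmpleEmb.isGloballyGenerated_of_genLocus hM (ι := X) τ fun x => ⟨x, hτ x⟩

end Line

variable {R : Type u} [CommRing R] [IsDomain R] [IsDiscreteValuationRing R] {X : Over (Spec (CommRingCat.of R))}

/-- Degrees on a component isomorphic to a line over an extension of the residue field. -/
theorem inter_eq_degOn (E : ArSurf.VertComp R X) {k' : Type u} [Field k'] [Algebra (IsLocalRing.ResidueField R) k']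
    (e : E.curve.left ≅ CohB1.ProjSpace 1 k')
    (he : e.hom ≫ CohB1.ProjSpace.toSpec 1 k' ≫
      Spec.map (CommRingCat.ofHom (algebraMap (IsLocalRing.ResidueField R) k')) = E.curve.hom)
    {M : X.left.Modules} (hM : PicF.IsInvertible M) :
    ArSurf.inter R X M E =
      Module.finrank (IsLocalRing.ResidueField R) k' * degOn (e.inv ≫ E.ι) M := by
  rw [ArSurf.inter, curveDeg_eq (k := IsLocalRing.ResidueField R) e he (AmpleLib.isInvertible_pullback E.ι hM)]
  exact congrArg _ (degP_congr (mk_congr ((Scheme.Modules.pullbackComp e.inv E.ι).app M)))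

/-- Vanishing and generation after twisting by a vertical line. -/
theorem vanish_and_generated_line (hX : ArSurf.IsArithSurface R X) (E : ArSurf.VertComp R X) {k' : Type u} [Field k']
    [Algebra (IsLocalRing.ResidueField R) k'] (e : E.curve.left ≅ CohB1.ProjSpace 1 k')
    (he : e.hom ≫ CohB1.ProjSpace.toSpec 1 k' ≫
      Spec.map (CommRingCat.ofHom (algebraMap (IsLocalRing.ResidueField R) k')) = E.curve.hom)
    {LE : X.left.Modules} (hLE : ClSub.IsInverseOf LE (ClSub.idealMod E.ι.ker)) (hneg : ArSurf.inter R X LE E < 0)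
    {LH : X.left.Modules} (hLH : PicF.IsInvertible LH) (h1 : Subsingleton (Coh.HH X.left LH 1)) :
    (∀ i : ℕ, (i : ℤ) * (-ArSurf.inter R X LE E) ≤ ArSurf.inter R X LH E →
        Subsingleton (Coh.HH X.left (CohB1.tensorMod LH (CohB1.tensorPow LE i)) 1)) ∧
      ∀ r : ℕ, Curv2.IsGloballyGenerated LH → ArSurf.inter R X LH E = (r : ℤ) * (-ArSurf.inter R X LE E) →
        Nonempty ((Scheme.Modules.pullback E.ι).obj (CohB1.tensorMod LH (CohB1.tensorPow LE r)) ≅
            Coh.structureModule E.curve.left) ∧
          Curv2.IsGloballyGenerated (CohB1.tensorMod LH (CohB1.tensorPow LE r)) := by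
  haveI := (arSurf_facts hX).1
  haveI := (arSurf_facts hX).2
  haveI := E.isClosedImmersion
  let j : CohB1.ProjSpace 1 k' ⟶ X.left := e.inv ≫ E.ι
  have hker : j.ker = E.ι.ker := Scheme.Hom.ker_comp_of_isIso _ _
  have hC : BlowUp.IsEffCartierIdeal j.ker := hker ▸ CastLib.isEffCartier_vertComp hX E
  have hL : ClSub.IsInverseOf LE (ClSub.idealMod j.ker) := hker ▸ hLE
  have hLEi := isInvertible_inverse_ideal hLE
  rw [inter_eq_degOn E e he hLEi] at hneg
  simp only [inter_eq_degOn E e he hLEi, inter_eq_degOn E e he hLH]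
  set d : ℤ := (Module.finrank (IsLocalRing.ResidueField R) k' : ℤ)
  have hd : 0 < d := lt_of_le_of_ne (Int.natCast_nonneg _) fun h => by rw [← h, zero_mul] at hneg; exact lt_irrefl _ hneg
  have hn : degOn j LE < 0 := neg_of_mul_neg_right hneg hd.le
  refine ⟨fun i hi => subsingleton_H1_twist j hLH hL h1 hn i
    (le_of_mul_le_mul_left (by linarith [show (i : ℤ) * -(d * degOn j LE) = d * ((i : ℤ) * -degOn j LE) by ring]) hd),
    fun r hgg hr => ?_⟩
  have hr' : degOn j LH = r * (-degOn j LE) := mul_left_cancel₀ hd.ne' (hr.trans (by ring))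
  refine ⟨?_, isGloballyGenerated_twist j hLH hL hC h1 hn hgg hr'⟩
  obtain ⟨θ⟩ := nonempty_pullback_twist j hLH hL hr'
  obtain ⟨b⟩ := pull_back_iso e.symm ((Scheme.Modules.pullback E.ι).obj (CohB1.tensorMod LH (CohB1.tensorPow LE r)))
  exact ⟨b.symm ≪≫ (Scheme.Modules.pullback e.hom).mapIso
    ((Scheme.Modules.pullbackComp e.inv E.ι).app _ ≪≫ θ) ≪≫ AmpleLib.pullO e.hom⟩

end Groth.Agent.CanonFac
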