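import Groth.Agent.CanonFacLib.Glue
import Groth.Agent.InvExt.Cartier
import Groth.Agent.InvExt.Codim1

/-!
# Effective Cartier divisors at a point with a given local equation
-/

set_option autoImplicit false
set_option backward.isDefEq.respectTransparency false
set_option linter.style.haveILetI false
set_option linter.unusedSectionVars false
set_option maxHeartbeats 1000000

universe u

open CategoryTheory CategoryTheory.Limits AlgebraicGeometry TopologicalSpace Opposite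

noncomputable section

namespace Groth.Agent.CanonFac

variable {Z : Scheme.{u}} [IsNoetherian Z]

/-- Near a point a local equation vanishes only there and is regular. -/
theorem exists_isolated_equation {y : Z} (hy : IsClosed ({y} : Set Z)) (φ : Z.presheaf.stalk y)
    (hφ : φ ∈ nonZeroDivisors (Z.presheaf.stalk y))
    (hgen : ∀ η, η ≠ y → ∀ h : η ⤳ y, IsUnit (Z.presheaf.stalkSpecializes h φ)) :
    ∃ (W : Z.affineOpens) (hyW : y ∈ W.1) (a : Γ(Z, W.1)), Z.presheaf.germ W.1 y hyW a = φ ∧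
      a ∈ nonZeroDivisors Γ(Z, W.1) ∧ ∀ q ∈ W.1, q ∉ Z.basicOpen a → q = y := by
  classical
  obtain ⟨V, hyV, a₀, ha₀⟩ := TopCat.Presheaf.exists_germ_eq Z.presheaf φ
  obtain ⟨W₀, hW₀, hyW₀, hW₀V⟩ := exists_isAffineOpen_mem_and_subset (U := V) hyV
  let a := Z.presheaf.map (homOfLE hW₀V).op a₀
  have ha : Z.presheaf.germ W₀ y hyW₀ a = φ :=
    (TopCat.Presheaf.germ_res_apply Z.presheaf (homOfLE hW₀V) y hyW₀ a₀).trans ha₀
  let B : Set Z := closure ((W₀ : Set Z) \ Z.basicOpen a)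
  obtain ⟨S, hSf, hSc, hSi, hSU⟩ := NoetherianSpace.exists_finite_set_isClosed_irreducible (s := B) isClosed_closure
  let Bad : Set Z := ⋃ t ∈ S, if y ∈ t then ∅ else t
  have hBad : IsClosed Bad := hSf.isClosed_biUnion fun t ht => by split_ifs <;> [exact isClosed_empty; exact hSc t ht]
  have hyBad : y ∉ Bad := fun h => by
    obtain ⟨t, ht, hyt⟩ := Set.mem_iUnion₂.1 h
    split_ifs at hyt with h'
    · exact hyt
    · exact h' hyt
  have hiso : ∀ q ∈ W₀, q ∉ Z.basicOpen a → q ∉ Bad → q = y := by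
    intro q hq hqa hqB
    have hqB' : q ∈ B := subset_closure ⟨hq, hqa⟩
    rw [hSU] at hqB'
    obtain ⟨t, ht, hqt⟩ := hqB'
    have hyt : y ∈ t := by
      by_contra hyt
      exact hqB (Set.mem_iUnion₂.2 ⟨t, ht, by rw [if_neg hyt]; exact hqt⟩)
    obtain ⟨ξ, hξ⟩ := QuasiSober.sober (hSi t ht) (hSc t ht)
    have hξy : ξ ⤳ y := hξ.specializes hyt
    have hξW : ξ ∈ W₀ := hξy.mem_open W₀.2 hyW₀
    have hξB : ξ ∈ B := hSU ▸ ⟨t, ht, hξ.mem⟩
    have hξa : ξ ∉ Z.basicOpen a := fun hmem => by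
      obtain ⟨z, hz, -, hz'⟩ := mem_closure_iff.1 hξB _ (Z.basicOpen a).2 hmem
      exact hz' hz
    have hξeq : ξ = y := by
      by_contra hne
      refine hξa ((Z.mem_basicOpen a ξ hξW).2 ?_)
      have := hgen ξ hne hξy
      rwa [← ha, TopCat.Presheaf.germ_stalkSpecializes_apply] at this
    have : q ∈ closure ({y} : Set Z) := by rw [← hξeq, hξ.def]; exact hqt
    rwa [hy.closure_eq] at this
  obtain ⟨s₀, hs₀, hys₀⟩ := hW₀.exists_basicOpen_le (V := ⟨Badᶜ, hBad.isOpen_compl⟩) ⟨y, hyBad⟩ hyW₀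
  haveI : IsNoetherianRing Γ(Z, W₀) := IsLocallyNoetherian.component_noetherian ⟨W₀, hW₀⟩
  letI : Algebra Γ(Z, W₀) (Z.presheaf.stalk y) := TopCat.Presheaf.algebra_section_stalk Z.presheaf ⟨y, hyW₀⟩
  haveI := hW₀.isLocalization_stalk ⟨y, hyW₀⟩
  let P := (hW₀.primeIdealOf ⟨y, hyW₀⟩).asIdeal
  obtain ⟨T, hT⟩ := IsNoetherian.noetherian (LinearMap.ker (LinearMap.mulLeft Γ(Z, W₀) a))
  have hk : ∀ b ∈ LinearMap.ker (LinearMap.mulLeft Γ(Z, W₀) a), ∃ s : P.primeCompl, ↑s * b = 0 := fun b hb => by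
    refine (IsLocalization.map_eq_zero_iff P.primeCompl (Z.presheaf.stalk y) b).1 ?_
    refine (mul_right_mem_nonZeroDivisors_eq_zero_iff hφ).1 ?_
    have h1 : algebraMap Γ(Z, W₀) (Z.presheaf.stalk y) (a * b) = 0 := by
      rw [show a * b = 0 from hb, map_zero]
    rw [map_mul, mul_comm] at h1
    rw [← ha]
    exact h1
  have hkill : ∃ s ∈ P.primeCompl, ∀ b ∈ T, s * b = 0 := by
    have hTker : ∀ b ∈ T, b ∈ LinearMap.ker (LinearMap.mulLeft Γ(Z, W₀) a) := fun b hb =>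
      hT ▸ Submodule.subset_span hb
    clear hT
    induction T using Finset.induction_on with
    | empty => exact ⟨1, one_mem _, fun b hb => absurd hb (Finset.notMem_empty b)⟩
    | @insert c T _ ih =>
      obtain ⟨s, hs, hs'⟩ := ih fun b hb => hTker b (Finset.mem_insert_of_mem hb)
      obtain ⟨t, ht⟩ := hk c (hTker c (Finset.mem_insert_self c T))
      refine ⟨s * t, mul_mem hs t.2, fun b hb => ?_⟩
      rcases Finset.mem_insert.1 hb with rfl | hb
      · rw [mul_assoc, ht, mul_zero]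
      · rw [mul_comm s, mul_assoc, hs' b hb, mul_zero]
  obtain ⟨s, hs, hs'⟩ := hkill
  have hsT : ∀ b, a * b = 0 → s * b = 0 := fun b hb => by
    have hmem : b ∈ Submodule.span Γ(Z, W₀) (T : Set Γ(Z, W₀)) := hT.symm ▸ hb
    have hle : Submodule.span Γ(Z, W₀) (T : Set Γ(Z, W₀)) ≤ LinearMap.ker (LinearMap.mulLeft Γ(Z, W₀) s) :=
      Submodule.span_le.2 fun c hc => hs' c hc
    exact hle hmem
  have hys : y ∈ Z.basicOpen s := (InvExt.mem_basicOpen_iff_not_mem hW₀ y hyW₀ s).2 hs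
  let r := s₀ * s
  have hyr : y ∈ Z.basicOpen r := by rw [Scheme.basicOpen_mul]; exact ⟨hys₀, hys⟩
  have hrW : Z.basicOpen r ≤ W₀ := Z.basicOpen_le r
  let a' := Z.presheaf.map (homOfLE hrW).op a
  letI : Algebra Γ(Z, W₀) Γ(Z, Z.basicOpen r) := (Z.presheaf.map (homOfLE hrW).op).hom.toAlgebra
  haveI : IsLocalization.Away r Γ(Z, Z.basicOpen r) := hW₀.isLocalization_basicOpen r
  refine ⟨⟨Z.basicOpen r, hW₀.basicOpen r⟩, hyr, a', ?_, ?_, fun q hq hqa => ?_⟩
  · rw [TopCat.Presheaf.germ_res_apply]; exact ha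
  · refine mem_nonZeroDivisors_iff_right.2 fun z hz => ?_
    obtain ⟨⟨b, ⟨_, m, rfl⟩⟩, hb⟩ := IsLocalization.surj (Submonoid.powers r) z
    dsimp only at hb
    have h1 : algebraMap Γ(Z, W₀) Γ(Z, Z.basicOpen r) (b * a) = 0 := by
      rw [map_mul, ← hb, show algebraMap Γ(Z, W₀) Γ(Z, Z.basicOpen r) a = a' from rfl, mul_right_comm, hz, zero_mul]
    obtain ⟨⟨_, k, rfl⟩, hk'⟩ := (IsLocalization.map_eq_zero_iff (Submonoid.powers r) _ _).1 h1
    dsimp only at hk'
    have h2 : r ^ (k + 1) * b = 0 := by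
      rw [pow_succ', mul_assoc, mul_assoc s₀, hsT (r ^ k * b) (by rw [← hk']; ring), mul_zero]
    have hu : IsUnit (algebraMap Γ(Z, W₀) Γ(Z, Z.basicOpen r) r) := IsLocalization.Away.algebraMap_isUnit r
    have h3 : algebraMap Γ(Z, W₀) Γ(Z, Z.basicOpen r) b = 0 := by
      have h4 := congrArg (algebraMap Γ(Z, W₀) Γ(Z, Z.basicOpen r)) h2
      rw [map_mul, map_pow, map_zero] at h4
      exact (hu.pow (k + 1)).mul_right_eq_zero.1 h4
    rw [h3] at hb
    exact ((IsLocalization.map_units _ (⟨r ^ m, m, rfl⟩ : Submonoid.powers r)).mul_left_eq_zero).1 hb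
  · have hq' : q ∈ Z.basicOpen s₀ ⊓ Z.basicOpen s := Scheme.basicOpen_mul Z s₀ s ▸ hq
    refine hiso q (hrW hq) (fun hmem => hqa ?_) (hs₀ hq'.1)
    rw [Scheme.basicOpen_res]
    exact ⟨hq, hmem⟩

/-- A divisor at a point with a given equation. -/
theorem exists_point_cartier {y : Z} (hy : IsClosed ({y} : Set Z)) (φ : Z.presheaf.stalk y)
    (hφ : φ ∈ nonZeroDivisors (Z.presheaf.stalk y))
    (hgen : ∀ η, η ≠ y → ∀ h : η ⤳ y, IsUnit (Z.presheaf.stalkSpecializes h φ)) :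
    ∃ J : Z.IdealSheafData, BlowUp.IsEffCartierIdeal J ∧ (J.support : Set Z) ⊆ {y} ∧
      IntMult.stalkIdeal J y = Ideal.span {φ} := by
  obtain ⟨W, hyW, a, ha, hann, hiso⟩ := exists_isolated_equation hy φ hφ hgen
  let q : Γ(Z, W.1) ⟶ CommRingCat.of (Γ(Z, W.1) ⧸ Ideal.span {a}) :=
    CommRingCat.ofHom (Ideal.Quotient.mk (Ideal.span {a}))
  haveI : IsClosedImmersion (Spec.map q) := IsClosedImmersion.spec_of_surjective _ Ideal.Quotient.mk_surjective
  let h := Spec.map q ≫ W.2.fromSpec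
  have hrange : Set.range h ⊆ {y} := by
    rintro _ ⟨p, rfl⟩
    have hW : h p ∈ W.1 := W.2.range_fromSpec.le ⟨_, rfl⟩
    refine Set.mem_singleton_iff.2 (hiso _ hW ?_)
    show W.2.fromSpec (Spec.map q p) ∉ Z.basicOpen a
    rw [← Scheme.Hom.mem_preimage, W.2.fromSpec_preimage_basicOpen]
    refine not_not.2 ?_
    show q.hom a ∈ p.asIdeal
    rw [show q.hom a = 0 from Ideal.Quotient.eq_zero_iff_mem.2 (Ideal.mem_span_singleton_self a)]
    exact zero_mem _
  have hcl : IsClosed (Set.range h) := by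
    rcases Set.subset_singleton_iff_eq.1 hrange with e | e <;> rw [e]
    exacts [isClosed_empty, hy]
  haveI : IsClosedImmersion h := IsClosedImmersion.of_isPreimmersion h hcl
  have hker : h.ker.ideal W = Ideal.span {a} := by
    rw [Scheme.Hom.ker_apply]
    show RingHom.ker ((Spec.map q ≫ W.2.fromSpec).app W.1).hom = _
    rw [Scheme.Hom.comp_app, W.2.fromSpec_app_self, Category.assoc]
    have key : ∀ V : (Spec Γ(Z, W.1)).Opens, ∀ hV : V = ⊤,
        RingHom.ker ((Scheme.ΓSpecIso Γ(Z, W.1)).inv ≫ (Spec Γ(Z, W.1)).presheaf.map (eqToHom hV).op ≫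
          (Spec.map q).app V).hom = Ideal.span {a} := by
      rintro _ rfl
      simp only [eqToHom_refl, op_id, CategoryTheory.Functor.map_id, Category.id_comp]
      rw [show (Scheme.ΓSpecIso Γ(Z, W.1)).inv ≫ (Spec.map q).app ⊤ =
        q ≫ (Scheme.ΓSpecIso _).inv from (Scheme.ΓSpecIso_inv_naturality q).symm]
      have hinj : Function.Injective (Scheme.ΓSpecIso (CommRingCat.of (Γ(Z, W.1) ⧸ Ideal.span {a}))).inv.hom :=
        (Scheme.ΓSpecIso _).commRingCatIsoToRingEquiv.symm.injective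
      rw [CommRingCat.hom_comp, RingHom.ker_comp_of_injective q.hom hinj]
      exact Ideal.mk_ker
    exact key _ W.2.fromSpec_preimage_self
  have hsupp : (h.ker.support : Set Z) ⊆ {y} := by
    rw [Scheme.Hom.support_ker, hcl.closure_eq]
    exact hrange
  refine ⟨h.ker, fun x => ?_, hsupp, ?_⟩
  · by_cases hx : x = y
    · exact ⟨W, hx ▸ hyW, a, hann, hker⟩
    · exact InvExt.exists_cartier_nhd_of_not_mem fun hmem => hx (hsupp hmem)
  · rw [IdealStalkLib.stalkIdeal_eq _ W y hyW, hker, Ideal.map_span, Set.image_singleton]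
    exact congrArg (fun t => Ideal.span {t}) ha

end Groth.Agent.CanonFac
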