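import Groth.Agent.CanonFacLib.VertVanish
import Groth.Agent.CanonFacLib.VertGen
import Groth.Agent.CanonFacLib.VertLift
import Groth.Agent.CastLib.NegDef
import Groth.Agent.AmpleFactLib.Main

/-!
# Non-negative sheaves on vertical divisors without first cohomology and with trivial `Pic⁰`
-/

set_option autoImplicit false
set_option backward.isDefEq.respectTransparency false
set_option linter.style.haveILetI false
set_option linter.unusedSectionVars false
set_option maxHeartbeats 1000000

universe u

open CategoryTheory CategoryTheory.Limits AlgebraicGeometry TopologicalSpace Opposite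
open Groth.Agent.PullbackMod Groth.Agent.DCohLib
open Groth.Agent.ParaFLib (oneG bijective_oneG)

noncomputable section

namespace Groth.Agent.CanonFac

/-- In a quotient of a factorial domain by one element, an element avoiding the non-maximal primes is regular. -/
theorem mem_nonZeroDivisors_quot {A B : Type u} [CommRing A] [IsDomain A] [IsLocalRing A]
    [UniqueFactorizationMonoid A] [CommRing B] [IsLocalRing B] (π : A →+* B) (hπ : Function.Surjective π) {h : A}
    (hh : h ≠ 0) (hker : RingHom.ker π = Ideal.span {h})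
    (hnp : ∀ p : A, IsLocalRing.maximalIdeal A ≠ Ideal.span {p}) (φ : B)
    (hφ : ∀ P : Ideal B, P.IsPrime → P ≠ IsLocalRing.maximalIdeal B → φ ∉ P) :
    φ ∈ nonZeroDivisors B := by
  obtain ⟨Φ, rfl⟩ := hπ φ
  have hrel : IsRelPrime h Φ := fun d hd1 hd2 => by
    by_contra hu
    have hd0 : d ≠ 0 := fun h0 => hh (zero_dvd_iff.1 (h0 ▸ hd1))
    obtain ⟨p, hp, hpd⟩ := WfDvdMonoid.exists_irreducible_factor hu hd0
    have hpp : Prime p := UniqueFactorizationMonoid.irreducible_iff_prime.1 hp
    haveI : (Ideal.span {p}).IsPrime := (Ideal.span_singleton_prime hpp.ne_zero).2 hpp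
    have hle : RingHom.ker π ≤ Ideal.span {p} := hker.le.trans
      (Ideal.span_singleton_le_span_singleton.2 (hpd.trans hd1))
    haveI := Ideal.map_isPrime_of_surjective hπ hle
    refine hφ _ inferInstance (fun hmax => hnp p ?_)
      (Ideal.mem_map_of_mem π (Ideal.mem_span_singleton.2 (hpd.trans hd2)))
    have hc : (Ideal.map π (Ideal.span {p})).comap π = Ideal.span {p} := by
      rw [Ideal.comap_map_of_surjective π hπ, ← RingHom.ker_eq_comap_bot, sup_eq_left.2 hle]
    rw [hmax] at hc
    haveI : (Ideal.span {p}).IsMaximal := hc ▸ Ideal.comap_isMaximal_of_surjective π hπ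
    exact (IsLocalRing.eq_maximalIdeal ‹_›).symm
  refine mem_nonZeroDivisors_iff_right.2 fun z hz => ?_
  obtain ⟨Z, rfl⟩ := hπ z
  rw [← map_mul, ← RingHom.mem_ker, hker, Ideal.mem_span_singleton] at hz
  rw [← RingHom.mem_ker, hker, Ideal.mem_span_singleton]
  exact hrel.dvd_of_dvd_mul_right hz

/-- Being a unit at every generalisation is avoiding the non-maximal primes. -/
theorem notMem_prime_of_generalization {Z : Scheme.{u}} {y : Z} (φ : Z.presheaf.stalk y)
    (hgen : ∀ η, η ≠ y → ∀ h : η ⤳ y, IsUnit (Z.presheaf.stalkSpecializes h φ))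
    (P : Ideal (Z.presheaf.stalk y)) (hP : P.IsPrime) (hne : P ≠ IsLocalRing.maximalIdeal _) : φ ∉ P := by
  obtain ⟨_, ⟨W : Z.Opens, hW, rfl⟩, hyW, -⟩ :=
    Z.isBasis_affineOpens.exists_subset_of_mem_open (Set.mem_univ y) isOpen_univ
  letI : Algebra Γ(Z, W) (Z.presheaf.stalk y) := TopCat.Presheaf.algebra_section_stalk Z.presheaf ⟨y, hyW⟩
  haveI := hW.isLocalization_stalk ⟨y, hyW⟩
  let Py := (hW.primeIdealOf ⟨y, hyW⟩).asIdeal
  intro hφP
  let Q := P.comap (algebraMap Γ(Z, W) (Z.presheaf.stalk y))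
  haveI : Q.IsPrime := Ideal.IsPrime.comap _
  obtain ⟨η, hηW, hηQ⟩ := InvExt.exists_point_primeIdealOf hW Q ‹_›
  have hmapQ : Q.map (algebraMap Γ(Z, W) (Z.presheaf.stalk y)) = P := IsLocalization.map_under Py.primeCompl _ P
  have hQle : Q ≤ Py := fun z hz => by
    by_contra hzP
    exact hP.ne_top (P.eq_top_of_isUnit_mem hz
      (IsLocalization.map_units (Z.presheaf.stalk y) (⟨z, hzP⟩ : Py.primeCompl)))
  have hsp : η ⤳ y := InvExt.specializes_of_primeIdealOf_le hW hηW hyW (hηQ ▸ hQle)
  have hηy : η ≠ y := by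
    rintro rfl
    refine hne ?_
    rw [← hmapQ, ← hηQ, ← IsLocalization.AtPrime.map_eq_maximalIdeal Py (Z.presheaf.stalk η)]
  obtain ⟨⟨b, s⟩, hb⟩ := IsLocalization.surj Py.primeCompl φ
  dsimp only at hb
  have hbQ : b ∈ Q := by
    show algebraMap Γ(Z, W) (Z.presheaf.stalk y) b ∈ P
    rw [← hb]
    exact Ideal.mul_mem_right _ _ hφP
  have hbη : ¬ IsUnit (Z.presheaf.germ W η hηW b) := fun hu => by
    rw [← Z.mem_basicOpen, InvExt.mem_basicOpen_iff_not_mem hW η hηW, hηQ] at hu
    exact hu hbQ
  refine hbη ?_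
  have h1 : Z.presheaf.stalkSpecializes hsp (Z.presheaf.germ W y hyW b) = Z.presheaf.germ W η hηW b :=
    TopCat.Presheaf.germ_stalkSpecializes_apply Z.presheaf hyW hsp b
  rw [← h1, show Z.presheaf.germ W y hyW b = algebraMap Γ(Z, W) (Z.presheaf.stalk y) b from rfl, ← hb, map_mul]
  exact (hgen η hηy hsp).mul ((IsLocalization.map_units (Z.presheaf.stalk y) s).map _)

variable {R : Type u} [CommRing R] [IsDomain R] [IsDiscreteValuationRing R] [Infinite (IsLocalRing.ResidueField R)]
  {X : Over (Spec (CommRingCat.of R))} {r : ℕ}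

local notation "K" => IsLocalRing.ResidueField R

/-- The divisor at one zero of a section on a component. -/
theorem exists_local_divisor (hX : ArSurf.IsArithSurface R X) (Γ : Fin r → ArSurf.VertComp R X) (a : Fin r → ℕ)
    (E : ArSurf.VertComp R X) (g : E.curve.left ⟶ (divIdeal Γ a).subscheme) [IsClosedImmersion g]
    (hg : g ≫ (divIdeal Γ a).subschemeι = E.ι) [IsIntegral E.curve.left]
    {M : E.curve.left.Modules} (hM : PicF.IsInvertible M) (s : Coh.structureModule E.curve.left ⟶ M)
    (hη : genericPoint E.curve.left ∈ CohB1.genLocus M s) (c : E.curve.left) (hc : c ∉ CohB1.genLocus M s)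
    (hown : ∀ η, η ⤳ g c → ∃ d, g d = η) (hcc : IsClosed ({c} : Set E.curve.left))
    (hpts : ∀ d, d ≠ genericPoint E.curve.left → IsClosed ({d} : Set E.curve.left)) :
    ∃ (J : (divIdeal Γ a).subscheme.IdealSheafData) (f : E.curve.left.presheaf.stalk c) (e : M.presheaf.stalk c),
      BlowUp.IsEffCartierIdeal J ∧ (J.support : Set (divIdeal Γ a).subscheme) ⊆ {g c} ∧
      f ≠ 0 ∧ (IntMult.stalkIdeal J (g c)).map (g.stalkMap c).hom = Ideal.span {f} ∧
      Function.Bijective (fun t : E.curve.left.presheaf.stalk c => t • e) ∧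
      stalkLin s c (oneG c) = f • e := by
  have hV := CastLib.VSurf.of_arith hX
  haveI := hV.int
  haveI := (SurfPtBlow.arSurf_facts hX).1
  haveI := (SurfPtBlow.arSurf_facts hX).2
  obtain ⟨hnoe, -, hdivinv, -⟩ := divIdeal_facts hX Γ a
  haveI := hnoe
  haveI := E.isClosedImmersion
  set ι := (divIdeal Γ a).subschemeι with hιdef
  have hgι : ∀ d, ι (g d) = E.ι d := fun d => by rw [← Scheme.Hom.comp_apply, hg]
  have hy : IsClosed ({g c} : Set (divIdeal Γ a).subscheme) := by
    rw [← Set.image_singleton (f := g)]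
    exact g.isClosedEmbedding.isClosedMap _ hcc
  obtain ⟨e, he⟩ := ParaFLib.exists_stalk_gen hM c
  obtain ⟨f, hf⟩ := he.2 (stalkLin s c (oneG c))
  dsimp only at hf
  have hsec : stalkLin s c (oneG c) =
      M.presheaf.germ ⊤ c trivial (AmpleLib.sec s) :=
    stalkLin_germ s (U := ⊤) c trivial _
  have hηη := hη
  rw [AmpleLib.mem_genLocus_iff hM] at hηη
  have hf0 : f ≠ 0 := by
    intro h0
    rw [h0, zero_smul, hsec] at hf
    have h1 := TopCat.Presheaf.germ_stalkSpecializes_apply M.presheaf
      (U := ⊤) (y := c) trivial (genericPoint_specializes c) (AmpleLib.sec s)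
    rw [← hf, map_zero] at h1
    haveI : Nontrivial (E.curve.left.presheaf.stalk (genericPoint E.curve.left)) := inferInstance
    refine one_ne_zero (α := E.curve.left.presheaf.stalk (genericPoint E.curve.left)) (hηη.1 ?_)
    show (1 : _) • _ = (0 : _) • _
    rw [← h1, smul_zero, smul_zero]
  obtain ⟨φ, hφ⟩ := g.stalkMap_surjective c f
  have hgen : ∀ η, η ≠ g c → ∀ h : η ⤳ g c,
      IsUnit ((divIdeal Γ a).subscheme.presheaf.stalkSpecializes h φ) := by
    intro η hne hsp
    obtain ⟨d, rfl⟩ := hown η hsp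
    have hdc : d ⤳ c := g.isEmbedding.isInducing.specializes_iff.1 hsp
    have hdη : d = genericPoint E.curve.left := by
      by_contra hdη
      exact hne (by rw [((hpts d hdη).closure_eq ▸ specializes_iff_mem_closure.1 hdc : c ∈ ({d} : Set E.curve.left))])
    haveI : IsLocalHom (g.stalkMap d).hom := inferInstance
    refine isUnit_of_map_unit (g.stalkMap d).hom _ ?_
    have h1 := (Scheme.Hom.stalkSpecializes_stalkMap_apply g d c hdc φ).trans
      (congrArg (E.curve.left.presheaf.stalkSpecializes hdc) hφ)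
    refine (congrArg IsUnit h1).mpr ?_
    subst hdη
    refine (Ne.isUnit ?_ : IsUnit (_ : E.curve.left.functionField))
    intro h0
    exact hf0 (IsFractionRing.injective (E.curve.left.presheaf.stalk c) E.curve.left.functionField
      (h0.trans (map_zero _).symm))
  have hφnzd : φ ∈ nonZeroDivisors _ := by
    haveI := hV.reg (ι (g c))
    haveI := (AmpleFactLib.factorial_of_regular X.left hV.reg).1 (ι (g c))
    haveI := (AmpleFactLib.factorial_of_regular X.left hV.reg).2 (ι (g c))
    obtain ⟨h, hh, hhI⟩ := DivisorialLib.exists_gen ((S8914.result _).1 hdivinv) (ι (g c))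
    refine mem_nonZeroDivisors_quot (ι.stalkMap (g c)).hom (ι.stalkMap_surjective _) (nonZeroDivisors.ne_zero hh)
      ?_ (fun p hp => ?_) φ (fun P hP hne => notMem_prime_of_generalization φ hgen P hP hne)
    · refine (CastLib.stalkIdeal_kerJ ι (g c)).symm.trans ?_
      refine (congrArg (fun D => IntMult.stalkIdeal D (ι (g c))) (Scheme.IdealSheafData.ker_subschemeι _)).trans hhI
    · have hle : ringKrullDim (X.left.presheaf.stalk (ι (g c))) ≤ 1 := by
        rw [← IsLocalRing.maximalIdeal_height_eq_ringKrullDim]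
        refine WithBot.coe_le_coe.2 (Ideal.height_le_one_of_isPrincipal_of_mem_minimalPrimes
          (Ideal.span {p}) _ ?_)
        rw [← hp, Ideal.minimalPrimes_eq_subsingleton_self]
        exact Set.mem_singleton _
      rw [ringKrullDim_stalk_eq_coheight] at hle
      have hsp : Models.genPtOf R X E ⤳ ι (g c) :=
        (hgι c).symm ▸ (genericPoint_specializes c).map E.ι.continuous
      have hne : Models.genPtOf R X E ≠ ι (g c) := fun h => by
        rw [hgι] at h
        exact hc (E.ι.isEmbedding.injective h ▸ hη)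
      have h3 := S8909.succ_le hsp hne
      rw [hV.coheight_genPtOf] at h3
      have h4 : Order.coheight (ι (g c)) ≤ 1 := WithBot.coe_le_coe.1 hle
      exact absurd (h3.trans h4) (by decide)
  obtain ⟨J, hJ, hJs, hJy⟩ := exists_point_cartier hy φ hφnzd hgen
  exact ⟨J, f, e, hJ, hJs, hf0, by rw [hJy, Ideal.map_span, Set.image_singleton, hφ], he, hf.symm⟩

set_option maxHeartbeats 2000000 in
/-- Vanishing and generation for the sheaves of non-negative degree. -/
theorem vanish_and_generated (hX : ArSurf.IsArithSurface R X) {ω : X.left.Modules} (hω : Canon.IsCanonical X.hom ω)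
    (Γ : Fin r → ArSurf.VertComp R X)
    (hΓ : Function.Injective fun i => Set.range ((Γ i).ι.base : (Γ i).curve.left → X.left))
    {L : Fin r → X.left.Modules} (hL : ∀ j, ClSub.IsInverseOf (L j) (ClSub.idealMod (Γ j).ι.ker))
    (a : Fin r → ℕ)
    (hH1 : Subsingleton (Coh.HH (divIdeal Γ a).subscheme (Coh.structureModule (divIdeal Γ a).subscheme) 1))
    (hpic : ∀ N : (divIdeal Γ a).subscheme.Modules, PicF.IsInvertible N →
      (∀ (E : ArSurf.VertComp R X) (g : E.curve.left ⟶ (divIdeal Γ a).subscheme),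
        g ≫ (divIdeal Γ a).subschemeι = E.ι →
        ArSurf.curveDeg K E.curve.left ((Scheme.Modules.pullback g).obj N) = 0) →
      Nonempty (N ≅ Coh.structureModule (divIdeal Γ a).subscheme))
    (hcomp : ∀ (E : ArSurf.VertComp R X) (g : E.curve.left ⟶ (divIdeal Γ a).subscheme),
      g ≫ (divIdeal Γ a).subschemeι = E.ι → ∃ i, Set.range E.ι.base = Set.range (Γ i).ι.base)
    (N : (divIdeal Γ a).subscheme.Modules) (hN : PicF.IsInvertible N)
    (hd : ∀ (i : Fin r) (g : (Γ i).curve.left ⟶ (divIdeal Γ a).subscheme), g ≫ (divIdeal Γ a).subschemeι = (Γ i).ι →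
      0 ≤ ArSurf.curveDeg K (Γ i).curve.left ((Scheme.Modules.pullback g).obj N)) :
    Subsingleton (Coh.HH (divIdeal Γ a).subscheme N 1) ∧ Curv2.IsGloballyGenerated N := by
  classical
  refine ⟨subsingleton_H1_nonneg hX hω Γ hΓ hL a hH1 N hN hd, ?_⟩
  have hV := CastLib.VSurf.of_arith hX
  haveI := hV.int
  haveI := (SurfPtBlow.arSurf_facts hX).1
  haveI := (SurfPtBlow.arSurf_facts hX).2
  obtain ⟨hnoe, hdim, hdivinv, -⟩ := divIdeal_facts hX Γ a
  haveI := hnoe
  set ι := (divIdeal Γ a).subschemeι with hιdef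
  let I := {i : Fin r // 0 < a i}
  haveI := fun i => (Γ i).isClosedImmersion
  haveI := fun i => (Γ i).isIntegral
  haveI := fun i => CastLib.isProper_vertComp (Γ i)
  let g : ∀ i : I, (Γ i.1).curve.left ⟶ (divIdeal Γ a).subscheme := fun i =>
    IsClosedImmersion.lift ι (Γ i.1).ι (by
      rw [hιdef, Scheme.IdealSheafData.ker_subschemeι]
      exact (divIdeal_peel Γ a i.2).le.trans (TwistShriek.mul_le_left' _ _))
  have hg : ∀ i, g i ≫ ι = (Γ i.1).ι := fun i => IsClosedImmersion.lift_fac _ _ _
  haveI hgci : ∀ i, IsClosedImmersion (g i) := fun i => by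
    haveI : IsClosedImmersion (g i ≫ ι) := (hg i).symm ▸ inferInstance
    exact IsClosedImmersion.of_comp (g i) ι
  have hgι : ∀ i c, ι (g i c) = (Γ i.1).ι c := fun i c => by rw [← Scheme.Hom.comp_apply, hg]
  have hcov : ∀ w, ∃ i c, g i c = w := by
    intro w
    have hw : ι w ∈ (divIdeal Γ a).support := (Scheme.IdealSheafData.range_subschemeι _).le ⟨w, rfl⟩
    by_contra hno
    push Not at hno
    rw [H1ZeroLib.mem_support_iff_stalk, CastLib.stalkIdeal_prod'] at hw
    refine hw ((Finset.prod_eq_one fun j _ => ?_).trans Ideal.one_eq_top)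
    rcases Nat.eq_zero_or_pos (a j) with h0 | h0
    · rw [h0]; exact pow_zero _
    rw [IdealMulLib.stalkIdeal_eq_top _ (fun h => ?_), ← Ideal.one_eq_top, one_pow]
    rw [← SetLike.mem_coe, CastLib.support_ker] at h
    obtain ⟨c, hc⟩ := h
    exact hno ⟨j, h0⟩ c (ι.isEmbedding.injective ((hgι ⟨j, h0⟩ c).trans hc))
  -- the intersection points
  let T : ∀ i : I, Set (Γ i.1).curve.left := fun i => {c | ∃ j, j ≠ i ∧ g i c ∈ Set.range (g j)}
  have hclosedpt : ∀ (i : I) (C : Set (Γ i.1).curve.left), IsClosed C → genericPoint (Γ i.1).curve.left ∉ C →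
      C.Finite ∧ ∀ c ∈ C, IsClosed ({c} : Set (Γ i.1).curve.left) := by
    intro i C hC hη
    haveI := EulerIneqLib.isNoetherian_proper (X := (Γ i.1).curve.left) K
    have hd0 := CurveLib.dim_le_zero_of_notMem (CastLib.dim_vertComp (Γ i.1)) hC (genericPoint_spec _) hη
    exact ⟨CurveLib.finite_of_dim_le_zero hC hd0, fun c hc =>
      (CurveLib.closure_singleton_eq hC hd0 hc) ▸ isClosed_closure⟩
  have hTc : ∀ i, IsClosed (T i) ∧ genericPoint (Γ i.1).curve.left ∉ T i := by
    intro i
    have hTeq : T i = ⋃ j ∈ {j | j ≠ i}, (g i) ⁻¹' Set.range (g j) := by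
      ext c; simp [T]
    refine ⟨hTeq ▸ (Set.toFinite _).isClosed_biUnion fun j _ =>
      (g j).isClosedEmbedding.isClosed_range.preimage (g i).continuous, ?_⟩
    rintro ⟨j, hji, c, hc⟩
    refine hji (Subtype.ext (hΓ ?_))
    show Set.range (Γ j.1).ι = Set.range (Γ i.1).ι
    have h1 : (Γ j.1).ι c = Models.genPtOf R X (Γ i.1) := by
      rw [← hgι, hc, hgι]; rfl
    have hco := fun l => hV.coheight_genPtOf (Γ l)
    have hsp : Models.genPtOf R X (Γ j.1) ⤳ Models.genPtOf R X (Γ i.1) :=
      h1 ▸ (genericPoint_specializes c).map (Γ j.1).ι.continuous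
    rw [CastLib.range_vertComp, CastLib.range_vertComp]
    by_contra hne
    have h3 := S8909.succ_le hsp (fun h => hne (by rw [h]))
    rw [hco, hco] at h3
    exact absurd h3 (by decide)
  -- sections on the components
  have hsec : ∀ i : I, ∃ s : Coh.structureModule _ ⟶ (Scheme.Modules.pullback (g i)).obj N,
      genericPoint _ ∈ CohB1.genLocus _ s ∧ ∀ c ∈ T i, c ∈ CohB1.genLocus _ s := by
    intro i
    haveI := EulerIneqLib.isNoetherian_proper (X := (Γ i.1).curve.left) K
    have hdimC := CastLib.dim_vertComp (Γ i.1)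
    have hO := subsingleton_H1_closed (g i) hdim hH1
    have hM := AmpleLib.isInvertible_pullback (g i) hN
    haveI := EulerIneqLib.finite_HH (k := K) (X := (Γ i.1).curve.left)
      (DevLib.isCoh_structureModule (Γ i.1).curve.left) 0
    haveI := nontrivial_H0 (Γ i.1).curve.left
    have hχ : 0 < FGA.eulerCharLE K (Γ i.1).curve.left (Coh.structureModule _) 1 := by
      simp only [FGA.eulerCharLE, Finset.sum_range_succ, Finset.sum_range_zero, zero_add, pow_zero, pow_one, one_mul,
        Module.finrank_zero_of_subsingleton (R := K) (M := Coh.HH (Γ i.1).curve.left (Coh.structureModule _) 1),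
        Nat.cast_zero, mul_zero, add_zero, Int.natCast_pos]
      exact Module.finrank_pos
    have hχN : 0 < FGA.eulerCharLE K (Γ i.1).curve.left ((Scheme.Modules.pullback (g i)).obj N) 1 := by
      have := hd i.1 (g i) (hg i)
      unfold ArSurf.curveDeg at this
      linarith
    obtain ⟨s₀, hs₀⟩ : ∃ s : Coh.structureModule _ ⟶ (Scheme.Modules.pullback (g i)).obj N, s ≠ 0 := by
      haveI : Nontrivial (Coh.HH (Γ i.1).curve.left ((Scheme.Modules.pullback (g i)).obj N) 0) := by
        by_contra h
        rw [not_nontrivial_iff_subsingleton] at h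
        haveI := h
        simp only [FGA.eulerCharLE, Finset.sum_range_succ, Finset.sum_range_zero, zero_add, pow_zero, pow_one, one_mul,
          Module.finrank_zero_of_subsingleton (R := K)
            (M := Coh.HH (Γ i.1).curve.left ((Scheme.Modules.pullback (g i)).obj N) 0), Nat.cast_zero] at hχN
        omega
      exact CurveLib.exists_hom_ne_zero _
    have hη : genericPoint _ ∈ CohB1.genLocus _ s₀ := mem_genLocus_of_surjective hM
      (CurveLib.bijective_stalkLin_generic ParaFLib.isInvertible_structureModule hM hs₀).2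
    obtain ⟨hCf, hCc⟩ := hclosedpt i _ (CohB1.genLocus _ s₀).2.isClosed_compl (not_not.2 hη)
    have hgg := isGloballyGenerated_of_section hdimC hO hM s₀ hCf hCc fun c hc => not_not.1 hc
    obtain ⟨hTf, -⟩ := hclosedpt i (T i) (hTc i).1 (hTc i).2
    obtain ⟨s, hs⟩ := exists_section_avoid (k := K)
      ((Γ i.1).curve.hom.appTop.hom.comp (Scheme.ΓSpecIso (CommRingCat.of K)).inv.hom) hM hgg
      (insert (genericPoint _) hTf.toFinset)
    exact ⟨s, hs _ (Finset.mem_insert_self _ _), fun c hc =>
      hs c (Finset.mem_insert_of_mem (hTf.mem_toFinset.2 hc))⟩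
  choose s hsη hsT using hsec
  let bad : ∀ i : I, Set (Γ i.1).curve.left := fun i => (CohB1.genLocus _ (s i) : Set _)ᶜ
  have hbad := fun i => hclosedpt i (bad i) (CohB1.genLocus _ (s i)).2.isClosed_compl (not_not.2 (hsη i))
  haveI : ∀ i, Finite (bad i) := fun i => (hbad i).1.to_subtype
  haveI : Fintype (Σ i : I, bad i) := Fintype.ofFinite _
  -- local divisors
  have hloc : ∀ b : Σ i : I, bad i, ∃ (J : (divIdeal Γ a).subscheme.IdealSheafData)
      (f : (Γ b.1.1).curve.left.presheaf.stalk b.2.1)
      (e : ((Scheme.Modules.pullback (g b.1)).obj N).presheaf.stalk b.2.1),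
      BlowUp.IsEffCartierIdeal J ∧ (J.support : Set (divIdeal Γ a).subscheme) ⊆ {g b.1 b.2.1} ∧
      f ≠ 0 ∧ (IntMult.stalkIdeal J (g b.1 b.2.1)).map ((g b.1).stalkMap b.2.1).hom = Ideal.span {f} ∧
      Function.Bijective (fun t : (Γ b.1.1).curve.left.presheaf.stalk b.2.1 => t • e) ∧
      stalkLin (s b.1) b.2.1 (oneG b.2.1) = f • e := by
    rintro ⟨i, c, hc⟩
    refine exists_local_divisor hX Γ a (Γ i.1) (g i) (hg i) (AmpleLib.isInvertible_pullback (g i) hN) (s i) (hsη i) c hc
      (fun η hsp => ?_) ((hbad i).2 c hc) fun d hd => ?_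
    · obtain ⟨j, d, rfl⟩ := hcov η
      by_cases hji : j = i
      · subst hji
        exact ⟨d, rfl⟩
      · exact absurd (hsT i c ⟨j, hji, hsp.mem_closed (g j).isClosedEmbedding.isClosed_range ⟨d, rfl⟩⟩) hc
    · exact (hclosedpt i (closure {d}) isClosed_closure (fun h =>
        hd (((genericPoint_specializes d).antisymm (specializes_iff_mem_closure.2 h)).eq.symm))).2 d (subset_closure rfl)
  choose Jl fl el hJl hJls hfl hJlc hel hsl using hloc
  obtain ⟨hJ, -⟩ := CastLib.mk_idealMod_prod Jl hJl (fun _ => 1) Finset.univ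
  set J := ∏ b, Jl b ^ 1 with hJdef
  have hJinv : PicF.IsInvertible (ClSub.idealMod J) := (S8914.result _).2 hJ
  have htop : ∀ w, (∀ b : Σ i : I, bad i, g b.1 b.2.1 ≠ w) → IntMult.stalkIdeal J w = ⊤ := by
    intro w hw
    rw [hJdef, CastLib.stalkIdeal_prod']
    refine (Finset.prod_eq_one fun b _ => ?_).trans Ideal.one_eq_top
    rw [pow_one, IdealMulLib.stalkIdeal_eq_top _ (fun h => hw b (Set.mem_singleton_iff.1 (hJls b h)).symm),
      Ideal.one_eq_top]
  -- the twist is trivial
  have hiso : ∀ i : I, Nonempty ((Scheme.Modules.pullback (g i)).obj (CohB1.tensorMod (ClSub.idealMod J) N) ≅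
      Coh.structureModule _) := by
    intro i
    obtain ⟨p, hp⟩ := exists_pull_surjective (g i) J hJinv
    have hM := AmpleLib.isInvertible_pullback (g i) hN
    obtain ⟨φ⟩ := nonempty_tensor_iso_of_section (AmpleLib.isInvertible_pullback (g i) hJinv) hM p hp (s i) fun c => by
      by_cases hc : c ∈ bad i
      · let b₀ : Σ i : I, bad i := ⟨i, ⟨c, hc⟩⟩
        have h1 : (IntMult.stalkIdeal (Jl b₀) (g i c)).map ((g i).stalkMap c).hom = Ideal.span {fl b₀} := hJlc b₀
        refine ⟨fl b₀, mem_nonZeroDivisors_of_ne_zero (hfl b₀), ?_, el b₀, hel b₀, hsl b₀⟩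
        refine (IdealStalkLib.stalkIdeal_comap J (g i) c).trans (Eq.trans ?_ h1)
        refine congrArg (Ideal.map ((g i).stalkMap c).hom) ?_
        rw [hJdef, CastLib.stalkIdeal_prod']
        refine (Finset.prod_eq_single b₀ (fun b _ hb => ?_) (fun h => absurd (Finset.mem_univ b₀) h)).trans (pow_one _)
        rw [pow_one, IdealMulLib.stalkIdeal_eq_top _ (fun h => ?_), Ideal.one_eq_top]
        have he : g i c = g b.1 b.2.1 := Set.mem_singleton_iff.1 (hJls b h)
        clear h
        obtain ⟨j, d, hd'⟩ := b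
        by_cases hji : j = i
        · subst hji
          obtain rfl : c = d := (g j).isEmbedding.injective he
          exact hb rfl
        · exact hc (hsT i c ⟨j, hji, d, he.symm⟩)
      · obtain ⟨e, he⟩ := ParaFLib.exists_stalk_gen hM c
        have hb := bijective_of_mem_genLocus hM (not_not.1 hc)
        have he' : Function.Bijective fun t : (Γ i.1).curve.left.presheaf.stalk c =>
            t • stalkLin (s i) c (oneG c) := by
          rw [show (fun t : (Γ i.1).curve.left.presheaf.stalk c => t • stalkLin (s i) c (oneG c)) =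
            stalkLin (s i) c ∘ fun t => t • oneG c from funext fun t => (map_smul _ t _).symm]
          exact hb.comp (bijective_oneG c)
        refine ⟨1, one_mem _, ?_, _, he', (one_smul _ _).symm⟩
        rw [IdealStalkLib.stalkIdeal_comap, htop _ (fun b hb' => ?_), Ideal.map_top, Ideal.span_singleton_one]
        obtain ⟨j, d, hd'⟩ := b
        by_cases hji : j = i
        · subst hji
          exact hc ((g j).isEmbedding.injective hb' ▸ hd')
        · exact hd' (hsT j d ⟨i, Ne.symm hji, c, hb'.symm⟩)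
    exact ⟨AmpleLib.pullTensor (g i) (ClSub.idealMod J) N ≪≫ φ⟩
  have hTinv := AmpleLib.isInvertible_tensor hJinv hN
  obtain ⟨ψ⟩ := hpic _ hTinv fun E q hq => by
    haveI := E.isIntegral
    haveI := E.isClosedImmersion
    haveI := CastLib.isProper_vertComp E
    obtain ⟨i, hi⟩ := hcomp E q hq
    have hpos : 0 < a i := by
      obtain ⟨j, d, hjd⟩ := hcov (q (genericPoint E.curve.left))
      by_contra hai
      have hij : j.1 ≠ i := fun h => hai (h ▸ j.2)
      refine hij (hΓ ?_)
      show Set.range (Γ j.1).ι = Set.range (Γ i).ι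
      rw [← hi]
      have hgen' : (Γ j.1).ι d = Models.genPtOf R X E := by
        rw [← hgι, hjd, ← Scheme.Hom.comp_apply, hq]; rfl
      have hsp : Models.genPtOf R X (Γ j.1) ⤳ Models.genPtOf R X E :=
        hgen' ▸ (genericPoint_specializes d).map (Γ j.1).ι.continuous
      rw [CastLib.range_vertComp, CastLib.range_vertComp]
      by_contra hne
      have h3 := S8909.succ_le hsp (fun h => hne (by rw [h]))
      rw [hV.coheight_genPtOf, hV.coheight_genPtOf] at h3
      exact absurd h3 (by decide)
    obtain ⟨φ⟩ := hiso ⟨i, hpos⟩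
    have hk : E.ι.ker = (Γ i).ι.ker := by
      rw [CastLib.ker_vertComp, CastLib.ker_vertComp, CastLib.genPtOf_eq_of_range hi]
    let θ : E.curve.left ⟶ (Γ i).curve.left := IsClosedImmersion.lift (Γ i).ι E.ι hk.ge
    have hθ : θ ≫ g ⟨i, hpos⟩ = q := by
      rw [← cancel_mono ι, Category.assoc, hg, IsClosedImmersion.lift_fac, hq]
    let χ : (Scheme.Modules.pullback q).obj (CohB1.tensorMod (ClSub.idealMod J) N) ≅ Coh.structureModule _ :=
      (Scheme.Modules.pullbackCongr hθ.symm).app _ ≪≫ ((Scheme.Modules.pullbackComp θ _).app _).symm ≪≫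
        (Scheme.Modules.pullback θ).mapIso φ ≪≫ AmpleLib.pullO θ
    rw [CastLib.curveDeg_iso (k := K) (CastLib.dim_vertComp E) χ, ArSurf.curveDeg, sub_self]
  obtain ⟨t, ht⟩ := AVLib.exists_section_genLocus_compl hJ hN ⟨AmpleLib.comm N (ClSub.idealMod J) ≪≫ ψ⟩
  refine isGloballyGenerated_of_section hdim hH1 hN t
    (C := Set.range fun b : Σ i : I, bad i => g b.1 b.2.1) (Set.finite_range _) ?_ fun w hw => ?_
  · rintro _ ⟨⟨i, c, hc⟩, rfl⟩
    show IsClosed ({g i c} : Set (divIdeal Γ a).subscheme)
    rw [← Set.image_singleton (f := g i)]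
    exact (g i).isClosedEmbedding.isClosedMap _ ((hbad i).2 c hc)
  · rw [ht]
    exact fun h => (H1ZeroLib.mem_support_iff_stalk J w).1 h (htop w fun b hb => hw ⟨b, hb⟩)

end Groth.Agent.CanonFac
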