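import Groth.Agent.CanonFacLib.Supported
import Groth.Agent.CanonFacLib.Genus
import Groth.Agent.HilbObsLib.Ideal

/-!
# Vanishing on vertical divisors without first cohomology
-/

set_option autoImplicit false
set_option backward.isDefEq.respectTransparency false
set_option linter.style.haveILetI false
set_option linter.unusedSectionVars false
set_option maxHeartbeats 1000000

universe u

open CategoryTheory CategoryTheory.Limits AlgebraicGeometry TopologicalSpace Opposite
open Groth.Agent.PullbackMod Groth.Agent.DCohLib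
open Groth.Agent.H1ZeroLib Groth.Agent.TwistShriek

noncomputable section

namespace Groth.Agent.CanonFac

/-- A nonempty scheme has a nonzero function. -/
theorem nontrivial_H0 (W : Scheme.{u}) [Nonempty W] : Nontrivial (Coh.HH W (Coh.structureModule W) 0) := by
  let e₀ : Coh.HH W (Coh.structureModule W) 0 ≃+ Γ(Coh.structureModule W, ⊤) :=
    (CohBase.HHEquiv _ 0).trans (CohBase.H0Equiv (⊤ : W.Opens) (Coh.toAb _))
  haveI : Nonempty (⊤ : W.Opens) := ⟨⟨Classical.arbitrary W, trivial⟩⟩
  haveI : Nontrivial Γ(Coh.structureModule W, ⊤) := inferInstanceAs (Nontrivial Γ(W, ⊤))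
  exact e₀.toEquiv.nontrivial

/-- First cohomology of functions only drops on closed subschemes of a curve. -/
theorem subsingleton_H1_closed {V W : Scheme.{u}} [IsNoetherian W] (h : V ⟶ W) [IsClosedImmersion h]
    (hdim : topologicalKrullDim W ≤ 1) (hW : Subsingleton (Coh.HH W (Coh.structureModule W) 1)) :
    Subsingleton (Coh.HH V (Coh.structureModule V) 1) := by
  let φ := ClSub.toSubscheme h.ker
  haveI : Epi φ := HilbObsLib.epi_toSubscheme _
  have hS := kerSeq_shortExact φ ((epi_iff_stalk φ).1 inferInstance)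
  haveI : IsLocallyNoetherian h.ker.subscheme := LocallyOfFiniteType.isLocallyNoetherian h.ker.subschemeι
  haveI : Coh.IsQCoh (Coh.structureModule h.ker.subscheme) :=
    InvExt.isQCoh_of_isInvertible ParaFLib.isInvertible_structureModule
  have h3 : Subsingleton (Coh.HH W (ClSub.quotMod h.ker) 1) :=
    CMRegLib.subsingleton_right (S := kerSeq φ) hS 1 hW
      (CurveLib.subsingleton_HH_of_dim _ (d := 1) (by exact_mod_cast hdim) (by omega))
  obtain ⟨e, -⟩ := ProperFin.exists_pushEquiv h.ker.subschemeι (M := Coh.structureModule h.ker.subscheme)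
    (fun _ hV m => CohBase.affine_vanishing _ (hV.preimage h.ker.subschemeι) m) 1
  have h4 : Subsingleton (Coh.HH h.ker.subscheme (Coh.structureModule h.ker.subscheme) 1) :=
    e.toEquiv.subsingleton
  haveI : IsLocallyNoetherian V := LocallyOfFiniteType.isLocallyNoetherian h
  haveI : Coh.IsQCoh (Coh.structureModule h.ker.subscheme) :=
    InvExt.isQCoh_of_isInvertible ParaFLib.isInvertible_structureModule
  exact CurveLib.subsingleton_HH_iso (AmpleLib.pullO h.toImage) 1
    (subsingleton_HH_pullback h.toImage (Coh.structureModule h.ker.subscheme) 1 h4)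

variable {R : Type u} [CommRing R] [IsDomain R] [IsDiscreteValuationRing R] {X : Over (Spec (CommRingCat.of R))} {r : ℕ}

local notation "K" => IsLocalRing.ResidueField R

theorem nonempty_divIdeal (Γ : Fin r → ArSurf.VertComp R X) {a : Fin r → ℕ} (ha : a ≠ 0) :
    Nonempty (divIdeal Γ a).subscheme := by
  obtain ⟨i, hi⟩ := Function.ne_iff.1 ha
  have hi' : 0 < a i := Nat.pos_of_ne_zero hi
  haveI := (Γ i).isClosedImmersion
  haveI := (Γ i).isIntegral
  exact ⟨IsClosedImmersion.lift (divIdeal Γ a).subschemeι (Γ i).ι (by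
    rw [Scheme.IdealSheafData.ker_subschemeι]
    exact (divIdeal_peel Γ a hi').le.trans (TwistShriek.mul_le_left' _ _)) (genericPoint (Γ i).curve.left)⟩

theorem divIdeal_le (Γ : Fin r → ArSurf.VertComp R X) {a b : Fin r → ℕ} (hab : b ≤ a) :
    divIdeal Γ a ≤ divIdeal Γ b := by
  have : divIdeal Γ a = divIdeal Γ (fun j => a j - b j) * divIdeal Γ b := by
    rw [divIdeal, divIdeal, divIdeal, ← Finset.prod_mul_distrib]
    exact Finset.prod_congr rfl fun j _ => by rw [← pow_add, Nat.sub_add_cancel (hab j)]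
  exact this.le.trans (TwistShriek.mul_le_right' _ _)

variable (hX : ArSurf.IsArithSurface R X) {ω : X.left.Modules} (hω : Canon.IsCanonical X.hom ω)
  (Γ : Fin r → ArSurf.VertComp R X)
  (hΓ : Function.Injective fun i => Set.range ((Γ i).ι.base : (Γ i).curve.left → X.left))
  {L : Fin r → X.left.Modules} (hL : ∀ j, ClSub.IsInverseOf (L j) (ClSub.idealMod (Γ j).ι.ker))
  (a : Fin r → ℕ) (hH1 : Subsingleton (Coh.HH (divIdeal Γ a).subscheme (Coh.structureModule (divIdeal Γ a).subscheme) 1))

include hX hω hΓ hL hH1 in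
/-- Every part of a divisor without first cohomology has negative arithmetic degree. -/
theorem neg_of_h1 (b : Fin r → ℕ) (hb : b ≤ a) (hb0 : b ≠ 0) :
    ∑ i, (b i : ℤ) * (∑ j, (b j : ℤ) * ArSurf.inter R X (L j) (Γ i) + ArSurf.inter R X ω (Γ i)) < 0 := by
  letI : X.left.Over (Spec (CommRingCat.of R)) := ⟨X.hom⟩
  haveI := (SurfPtBlow.arSurf_facts hX).1
  haveI := (SurfPtBlow.arSurf_facts hX).2
  obtain ⟨hnoe, hdim, -, -⟩ := divIdeal_facts hX Γ a
  haveI := hnoe
  let h : (divIdeal Γ b).subscheme ⟶ (divIdeal Γ a).subscheme :=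
    IsClosedImmersion.lift (divIdeal Γ a).subschemeι (divIdeal Γ b).subschemeι
      (by rw [Scheme.IdealSheafData.ker_subschemeι, Scheme.IdealSheafData.ker_subschemeι]; exact divIdeal_le Γ hb)
  haveI : IsClosedImmersion h := by
    haveI : IsClosedImmersion (h ≫ (divIdeal Γ a).subschemeι) := by
      rw [IsClosedImmersion.lift_fac]; infer_instance
    exact IsClosedImmersion.of_comp h (divIdeal Γ a).subschemeι
  have h1 := subsingleton_H1_closed h hdim hH1
  haveI := nonempty_divIdeal Γ hb0
  have h0 := nontrivial_H0 (divIdeal Γ b).subscheme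
  haveI : IsLocallyNoetherian (divIdeal Γ b).subscheme := LocallyOfFiniteType.isLocallyNoetherian (divIdeal Γ b).subschemeι
  haveI : Coh.IsQCoh (Coh.structureModule (divIdeal Γ b).subscheme) :=
    InvExt.isQCoh_of_isInvertible ParaFLib.isInvertible_structureModule
  have hpush := fun n => ProperFin.exists_pushEquiv (divIdeal Γ b).subschemeι
    (M := Coh.structureModule (divIdeal Γ b).subscheme)
    (fun _ hV m => CohBase.affine_vanishing _ (hV.preimage (divIdeal Γ b).subschemeι) m) n
  obtain ⟨e0, -⟩ := hpush 0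
  obtain ⟨e1, -⟩ := hpush 1
  haveI : Nontrivial (Coh.HH X.left (ClSub.quotMod (divIdeal Γ b)) 0) := e0.symm.toEquiv.nontrivial
  haveI : Subsingleton (Coh.HH X.left (ClSub.quotMod (divIdeal Γ b)) 1) := by
    haveI := h1
    exact e1.symm.toEquiv.subsingleton
  have hfin := CastLib.finLen_prod (CastLib.VSurf.of_arith hX) Γ b
  have hχ : (0 : ℤ) < CastLib.chiLen R (ClSub.quotMod (divIdeal Γ b)) := by
    show (0 : ℤ) < ((Module.length R (Coh.HH X.left (ClSub.quotMod (divIdeal Γ b)) 0)).toNat : ℤ) -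
      (Module.length R (Coh.HH X.left (ClSub.quotMod (divIdeal Γ b)) 1)).toNat
    rw [show Module.length R (Coh.HH X.left (ClSub.quotMod (divIdeal Γ b)) 1) = 0 from Module.length_eq_zero,
      ENat.toNat_zero, Nat.cast_zero, sub_zero, Int.natCast_pos, Nat.pos_iff_ne_zero,
      ne_eq, ENat.toNat_eq_zero, not_or]
    exact ⟨(Module.length_pos (R := R)).ne', hfin 0 zero_le_one⟩
  have := two_chiLen_divIdeal hX hω Γ hΓ hL b
  linarith

include hX hω hΓ hL hH1 in
/-- Modules of non-negative degree have no first cohomology. -/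
theorem subsingleton_H1_nonneg (N : (divIdeal Γ a).subscheme.Modules) (hN : PicF.IsInvertible N)
    (hd : ∀ (i : Fin r) (g : (Γ i).curve.left ⟶ (divIdeal Γ a).subscheme), g ≫ (divIdeal Γ a).subschemeι = (Γ i).ι →
      0 ≤ ArSurf.curveDeg K (Γ i).curve.left ((Scheme.Modules.pullback g).obj N)) :
    Subsingleton (Coh.HH (divIdeal Γ a).subscheme N 1) := by
  classical
  have hneg := neg_of_h1 hX hω Γ hΓ hL a hH1
  clear hH1
  induction hn : ∑ j, a j using Nat.strong_induction_on generalizing a with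
  | _ n ih =>
  haveI := (SurfPtBlow.arSurf_facts hX).1
  haveI := (SurfPtBlow.arSurf_facts hX).2
  obtain ⟨hnoe, hdim, -, -⟩ := divIdeal_facts hX Γ a
  haveI := hnoe
  by_cases ha : a = 0
  · haveI : IsEmpty (divIdeal Γ a).subscheme := ⟨fun z => by
      have hz : (divIdeal Γ a).subschemeι z ∈ (divIdeal Γ a).support :=
        (Scheme.IdealSheafData.range_subschemeι _).le ⟨z, rfl⟩
      rw [H1ZeroLib.mem_support_iff_stalk, CastLib.stalkIdeal_prod'] at hz
      refine hz ((Finset.prod_eq_one fun j _ => ?_).trans Ideal.one_eq_top)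
      rw [show a j = 0 from congrFun ha j]; exact pow_zero _⟩
    obtain ⟨φ⟩ := trivial_of_isEmpty.2 N
    exact CurveLib.subsingleton_HH_iso φ.symm 1 trivial_of_isEmpty.1
  obtain ⟨i, hi, hineg⟩ : ∃ i, 0 < a i ∧
      ∑ j, (a j : ℤ) * ArSurf.inter R X (L j) (Γ i) + ArSurf.inter R X ω (Γ i) < 0 := by
    by_contra hno
    push Not at hno
    refine absurd (hneg a le_rfl ha) (not_lt.2 (Finset.sum_nonneg fun i _ => ?_))
    rcases Nat.eq_zero_or_pos (a i) with h | h
    · simp [h]
    · exact mul_nonneg (Nat.cast_nonneg _) (hno i h)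
  set a'' := Function.update a i (a i - 1) with ha''
  have ha''le : a'' ≤ a := fun j => by
    rcases eq_or_ne j i with rfl | h
    · rw [ha'', Function.update_self]; exact Nat.sub_le _ _
    · rw [ha'', Function.update_of_ne h]
  have hlt : ∑ j, a'' j < n := hn ▸ Finset.sum_lt_sum (fun j _ => ha''le j)
    ⟨i, Finset.mem_univ _, by rw [ha'', Function.update_self]; omega⟩
  obtain ⟨-, -, hJ'', -⟩ := divIdeal_facts hX Γ a''
  have hleC : divIdeal Γ a ≤ (Γ i).ι.ker := (divIdeal_peel Γ a hi).le.trans (TwistShriek.mul_le_left' _ _)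
  have hleB : divIdeal Γ a ≤ divIdeal Γ a'' := (divIdeal_peel Γ a hi).le.trans (TwistShriek.mul_le_right' _ _)
  set ι := (divIdeal Γ a).subschemeι with hιdef
  haveI := (Γ i).isClosedImmersion
  haveI := (Γ i).isIntegral
  haveI := CastLib.isProper_vertComp (Γ i)
  let g : (Γ i).curve.left ⟶ (divIdeal Γ a).subscheme :=
    IsClosedImmersion.lift ι (Γ i).ι (by rw [hιdef, Scheme.IdealSheafData.ker_subschemeι]; exact hleC)
  have hg : g ≫ ι = (Γ i).ι := IsClosedImmersion.lift_fac _ _ _
  haveI : IsClosedImmersion g := by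
    haveI : IsClosedImmersion (g ≫ ι) := hg ▸ inferInstance
    exact IsClosedImmersion.of_comp g ι
  let h : (divIdeal Γ a'').subscheme ⟶ (divIdeal Γ a).subscheme :=
    IsClosedImmersion.lift ι (divIdeal Γ a'').subschemeι
      (by rw [hιdef, Scheme.IdealSheafData.ker_subschemeι, Scheme.IdealSheafData.ker_subschemeι]; exact hleB)
  have hh : h ≫ ι = (divIdeal Γ a'').subschemeι := IsClosedImmersion.lift_fac _ _ _
  haveI : IsClosedImmersion h := by
    haveI : IsClosedImmersion (h ≫ ι) := hh ▸ inferInstance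
    exact IsClosedImmersion.of_comp h ι
  have hCk : g.ker = (Γ i).ι.ker.comap ι := ker_part g ι (Γ i).ι hg
  have hBk : h.ker = (divIdeal Γ a'').comap ι := by
    rw [ker_part h ι _ hh, Scheme.IdealSheafData.ker_subschemeι]
  have hCB : g.ker * h.ker = ⊥ := by
    rw [hCk, hBk, ← BlowCompLib.comap_mul, ← divIdeal_peel Γ a hi, hιdef]
    conv_lhs => arg 1; rw [← Scheme.IdealSheafData.ker_subschemeι (divIdeal Γ a)]
    rw [← Scheme.IdealSheafData.ker_fst_of_isClosedImmersion]
    haveI : IsIso (pullback.fst (divIdeal Γ a).subschemeι (divIdeal Γ a).subschemeι) := inferInstance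
    exact Scheme.Hom.ker_eq_bot_of_isIso _
  set M := (Scheme.Modules.pullback ι).obj (ClSub.idealMod (divIdeal Γ a'')) with hMdef
  obtain ⟨p₀, hp₀⟩ := exists_pull_surjective ι _ hJ''
  have hM : PicF.IsInvertible M := AmpleLib.isInvertible_pullback ι hJ''
  obtain ⟨p, hp⟩ : ∃ p : M ⟶ ClSub.idealMod h.ker, ∀ x, Function.Surjective (stalkLin p x) := by
    rw [hBk]; exact ⟨p₀, hp₀⟩
  have hdegM : ArSurf.curveDeg K (Γ i).curve.left ((Scheme.Modules.pullback g).obj M) =
      -∑ j, (a'' j : ℤ) * ArSurf.inter R X (L j) (Γ i) := by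
    rw [← inter_idealMod hX Γ hL a'' (Γ i), ArSurf.inter]
    exact CastLib.curveDeg_iso (k := K) (CastLib.dim_vertComp (Γ i))
      ((Scheme.Modules.pullbackComp g ι).app _ ≪≫ (Scheme.Modules.pullbackCongr hg).app _)
  have hsum : ∑ j, (a'' j : ℤ) * ArSurf.inter R X (L j) (Γ i) =
      ∑ j, (a j : ℤ) * ArSurf.inter R X (L j) (Γ i) - ArSurf.inter R X (L i) (Γ i) := by
    rw [eq_sub_iff_add_eq, ← Finset.add_sum_erase _ _ (Finset.mem_univ i),
      ← Finset.add_sum_erase _ (fun j => (a j : ℤ) * ArSurf.inter R X (L j) (Γ i)) (Finset.mem_univ i),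
      Finset.sum_congr rfl (fun j hj => by rw [ha'', Function.update_of_ne (Finset.ne_of_mem_erase hj)] :
        ∀ j ∈ Finset.univ.erase i, (a'' j : ℤ) * ArSurf.inter R X (L j) (Γ i) = (a j : ℤ) * ArSurf.inter R X (L j) (Γ i)),
      ha'', Function.update_self, Nat.cast_sub hi]
    push_cast; ring
  refine h1_extend hdim hCB hM p hp hN (subsingleton_part g (AmpleLib.isInvertible_tensor hM hN) 1 ?_)
    (subsingleton_part h hN 1 ?_)
  · refine subsingleton_H1_of_deg hX hω (Γ i) (hL i) (AmpleLib.isInvertible_pullback g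
      (AmpleLib.isInvertible_tensor hM hN)) ?_
    rw [CastLib.curveDeg_iso (k := K) (CastLib.dim_vertComp (Γ i)) (AmpleLib.pullTensor g M N),
      CastLib.curveDeg_tensor (CastLib.dim_vertComp (Γ i)) (AmpleLib.isInvertible_pullback g hM)
        (AmpleLib.isInvertible_pullback g hN), hdegM, hsum]
    linarith [hd i g hg]
  · refine ih _ hlt a'' _ (AmpleLib.isInvertible_pullback h hN) (fun l q hq => ?_)
      (fun b hb hb0 => hneg b (hb.trans ha''le) hb0) rfl
    haveI := CastLib.isProper_vertComp (Γ l)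
    refine (hd l (q ≫ h) (by rw [Category.assoc, hh, hq])).trans_eq ?_
    exact (CastLib.curveDeg_iso (k := K) (CastLib.dim_vertComp (Γ l)) ((Scheme.Modules.pullbackComp q h).app N)).symm

end Groth.Agent.CanonFac
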